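import Cfsg.Agent.N2.Sp2.MdSuz_m3
import Cfsg.Agent.TAB.F22.Dat
import Cfsg.Agent.TAB.F23.Tab
import Cfsg.Agent.TAB.J4.RkD_m3
import Cfsg.Agent.N2.Ex.K.Tor_m3
import Cfsg.Agent.N2.G2.Why_m3
import Cfsg.Agent.S0482
import Cfsg.Agent.S1730
import Cfsg.Agent.S1765
import Cfsg.Agent.Omega.Quasithin.Table_mg
import Cfsg.Agent.QTKE.Final
import Cfsg.Agent.H427.Fc.AltA
import Cfsg.Agent.H583.SecRank
import Cfsg.Agent.ClassicalGeometry.PSL2Basic
import Cfsg.Agent.N2.Cl.RAlt.Tri_m3
import Cfsg.Agent.TH.Spor.EngC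
import Cfsg.Agent.H366.AlmostSimple
import Cfsg.Agent.SolvableStructure.HallConverse
import Cfsg.Agent.S3719
import Cfsg.Agent.S0243
import Cfsg.Agent.S2119
import Cfsg.Agent.SmallSimple.S1000.PSLFacts
import Cfsg.Agent.H93.ThreeNine
import Cfsg.Agent.H824.ProdLem
import Cfsg.Agent.N2.Sp2.MdCo3_m3
import Cfsg.Agent.H134.Syl.Wr
import Cfsg.Agent.TypeM.FactsLy
import Cfsg.Agent.TH.Spor.InA_m3
import Cfsg.Agent.N2.Tool
import Cfsg.Agent.TH.Sim.Alt
import Cfsg.Agent.TH.Ex.Ab.Defs_m3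
import Cfsg.Agent.FastGrp
import Cfsg.Agent.Prune
set_option linter.all false

section
prune_inst 0x7f00000000000000000000000000000000000000000000000000000000000000000000000000000000000000000000000000000000000000000000000000000000000000000000000000000000000000003fffffffffffffffffffffffffffbeffbdffffffff

section
prune_inst 0xfffffdfbaf7fdfffff7ffffff9dfffb3e6cfffefdffbfbffeffbbfbfffa3b7bbedfbaffdf0f8ff9ef7e6be38b87853fbfffeffe86ffc7ffffdfff45ffbee4ff5f7bd0971d79c3e1fbe6fffe3f17fce7f000000000000000000000000000041004200000000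

-- part: N2/Sp/GFi22
section
prune_inst 0x20450802000008000000620004c183000102004040010044040005c4840120450020f070061001941464507ac04000100179003000002000ba00411b00a0842f68e2863c1e04190001c0e803180c00000000000000000000000000000000000000000
set_option linter.all false

/-- decoders of the packed data (elaboration time only) -/
private noncomputable def pk61d (b S i : Nat) : Nat := Nat.mod (Nat.shiftRight S (Nat.mul b i)) (Nat.shiftLeft (nat_lit 1) b)
private noncomputable def pk61c {α : Type} (t : Nat) (a : α) (f : Nat → α) : α := Nat.rec a (fun k _ => f k) t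
private noncomputable def pk61f {α : Type} (t : Nat) (f : Nat → α) : α := Nat.rec (f Nat.zero) (fun k _ => f (Nat.succ k)) t
private noncomputable def pk61l {α : Type} (f : Nat → α) (s e : Nat) (tl : List α) : List α :=
  pk61f e fun e => Nat.rec tl (fun k ih => List.cons (pk61f (Nat.sub e (Nat.succ k)) f) ih) (Nat.sub e s)
private noncomputable def pk61o {α : Type} (O : (n : Nat) → OfNat α n → α) (I : (n : Nat) → OfNat α n) (t : Nat) : α :=
  pk61c t (O (nat_lit 0) (I (nat_lit 0))) fun k => O (Nat.succ k) (I (Nat.succ k))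

/-!
# N2 (S3519), sporadic rows: Fi22 (helper16; generated by notes/N2/sp16/emit.py.txt)

Types which are left, with order, letter in the order of the table, and bound for the fixed points: 1 = 2a (1769472),
      2 = 2b (53084160), 3 = 2c (18393661440), 4 = 3a (17496), 5 = 3b (2519424), 6 = 3c (139968), 7 = 3d (19595520),
      8 = 4a (4608), 9 = 4b (12288), 10 = 4c (3072), 11 = 4d (46080), 12 = 4e (110592), 13 = 5a (600), 15 = 6b
      (3456), 17 = 6d (3456), 18 = 6e (864), 19 = 6f (3888), 20 = 6g (10368), 21 = 6h (1728), 22 = 6i (6912), 23 = 6j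
      (93312), 24 = 6k (155520), 40 = 12e (576), 45 = 12j (864).
-/

set_option autoImplicit false
set_option Elab.async false
set_option maxRecDepth 4000

namespace Cfsg.Agent.N2.Sp.Fi22

open Cfsg Cfsg.Agent.FP3 Cfsg.Agent.TAB.Eng Cfsg.Agent.TAB.Use

/-- the data -/
abbrev D : Dat := TAB.F22.dat

/-- the table -/
noncomputable abbrev R : Rows := (TAB.Sm2.mkRows TAB.F22.rowA TAB.F22.rowB)

/-- the densities -/
def nu : List ℕ :=
  (by
  refine (?fq9001 : (fun (On : (n : Nat) → OfNat Nat n → Nat) (In : (n : Nat) → OfNat Nat n) => ((pk61l (fun i1 => (pk61o On In (pk61d (nat_lit 44) 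
    (nat_lit 0x1f510ad00001392a6c20001392a6c20005568a9200002cbceae00002ef9903800008b2f4c80001a18de580001165e9900001d5bfa230001f510ad0000431b60500009089bbc000001165e9900003431bcb00009c953610000686379600001a18de580001a18de580009c9536100006863796000068637960001a18de580005568a9200000fa88568000177cc81c00002e6519800005cca33000022cbd320000027254d8400027254d84000756fe88c001d5bfa23000165e757000000018be7400000293d6c000022cbd3200008b2f4c8000017328cc00003ddc2200001165e99000004597a6400022cbd32000004597a640004597a640000190da2400000022cbd3200005382c780004e4a9b080001392a6c20003431bcb00000003246000001b7e480000001870400000dbf2400000000000db600000128ed7000022cbd3200000000001) i1))) (nat_lit 0) (nat_lit 59) List.nil) : List ℕ))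
    = ?xq9001 → (List ℕ)) ?hq9001; (case hq9001 => (set_option maxRecDepth 1000000 in conv => lhs; reduce)); intro _; exact ?xq9001 (@OfNat.ofNat Nat) instOfNatNat : List ℕ)

/-- type, lower and upper bound for the order -/
noncomputable def O : Out :=
  (by
  refine (?fq9002 : (fun (On : (n : Nat) → OfNat Nat n → Nat) (In : (n : Nat) → OfNat Nat n) => ((pk61l (fun i1 => (_root_.Prod.mk (pk61o On In (pk61d (nat_lit 6) 
    (nat_lit 0x2da286175955134913cd30b289207185103081) i1)) (_root_.Prod.mk (pk61o On In (pk61d (nat_lit 21) 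
    (nat_lit 0x7d1ff3e8ffca25e400002000010006200c384000740044b0c38280187400c3a527ae0000080000401166000230014a0000040000200001000068000040000200001) i1)) (pk61o On In (pk61d (nat_lit 21) 
    (nat_lit 0x2e57b1165e9) (pk61d (nat_lit 1) 
    (nat_lit 0x7fffff) i1)))))) (nat_lit 0) (nat_lit 25) List.nil) : Out))
    = ?xq9002 → (Out)) ?hq9002; (case hq9002 => (set_option maxRecDepth 1000000 in conv => lhs; reduce)); intro _; exact ?xq9002 (@OfNat.ofNat Nat) instOfNatNat : Out)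

/-- the types -/
def S : List ℕ := [1, 2, 3, 4, 5, 6, 7, 8, 9, 10, 11, 12, 13, 15, 17, 18, 19, 20, 21, 22, 23, 24, 40, 45]

/-- steps -/
noncomputable def l0_0 : List St :=
  (by
  refine (?fq9003 : ((pk61l (fun i1 => (pk61f (pk61d (nat_lit 2) 
    (nat_lit 0x384) i1) fun u21 => (pk61f (pk61d (nat_lit 1) 
    (nat_lit 0x1b) i1) fun t1_1 => (pk61c (Nat.div t1_1 (nat_lit 1)) (_root_.Cfsg.Agent.N2.Sp.St.pw (nat_lit 55) (nat_lit 2)) fun _ => (_root_.Cfsg.Agent.N2.Sp.St.fk (pk61d (nat_lit 6) 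
    (nat_lit 0x2f8ee) u21) ((fun g1 : Nat → Nat => pk61l (fun i2 => (_root_.Prod.mk (pk61d (nat_lit 47) 
    (nat_lit 0x48c28c15c12a541fcb2c135c95a0ff8fee88ed7df0356ed1da441ac224e17e14b40a21ab0feef8706bdaf3107a4000b330329611054f9b5fac7dba984648a4ac2471de1a18a3d8a8b0f2bbeb50497304d127e1dd97b8941d36a24d3188055fb6f28ae518bb793be6bac54ea46e11c57a341696d972d4ddc92cd7cde525fd960d100da36e43d37f9aa51a8c79b52a0fe59609ae4fbe04a0d6389a6df9684221571b68cc9d6299282b996483ff8c64e3b507776bdc37030fe2ea3c83682414766d5b5c21d62cbe19fc52a4c380164864fa9c0adaa0a13826eec0415741b1fa6e816dde843d2a84028a1c780c03a90bdaf8be036700d256580d0a86ce71c844b4859ebd903add500b2e203911e1e5604121a05c15d606945e8b84f404f88c27d8921c96b23e52d6d79883d200008c733cee1a618be4ccbbd682fc1d674b3d4b3de6a6da2f8dcb2b091a6202063479d4782bf472b025d07ed25aed13181e149280dc34c2aad627690025cecb1f2b81ec8a37389a01b2a23922b400cec9fa373a06f1b54763ad0e7bc032121942182de6e6a08d19083e0626bae60a6a2c034c874577538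e9f8edb87b155506faf4bca1c53c23d011cef0d1e712e50e08907cd1fe113dbd7b7e1d6bcc41e90002bcd14b5d7e1235be0efeefd6a7918fc953e940e1374627923bb697c95b38de71656f6f45329f6a719277c01bf7c74891885b29377926967c303eb4decde2b9fb43aa010eb576834aabaff1e58e13bcc4a45d119246d133e41eab9536ecb060a5c9fe47789eceaaff47503511cd6265e3749d86b21f424c6914355b051ac6c56fe210a70a50deb8b492c2cf7110da60942bc050ebfe7725cdb34427c3bd5ea0264352076b0388cb17e2bfbf8f0373479284c1f0c333f662398e77fac1bb253d9baf9203850c321fc62eea311fd6ad16a243f7631af99fe7e95713d7785faaa75d4ca97d047a54010ff22d6d00b873ccebc9df1dfbcf5212297faebcfb00d89cb9e7dcc859487602855af3107a400004cf0943636c181de110a8d4e42197e814712b3e16a8ecc) i2) (pk61d (nat_lit 6) 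
    (nat_lit 0xeb9e37db5d33cb1c2fbadb2baa9a279a59238a181f79d71b6996175954d244f34b285eb8df6d32c6fbadb29a279648e06585d6554347eb9e37db3cb1c2fbadaeaa279a48e28607de71859448b23ae37db4cf2c70beeb6aa689a592381f60d185) i2))) (g1 u21) (g1 (Nat.succ u21)) List.nil) fun j => (pk61d (nat_lit 8) 
    (nat_lit 0x8052381900) j)) (nat_lit 0) (pk61d (nat_lit 32) 
    (nat_lit 0xe19c21af330d80f781773c317c36e45e) u21) ((fun g1 : Nat → Nat => pk61l (fun i2 => (_root_.Prod.mk (pk61d (nat_lit 3) 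
    (nat_lit 0x7be) i2) (pk61d (nat_lit 2) 
    (nat_lit 0x95) i2))) (g1 u21) (g1 (Nat.succ u21)) List.nil) fun j => (pk61d (nat_lit 3) 
    (nat_lit 0x4888) j)) ((fun g1 : Nat → Nat => pk61l (fun i2 => (_root_.Prod.mk (pk61d (nat_lit 19) 
    (nat_lit 0x8000f000130014500005d4d5c003100b0700172007740000801c1) i2) (_root_.Prod.mk (pk61d (nat_lit 6) 
    (nat_lit 0xeb9e35d51e32ca6d62) i2) (pk61d (nat_lit 3) 
    (nat_lit 0x4dd4db492) i2)))) (g1 u21) (g1 (Nat.succ u21)) List.nil) fun j => (pk61d (nat_lit 4) 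
    (nat_lit 0xc9620) j))))))) (nat_lit 0) (nat_lit 5) List.nil) : List St)
    = ?xq9003 → (List St)) ?hq9003; (case hq9003 => (set_option maxRecDepth 1000000 in conv => lhs; reduce)); intro _; exact ?xq9003 : List St)

/-- steps -/
noncomputable def l1_0 : List St :=
  (by
  refine (?fq9004 : ((pk61l (fun i1 => (pk61f (pk61d (nat_lit 2) 
    (nat_lit 0x384) i1) fun u21 => (pk61f (pk61d (nat_lit 1) 
    (nat_lit 0x1b) i1) fun t1_1 => (pk61c (Nat.div t1_1 (nat_lit 1)) (_root_.Cfsg.Agent.N2.Sp.St.pw (nat_lit 55) (nat_lit 2)) fun _ => (_root_.Cfsg.Agent.N2.Sp.St.fk (pk61d (nat_lit 6) 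
    (nat_lit 0x2f8ee) u21) ((fun g1 : Nat → Nat => pk61l (fun i2 => (_root_.Prod.mk (pk61d (nat_lit 47) 
    (nat_lit 0x48c28c15c12a541fcb2c135c95a0ff8fee88ed7df0356ed1da441ac224e17e14b40a21ab0feef8706bdaf3107a4000b330329611054f9b5fac7dba984648a4ac2471de1a18a3d8a8b0f2bbeb50497304d127e1dd97b8941d36a24d3188055fb6f28ae518bb793be6bac54ea46e11c57a341696d972d4ddc92cd7cde525fd960d100da36e43d37f9aa51a8c79b52a0fe59609ae4fbe04a0d6389a6df9684221571b68cc9d6299282b996483ff8c64e3b507776bdc37030fe2ea3c83682414766d5b5c21d62cbe19fc52a4c380164864fa9c0adaa0a13826eec0415741b1fa6e816dde843d2a84028a1c780c03a90bdaf8be036700d256580d0a86ce71c844b4859ebd903add500b2e203911e1e5604121a05c15d606945e8b84f404f88c27d8921c96b23e52d6d79883d200008c733cee1a618be4ccbbd682fc1d674b3d4b3de6a6da2f8dcb2b091a6202063479d4782bf472b025d07ed25aed13181e149280dc34c2aad627690025cecb1f2b81ec8a37389a01b2a23922b400cec9fa373a06f1b54763ad0e7bc032121942182de6e6a08d19083e0626bae60a6a2c034c874577538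e9f8edb87b155506faf4bca1c53c23d011cef0d1e712e50e08907cd1fe113dbd7b7e1d6bcc41e90002bcd14b5d7e1235be0efeefd6a7918fc953e940e1374627923bb697c95b38de71656f6f45329f6a719277c01bf7c74891885b29377926967c303eb4decde2b9fb43aa010eb576834aabaff1e58e13bcc4a45d119246d133e41eab9536ecb060a5c9fe47789eceaaff47503511cd6265e3749d86b21f424c6914355b051ac6c56fe210a70a50deb8b492c2cf7110da60942bc050ebfe7725cdb34427c3bd5ea0264352076b0388cb17e2bfbf8f0373479284c1f0c333f662398e77fac1bb253d9baf9203850c321fc62eea311fd6ad16a243f7631af99fe7e95713d7785faaa75d4ca97d047a54010ff22d6d00b873ccebc9df1dfbcf5212297faebcfb00d89cb9e7dcc859487602855af3107a400004cf0943636c181de110a8d4e42197e814712b3e16a8ecc) i2) (pk61d (nat_lit 6) 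
    (nat_lit 0xeb9e37db5d33cb1c2fbadb2baa9a279a59238a181f79d71b6996175954d244f34b285eb8df6d32c6fbadb29a279648e06585d6554347eb9e37db3cb1c2fbadaeaa279a48e28607de71859448b23ae37db4cf2c70beeb6aa689a592381f60d185) i2))) (g1 u21) (g1 (Nat.succ u21)) List.nil) fun j => (pk61d (nat_lit 8) 
    (nat_lit 0x8052381900) j)) (nat_lit 0) (pk61d (nat_lit 33) 
    (nat_lit 0x8d01950d0ff4384d543aa167c9b449d75) u21) ((fun g1 : Nat → Nat => pk61l (fun i2 => (_root_.Prod.mk (pk61d (nat_lit 3) 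
    (nat_lit 0x7be) i2) (pk61d (nat_lit 2) 
    (nat_lit 0x95) i2))) (g1 u21) (g1 (Nat.succ u21)) List.nil) fun j => (pk61d (nat_lit 3) 
    (nat_lit 0x4888) j)) ((fun g1 : Nat → Nat => pk61l (fun i2 => (_root_.Prod.mk (pk61d (nat_lit 19) 
    (nat_lit 0x8000f000130014500005d4d5c003100b0700172007740000801c1) i2) (_root_.Prod.mk (pk61d (nat_lit 6) 
    (nat_lit 0xeb9e35d51e32ca6d62) i2) (pk61d (nat_lit 3) 
    (nat_lit 0x4dd4db492) i2)))) (g1 u21) (g1 (Nat.succ u21)) List.nil) fun j => (pk61d (nat_lit 4) 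
    (nat_lit 0xc9620) j))))))) (nat_lit 0) (nat_lit 5) List.nil) : List St)
    = ?xq9004 → (List St)) ?hq9004; (case hq9004 => (set_option maxRecDepth 1000000 in conv => lhs; reduce)); intro _; exact ?xq9004 : List St)

/-- steps -/
noncomputable def l2_0 : List St :=
  (by
  refine (?fq9005 : ((pk61l (fun i1 => (pk61f (pk61d (nat_lit 2) 
    (nat_lit 0x384) i1) fun u21 => (pk61f (pk61d (nat_lit 1) 
    (nat_lit 0x1b) i1) fun t1_1 => (pk61c (Nat.div t1_1 (nat_lit 1)) (_root_.Cfsg.Agent.N2.Sp.St.pw (nat_lit 55) (nat_lit 2)) fun _ => (_root_.Cfsg.Agent.N2.Sp.St.fk (pk61d (nat_lit 6) 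
    (nat_lit 0x2f8ee) u21) ((fun g1 : Nat → Nat => pk61l (fun i2 => (_root_.Prod.mk (pk61d (nat_lit 47) 
    (nat_lit 0x48c28c15c12a541fcb2c135c95a0ff8fee88ed7df0356ed1da441ac224e17e14b40a21ab0feef8706bdaf3107a4000b330329611054f9b5fac7dba984648a4ac2471de1a18a3d8a8b0f2bbeb50497304d127e1dd97b8941d36a24d3188055fb6f28ae518bb793be6bac54ea46e11c57a341696d972d4ddc92cd7cde525fd960d100da36e43d37f9aa51a8c79b52a0fe59609ae4fbe04a0d6389a6df9684221571b68cc9d6299282b996483ff8c64e3b507776bdc37030fe2ea3c83682414766d5b5c21d62cbe19fc52a4c380164864fa9c0adaa0a13826eec0415741b1fa6e816dde843d2a84028a1c780c03a90bdaf8be036700d256580d0a86ce71c844b4859ebd903add500b2e203911e1e5604121a05c15d606945e8b84f404f88c27d8921c96b23e52d6d79883d200008c733cee1a618be4ccbbd682fc1d674b3d4b3de6a6da2f8dcb2b091a6202063479d4782bf472b025d07ed25aed13181e149280dc34c2aad627690025cecb1f2b81ec8a37389a01b2a23922b400cec9fa373a06f1b54763ad0e7bc032121942182de6e6a08d19083e0626bae60a6a2c034c874577538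e9f8edb87b155506faf4bca1c53c23d011cef0d1e712e50e08907cd1fe113dbd7b7e1d6bcc41e90002bcd14b5d7e1235be0efeefd6a7918fc953e940e1374627923bb697c95b38de71656f6f45329f6a719277c01bf7c74891885b29377926967c303eb4decde2b9fb43aa010eb576834aabaff1e58e13bcc4a45d119246d133e41eab9536ecb060a5c9fe47789eceaaff47503511cd6265e3749d86b21f424c6914355b051ac6c56fe210a70a50deb8b492c2cf7110da60942bc050ebfe7725cdb34427c3bd5ea0264352076b0388cb17e2bfbf8f0373479284c1f0c333f662398e77fac1bb253d9baf9203850c321fc62eea311fd6ad16a243f7631af99fe7e95713d7785faaa75d4ca97d047a54010ff22d6d00b873ccebc9df1dfbcf5212297faebcfb00d89cb9e7dcc859487602855af3107a400004cf0943636c181de110a8d4e42197e814712b3e16a8ecc) i2) (pk61d (nat_lit 6) 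
    (nat_lit 0xeb9e37db5d33cb1c2fbadb2baa9a279a59238a181f79d71b6996175954d244f34b285eb8df6d32c6fbadb29a279648e06585d6554347eb9e37db3cb1c2fbadaeaa279a48e28607de71859448b23ae37db4cf2c70beeb6aa689a592381f60d185) i2))) (g1 u21) (g1 (Nat.succ u21)) List.nil) fun j => (pk61d (nat_lit 8) 
    (nat_lit 0x8052381900) j)) (nat_lit 0) (pk61d (nat_lit 33) 
    (nat_lit 0xb041fa5093f14660994949c1ac215c4d3) u21) ((fun g1 : Nat → Nat => pk61l (fun i2 => (_root_.Prod.mk (pk61d (nat_lit 3) 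
    (nat_lit 0x7be) i2) (pk61d (nat_lit 2) 
    (nat_lit 0x95) i2))) (g1 u21) (g1 (Nat.succ u21)) List.nil) fun j => (pk61d (nat_lit 3) 
    (nat_lit 0x4888) j)) ((fun g1 : Nat → Nat => pk61l (fun i2 => (_root_.Prod.mk (pk61d (nat_lit 19) 
    (nat_lit 0x8000f000130014500005d4d5c003100b0700172007740000801c1) i2) (_root_.Prod.mk (pk61d (nat_lit 6) 
    (nat_lit 0xeb9e35d51e32ca6d62) i2) (pk61d (nat_lit 3) 
    (nat_lit 0x4dd4db492) i2)))) (g1 u21) (g1 (Nat.succ u21)) List.nil) fun j => (pk61d (nat_lit 4) 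
    (nat_lit 0xc9620) j))))))) (nat_lit 0) (nat_lit 5) List.nil) : List St)
    = ?xq9005 → (List St)) ?hq9005; (case hq9005 => (set_option maxRecDepth 1000000 in conv => lhs; reduce)); intro _; exact ?xq9005 : List St)

/-- steps -/
noncomputable def l3_0 : List St :=
  (by
  refine (?fq9006 : ((pk61l (fun i1 => (pk61f (pk61d (nat_lit 2) 
    (nat_lit 0x384) i1) fun u21 => (pk61f (pk61d (nat_lit 1) 
    (nat_lit 0x1b) i1) fun t1_1 => (pk61c (Nat.div t1_1 (nat_lit 1)) (_root_.Cfsg.Agent.N2.Sp.St.pw (nat_lit 55) (nat_lit 2)) fun _ => (_root_.Cfsg.Agent.N2.Sp.St.fk (pk61d (nat_lit 6) 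
    (nat_lit 0x2f8ee) u21) ((fun g1 : Nat → Nat => pk61l (fun i2 => (_root_.Prod.mk (pk61d (nat_lit 47) 
    (nat_lit 0x1230a305704a9507f2cb04d725683fe3fba23b5f7c0d5bb4769106b089385f852d02886ac3fbbe1c1af6bcc41e90002ccc0ca5844153e6d7eb1f6ea61192292b091c77868628f62a2c3caefad4125cc13449f87765ee25074da8934c620157edbca2b9462ede4ef9aeb153a91b84715e8d05a5b65cb537724b35f379497f6583440368db90f4dfe6a946a31e6d4a83f965826b93ef8128358e269b7e5a108855c6da332758a64a0ae65920ffe31938ed41dddaf70dc0c3f8ba8f20da09051d9b56d708758b2f867f14a930e00592193ea702b6a8284e09bbb01055d06c7e9ba05b77a10f4aa100a2871e0300ea42f6be2f80d9c03495960342a1b39c72112d2167af640eb75402cb880e447879581003e0014ef1e041532c28d803fdae4598e083bc1b7cd19d0f50eab77f076bcc41e90000333d3cf318f8c8adb05aadd18306ce5df46575635cc365c65d0cb53c958bd215c89e041e152f430eb402da9735c7dd325dbea66240219a89cbbeb037c63b92000080df160bcc404de5ceb96ba2e4889a8e762875914291ca0f5dca1da608d65528a077103c70e63d0be1d264aee1094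93473360d3bc0634a04146e9a8fc6d1da1e104f29259e3c195afe5bf94e1b2f46203a35af3107a40003c7a85e23960822828cbfd08e8852d94e761c52967bd71a603ca01d84705e238d306530f5b529c4cc40cdc026ba57e20c1facc50e687ead986be6814eadd88c95002f75b2976e0c4270ebe1383d3fa2ed06886ab6a7e01488450c100a76d1b0e1ae7907a347697e6edac357c60096f4ab9f3e72e4f245c5a5ce21383fe2b8daeb901fe009d2fde1722dd8390b43a1d7973550479b4196cf98cd8b4503baf993f446065a3038872a482bf06c11c4851bcc366b25707459d87a28e37e535a87a2d040a43a261dd0e6c130662bffc729c3eac8bc0112608a8baca00f5b4843b902d79883d20002af7267e090b) i2) (pk61d (nat_lit 6) 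
    (nat_lit 0xeb9e37db5d33cb1c2fbadb2baa9a279a59238a181f79d71b6996175954d244f34b285eb9e37db4cb1beeb69a2796381961759550d1fae78df6cf2c70beeb6baa89e692181f79859234b23ae74cf2c6fbadb29a2581f34a184) i2))) (g1 u21) (g1 (Nat.succ u21)) List.nil) fun j => (pk61d (nat_lit 7) 
    (nat_lit 0x7690bc980) j)) (nat_lit 0) (pk61d (nat_lit 33) 
    (nat_lit 0xdc5278e4984f419ed994cfe1673a84077) u21) ((fun g1 : Nat → Nat => pk61l (fun i2 => (_root_.Prod.mk (pk61d (nat_lit 4) 
    (nat_lit 0x367d) i2) (pk61d (nat_lit 2) 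
    (nat_lit 0x95) i2))) (g1 u21) (g1 (Nat.succ u21)) List.nil) fun j => (pk61d (nat_lit 3) 
    (nat_lit 0x4888) j)) ((fun g1 : Nat → Nat => pk61l (fun i2 => (_root_.Prod.mk (pk61d (nat_lit 19) 
    (nat_lit 0x40007800098009c800047a6a4015e4004d5c83c) i2) (_root_.Prod.mk (pk61d (nat_lit 6) 
    (nat_lit 0x3ae78d75472c94) i2) (pk61d (nat_lit 3) 
    (nat_lit 0x26ea6d2) i2)))) (g1 u21) (g1 (Nat.succ u21)) List.nil) fun j => (pk61d (nat_lit 4) 
    (nat_lit 0x96310) j))))))) (nat_lit 0) (nat_lit 5) List.nil) : List St)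
    = ?xq9006 → (List St)) ?hq9006; (case hq9006 => (set_option maxRecDepth 1000000 in conv => lhs; reduce)); intro _; exact ?xq9006 : List St)

/-- steps -/
noncomputable def l4_0 : List St :=
  (by
  refine (?fq9007 : ((pk61l (fun i1 => (pk61f (pk61d (nat_lit 2) 
    (nat_lit 0x384) i1) fun u21 => (pk61f (pk61d (nat_lit 1) 
    (nat_lit 0x1b) i1) fun t1_1 => (pk61c (Nat.div t1_1 (nat_lit 1)) (_root_.Cfsg.Agent.N2.Sp.St.pw (nat_lit 55) (nat_lit 2)) fun _ => (_root_.Cfsg.Agent.N2.Sp.St.fk (pk61d (nat_lit 6) 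
    (nat_lit 0x2f8ee) u21) ((fun g1 : Nat → Nat => pk61l (fun i2 => (_root_.Prod.mk (pk61d (nat_lit 47) 
    (nat_lit 0x1230a305704a9507f2cb04d725683fe3fba23b5f7c0d5bb4769106b089385f852d02886ac3fbbe1c1af6bcc41e90002ccc0ca5844153e6d7eb1f6ea61192292b091c77868628f62a2c3caefad4125cc13449f87765ee25074da8934c620157edbca2b9462ede4ef9aeb153a91b84715e8d05a5b65cb537724b35f379497f6583440368db90f4dfe6a946a31e6d4a83f965826b93ef8128358e269b7e5a108855c6da332758a64a0ae65920ffe31938ed41dddaf70dc0c3f8ba8f20da09051d9b56d708758b2f867f14a930e00592193ea702b6a8284e09bbb01055d06c7e9ba05b77a10f4aa100a2871e0300ea42f6be2f80d9c03495960342a1b39c72112d2167af640eb75402cb880e447879581003e0014ef1e041532c28d803fdae4598e083bc1b7cd19d0f50eab77f076bcc41e90000333d3cf318f8c8adb05aadd18306ce5df46575635cc365c65d0cb53c958bd215c89e041e152f430eb402da9735c7dd325dbea66240219a89cbbeb037c63b92000080df160bcc404de5ceb96ba2e4889a8e762875914291ca0f5dca1da608d65528a077103c70e63d0be1d264aee1094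93473360d3bc0634a04146e9a8fc6d1da1e104f29259e3c195afe5bf94e1b2f46203a35af3107a40003c7a85e23960822828cbfd08e8852d94e761c52967bd71a603ca01d84705e238d306530f5b529c4cc40cdc026ba57e20c1facc50e687ead986be6814eadd88c95002f75b2976e0c4270ebe1383d3fa2ed06886ab6a7e01488450c100a76d1b0e1ae7907a347697e6edac357c60096f4ab9f3e72e4f245c5a5ce21383fe2b8daeb901fe009d2fde1722dd8390b43a1d7973550479b4196cf98cd8b4503baf993f446065a3038872a482bf06c11c4851bcc366b25707459d87a28e37e535a87a2d040a43a261dd0e6c130662bffc729c3eac8bc0112608a8baca00f5b4843b902d79883d20002af7267e090b) i2) (pk61d (nat_lit 6) 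
    (nat_lit 0xeb9e37db5d33cb1c2fbadb2baa9a279a59238a181f79d71b6996175954d244f34b285eb9e37db4cb1beeb69a2796381961759550d1fae78df6cf2c70beeb6baa89e692181f79859234b23ae74cf2c6fbadb29a2581f34a184) i2))) (g1 u21) (g1 (Nat.succ u21)) List.nil) fun j => (pk61d (nat_lit 7) 
    (nat_lit 0x7690bc980) j)) (nat_lit 0) (pk61d (nat_lit 33) 
    (nat_lit 0xf6be33189b398afd1ca62391a8186d7e8) u21) ((fun g1 : Nat → Nat => pk61l (fun i2 => (_root_.Prod.mk (pk61d (nat_lit 4) 
    (nat_lit 0x367d) i2) (pk61d (nat_lit 2) 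
    (nat_lit 0x95) i2))) (g1 u21) (g1 (Nat.succ u21)) List.nil) fun j => (pk61d (nat_lit 3) 
    (nat_lit 0x4888) j)) ((fun g1 : Nat → Nat => pk61l (fun i2 => (_root_.Prod.mk (pk61d (nat_lit 19) 
    (nat_lit 0x40007800098009c800047a6a4015e4004d5c83c) i2) (_root_.Prod.mk (pk61d (nat_lit 6) 
    (nat_lit 0x3ae78d75472c94) i2) (pk61d (nat_lit 3) 
    (nat_lit 0x26ea6d2) i2)))) (g1 u21) (g1 (Nat.succ u21)) List.nil) fun j => (pk61d (nat_lit 4) 
    (nat_lit 0x96310) j))))))) (nat_lit 0) (nat_lit 5) List.nil) : List St)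
    = ?xq9007 → (List St)) ?hq9007; (case hq9007 => (set_option maxRecDepth 1000000 in conv => lhs; reduce)); intro _; exact ?xq9007 : List St)

/-- steps -/
noncomputable def l5_0 : List St :=
  (by
  refine (?fq9008 : ((pk61l (fun i1 => (_root_.Cfsg.Agent.N2.Sp.St.fk (nat_lit 0) (pk61l (fun i2 => (_root_.Prod.mk (pk61d (nat_lit 30) 
    (nat_lit 0x43427250a49347a280b88a86dd23ba1b61355827604bebb2d9126bd638e4af58e392939f7c19eee0902329284c8b1c189e02eec107af3aebd8d23d395e5c227d73f1e1352642e890b48757405dd820e9c783937074118c5b3a5a2e1dccb8a47524627c752fc9cacd9c27b73a547b8e4f61ed7c31c65b71001932a1b0579ef95146fd1ec4f47c190e49765429343b407c23db8166f4e7052a1ff8148a5ca05489aec0e097a0036334340d4ef1103018a9c0c1070a023789c80799f1700c960140295a9700108d900012f34) i2) (pk61d (nat_lit 6) 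
    (nat_lit 0xeb9e37db5d33cb1c2fbadb2baa9a279a59238a181f79d71b69961759551349140f38d30b289207103) i2))) (nat_lit 0) (nat_lit 54) List.nil) (nat_lit 0) (nat_lit 1000000) List.nil List.nil)) (nat_lit 0) (nat_lit 1) List.nil) : List St)
    = ?xq9008 → (List St)) ?hq9008; (case hq9008 => (set_option maxRecDepth 1000000 in conv => lhs; reduce)); intro _; exact ?xq9008 : List St)

/-- steps -/
noncomputable def l6_0 : List St :=
  (by
  refine (?fq9009 : ((pk61l (fun i1 => (_root_.Cfsg.Agent.N2.Sp.St.fk (nat_lit 0) (pk61l (fun i2 => (_root_.Prod.mk (pk61d (nat_lit 27) 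
    (nat_lit 0x448c6be5994210a1e9440be41d21da155413d08bac419055cd2e02b40d3a34f3e4a2b0ecdd47eb7558fee66b0c8d6b5e6d59ab1a6b776052340d577469574523a3cca1d48262b24fdad30e482a719b853d2cca108483da708be51b1574524271a0e6429962ca41ce190139251a6b64a2fa7f085c027481ed2a006f2e9c0785b040f695002cc43208ab3d005f675c13a19385a444202a90940914ea80a752d0005df0) i2) (pk61d (nat_lit 6) 
    (nat_lit 0xeb9e37db5d33cb1c2fbadb2baa9a279a59238a181f79d71b6996175954d244f34b289144) i2))) (nat_lit 0) (nat_lit 48) List.nil) (nat_lit 0) (nat_lit 1000000) List.nil List.nil)) (nat_lit 0) (nat_lit 1) List.nil) : List St)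
    = ?xq9009 → (List St)) ?hq9009; (case hq9009 => (set_option maxRecDepth 1000000 in conv => lhs; reduce)); intro _; exact ?xq9009 : List St)

/-- steps -/
noncomputable def l7_0 : List St :=
  (by
  refine (?fq9010 : ((pk61l (fun i1 => (_root_.Cfsg.Agent.N2.Sp.St.fk (nat_lit 0) (pk61l (fun i2 => (_root_.Prod.mk (pk61d (nat_lit 27) 
    (nat_lit 0x245a5a624cf41e5c90f944eadea0a936750216e6f61ddb7f5947d7d8e93dfaaabb7553800de10ce06c900290794144f0544a2c87b5e1ab9efba866bf4698dc8d0dee9592a25be71ec2fea883dbed1c6635959c6192a2ada0533fb8d5d071795b8b2f19b94e441fb4b06dea4713b276e0e66b2220e31780dde8f81ff08a03badd0139b65019a60508969f50422c40184e738139006088019b) i2) (pk61d (nat_lit 6) 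
    (nat_lit 0x3ae78df6d74cf2c70beeb6caeaa689e69648e28607de75c6d96165544d240f38d285) i2))) (nat_lit 0) (nat_lit 45) List.nil) (nat_lit 0) (nat_lit 10000000) List.nil List.nil)) (nat_lit 0) (nat_lit 1) List.nil) : List St)
    = ?xq9010 → (List St)) ?hq9010; (case hq9010 => (set_option maxRecDepth 1000000 in conv => lhs; reduce)); intro _; exact ?xq9010 : List St)

/-- steps -/
noncomputable def l12_0 : List St :=
  (by
  refine (?fq9011 : ((pk61l (fun i1 => (_root_.Cfsg.Agent.N2.Sp.St.fk (pk61d (nat_lit 6) 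
    (nat_lit 0x20b0e) i1) ((fun g1 : Nat → Nat => pk61l (fun i2 => (_root_.Prod.mk (pk61d (nat_lit 47) 
    (nat_lit 0x6742f9fb00000f4485000002175ed2ec000109dbbca0000e6411d34000356fea1d0000535c160080007b71c1f380009d70519700014f23a5ee0001dfee11140004b596c7c0000c1b4f11f00006376cbfa000277de7ba400049825d6c8000a71f452b000005eff48c0001ac2a694c0000c8aeae2800096ccabd40000ccbdd56200015c28dd5400011d5552300002ba4af031e4729a60eb6d881baf4f3a5d89a7d1c455b7551d33e69a27b83414b00b6bcc41e900009ae234799051248870fa4543dae01a381409147f422d78938ffdb8e291477b3e949ad701c460964da03c1df10803d8ec235ec21b2020c181f46df01a68ae9bd6601470b8755fc1e866ee8cbc021fe09fa04f0889de308fd804fa36462ffed79883d20002fbb1f59486464db0824de34379a77815f658a13e99f5ca0aa866c1420b6d4b4299bb4cb8812c9a674c3cfffa499af15bef297fc0e0c3acc14fcdecaedbb4aabc61a5c3bd12d0daf3107a4000) i2) (pk61d (nat_lit 6) 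
    (nat_lit 0x3ae78df4cf2c70badaeaa689e692385f79634aeb9df6d33cb1bac9e471843ae34cb15c4078d74cf2c6fbadb242c6) i2))) (g1 i1) (g1 (Nat.succ i1)) List.nil) fun j => (pk61d (nat_lit 6) 
    (nat_lit 0x3d915340) j)) (nat_lit 0) (pk61d (nat_lit 47) 
    (nat_lit 0x4a817c80147ce7848ef681213323e222bd7c4ff36120) i1) ((fun g1 : Nat → Nat => pk61l (fun i2 => (_root_.Prod.mk (pk61d (nat_lit 6) 
    (nat_lit 0x243452a6) i2) (pk61d (nat_lit 2) 
    (nat_lit 0x1e5) i2))) (g1 i1) (g1 (Nat.succ i1)) List.nil) fun j => (pk61d (nat_lit 3) 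
    (nat_lit 0x5b08) j)) ((fun g1 : Nat → Nat => pk61l (fun i2 => (_root_.Prod.mk (pk61d (nat_lit 16) 
    (nat_lit 0x2b542) i2) (_root_.Prod.mk (pk61d (nat_lit 6) 
    (nat_lit 0xb54) i2) (nat_lit 2)))) (g1 i1) (g1 (Nat.succ i1)) List.nil) fun j => (pk61d (nat_lit 2) 
    (nat_lit 0x250) j)))) (nat_lit 0) (nat_lit 4) List.nil) : List St)
    = ?xq9011 → (List St)) ?hq9011; (case hq9011 => (set_option maxRecDepth 1000000 in conv => lhs; reduce)); intro _; exact ?xq9011 : List St)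

/-- steps -/
noncomputable def l13_0 : List St :=
  (by
  refine (?fq9012 : ((pk61l (fun i1 => (_root_.Cfsg.Agent.N2.Sp.St.fk (pk61d (nat_lit 6) 
    (nat_lit 0x20b0e) i1) ((fun g1 : Nat → Nat => pk61l (fun i2 => (_root_.Prod.mk (pk61d (nat_lit 47) 
    (nat_lit 0x102276e575800262b4c1f70053a6d01bfc00298a550db8023fa2c32ff008597c7eeb900d06634e5a801349c61c230018998c7ff900345d9165bf004afd31e8e200bc5f8d4dd001e44455e81800f8a8fb6bc0062bac251fc00b7c5e7b36001a1ce28b138000ed7e335a0042e69fc65e001f5b4ae5000178ffa9c1e001ffda9049d00366662085c002c95546450006d1bb46cf9224edc6868e6177d241d646ca31c248ba75a9511b990548411e4175a068db2ecccd0a422092d26d0b8c8c4b2f49040efc0cfcb2d9172244ac835edf3dcb9d5c791877a6fb78eccd15323275f1f86bf07ffe83d6e8a5adb70018b2d36ac3822779dc186a00b37e2e948c000a425b240c8ef1c9e427cdaf3107a400000db18f255f4037f89e7d7b801b5dfeb78880c3af32843401d1a94a20000015dc3e8130015f627dd51800faec90ab5016632f1ea7a01bddfade96401157119254805d2104e7a2) i2) (pk61d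 (nat_lit 6) 
    (nat_lit 0xeb9e37d33cb1c2eb6baa9a279a48e17de58d2bae77db4cf2c6fbac9e4610df4cb10c1e35d33c6fbac9102ca) i2))) (g1 i1) (g1 (Nat.succ i1)) List.nil) fun j => (pk61d (nat_lit 6) 
    (nat_lit 0x3a852300) j)) (nat_lit 0) (pk61d (nat_lit 47) 
    (nat_lit 0x1d1a94a20016bcc41e90000072e3ebea3380d87c16b4e7) i1) ((fun g1 : Nat → Nat => pk61l (fun i2 => (_root_.Prod.mk (pk61d (nat_lit 6) 
    (nat_lit 0x215c93c1) i2) (pk61d (nat_lit 2) 
    (nat_lit 0x1e5) i2))) (g1 i1) (g1 (Nat.succ i1)) List.nil) fun j => (pk61d (nat_lit 3) 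
    (nat_lit 0x5b08) j)) ((fun g1 : Nat → Nat => pk61l (fun i2 => (_root_.Prod.mk (pk61d (nat_lit 18) 
    (nat_lit 0x29c001b890dcf43a) i2) (_root_.Prod.mk (pk61d (nat_lit 6) 
    (nat_lit 0xb68214) i2) (nat_lit 2)))) (g1 i1) (g1 (Nat.succ i1)) List.nil) fun j => (pk61d (nat_lit 3) 
    (nat_lit 0x4440) j)))) (nat_lit 0) (nat_lit 4) List.nil) : List St)
    = ?xq9012 → (List St)) ?hq9012; (case hq9012 => (set_option maxRecDepth 1000000 in conv => lhs; reduce)); intro _; exact ?xq9012 : List St)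

/-- steps -/
noncomputable def l14_0 : List St :=
  (by
  refine (?fq9013 : ((pk61l (fun i1 => (_root_.Cfsg.Agent.N2.Sp.St.fk (pk61d (nat_lit 6) 
    (nat_lit 0x41d720b0e) i1) ((fun g1 : Nat → Nat => pk61l (fun i2 => (_root_.Prod.mk (pk61d (nat_lit 47) 
    (nat_lit 0x38d1f3eae30025cfc8f5600002de98edd8008730d4bff003cf5af9b3900bed073b6e0019c6c1a44dc023139935a9801241fb118e001f2380cd2800f0b224fc18022f8d8d1d38012149270fc009f7a75a7aa006a572406c400339be6006800d3068b6b1003f44dfbaee0193d9f0d9f800e4cea2e86854cd267c8a02c10989c32c21a4bf845c9d99fa9822d81136b50804cede5b06872758b24d22552f0ac877fc2b8293b916ad5b5da7c1b39820b501684022bb0d904648cd28d3bc0ca8ab52165e2004a70f12de0d8e5c75289c262073918ca24a88bf2954a3e64bdae71360ce6d7d305b806cbd9f06ac08a235a42eed01e67cc64db20e1d5b2fcf9823f13e8efd300716bac030608c4b6efe71e1b44aaf73f3807eb8319ca5807169343bc91aa060f5ce9d6bcc41e900001435995e9718168214353c6b5e620f480002ca0c7f61b6c20812d0593991741a32d22104dfd3d5cad4474a1699fa7c7a5abd3f0c7aa24eafb693b10c375ffe8fc2db1ba223610fbfb4b5f52f0063a519eb5d3c3a3f3ac33310efedfcc018a5fa5391d8ba01b91e31b984623c34c0ddac683f5c7d050315b58436cd3747149719b922984c3455e0625f81a71e0c46622a7f928b2c3154336a6269ae48e1552fdb3add57f0cab28754266c08748465768201cfae1713440082212181a8011f53ef1080000428cda32b5e620f480000266e299d1283e9ab4793b2080036ae6e5a11f886e183fa18d5716edea812e872f18fddaf3107a4000)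 i2) (pk61d (nat_lit 6) 
    (nat_lit 0x3ae78db3cb1c2fbadae9a279648a15bae37d33c2fbaa9a38a070f38707acb1beeb2ba247dd5c1db5d33bada689a559344d103eb9df6d33c6fbac9e4610d2fbab078c6c9102c6) i2))) (g1 i1) (g1 (Nat.succ i1)) List.nil) fun j => (pk61d (nat_lit 7) 
    (nat_lit 0xbb25baa3430380) j)) (nat_lit 0) (pk61d (nat_lit 47) 
    (nat_lit 0x3a352944002d79883d200009bd6c1065ae7cf96b4fd8756bcc41e9000003c6f067b648689387d20f9) i1) ((fun g1 : Nat → Nat => pk61l (fun i2 => (_root_.Prod.mk (pk61d (nat_lit 6) 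
    (nat_lit 0x1229b7132ceab5) i2) (pk61d (nat_lit 2) 
    (nat_lit 0x15799) i2))) (g1 i1) (g1 (Nat.succ i1)) List.nil) fun j => (pk61d (nat_lit 4) 
    (nat_lit 0x99876520) j)) ((fun g1 : Nat → Nat => pk61l (fun i2 => (_root_.Prod.mk (pk61d (nat_lit 21) 
    (nat_lit 0x178000060110769edd002d6ca5a5d) i2) (_root_.Prod.mk (pk61d (nat_lit 6) 
    (nat_lit 0xb68a08a08) i2) (nat_lit 2)))) (g1 i1) (g1 (Nat.succ i1)) List.nil) fun j => (pk61d (nat_lit 3) 
    (nat_lit 0xd24400) j)))) (nat_lit 0) (nat_lit 7) List.nil) : List St)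
    = ?xq9013 → (List St)) ?hq9013; (case hq9013 => (set_option maxRecDepth 1000000 in conv => lhs; reduce)); intro _; exact ?xq9013 : List St)

/-- steps -/
noncomputable def l15_0 : List St :=
  (by
  refine (?fq9014 : ((pk61l (fun i1 => (_root_.Cfsg.Agent.N2.Sp.St.fk (pk61d (nat_lit 6) 
    (nat_lit 0xa1075c82c) i1) ((fun g1 : Nat → Nat => pk61l (fun i2 => (_root_.Prod.mk (pk61d (nat_lit 47) 
    (nat_lit 0x78663e1a00001d52fbea0000c595d618000137ce9bc80006450ef0f00024b8509d0000300d45c4000015f3c91d00001921a6b400008603e400000224c699880003987fe37800013b76e3f0000643ba4520001de07177400016b5323100002eb7dd29000089b566e00001fc2c0f0800046ad982c00001ecdd45b202c19d7daee2e37d045f88805393184762825460cfd8b03b69dc28011849ce76e1f5ecb65c501500ea2a099bbf19d14e0e17ac4da036dfc7667a05887e3810ae97cfe2f6c5644ae3a06666a0033f0887624c2b0bc00551d228cbe885d7b11d0b1ec3b240d988f54886402d5dab6b7709b190234cf906d3c9bdb8de470dcc63f9e430849b4d83cac1f48d7ba3459af4a80dc949688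a1693844589b41d62990977b28baaf21de476436cf243a1c8aa811cccf0bfa51ac862d88492d421272dd3fdcee2bdeb68eee0c103fd8ea95aa060ae1830c12e2539d9d5da0b7c046e54940320314af0c08e6cdc57a9101b0f194344e0be4e3fd57b8279d260c5d6845acef7bdbd0ea9ef889f760133848291fc05e52e60b68004193184f7e19fbb489c8cf6bcc41e9000015490a3478301184db4cd8db5e620f480002d144eed81041f5675d77c0914a48b7f65704d36dcf42fa4810a3e8b210794e8e085242a0039a0dce61107f6386e922cf57559cd54fd4909a899c802c4e1886873d46c36b31db13c17fec121c9ffcde7092b91fedb3234272b23ddeb359cb4462a604ab567526c4e13a918e5948045f37ca8033481631f338cb67552e07f571a3081389d28917959e5aeeaab3254dc0d8b88d47e5e94b124f0097dd5294bc0044199fe27a00c092fb83ec033bf42c124daf3107a4000) i2) (pk61d (nat_lit 6) 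
    (nat_lit 0x3ae76d33cb1c2fbadaeaa689e38a1595eb9e34cf2c70beeb6ba278a179c58aeb8df4cf0beeaa68e281c3c707acb1beeb289237dd5c1db5d33bada689a559344b103eb9df6cf1beeb27918434becac1) i2))) (g1 i1) (g1 (Nat.succ i1)) List.nil) fun j => (pk61d (nat_lit 7) 
    (nat_lit 0xd35202f4448280) j)) (nat_lit 0) (pk61d (nat_lit 47) 
    (nat_lit 0x9502f9002d79883d20005af3107a40001786914a0cbd382f1eabfbe2d79883d2000008cc30d3c3b) i1) ((fun g1 : Nat → Nat => pk61l (fun i2 => (_root_.Prod.mk (pk61d (nat_lit 5) 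
    (nat_lit 0xd3b97bc4d6e) i2) (pk61d (nat_lit 2) 
    (nat_lit 0x25579) i2))) (g1 i1) (g1 (Nat.succ i1)) List.nil) fun j => (pk61d (nat_lit 4) 
    (nat_lit 0x99765430) j)) ((fun g1 : Nat → Nat => pk61l (fun i2 => (_root_.Prod.mk (pk61d (nat_lit 21) 
    (nat_lit 0x1011586979580452255e25) i2) (_root_.Prod.mk (pk61d (nat_lit 6) 
    (nat_lit 0x2da08a08) i2) (nat_lit 2)))) (g1 i1) (g1 (Nat.succ i1)) List.nil) fun j => (pk61d (nat_lit 3) 
    (nat_lit 0xb24880) j)))) (nat_lit 0) (nat_lit 7) List.nil) : List St)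
    = ?xq9014 → (List St)) ?hq9014; (case hq9014 => (set_option maxRecDepth 1000000 in conv => lhs; reduce)); intro _; exact ?xq9014 : List St)

/-- steps -/
noncomputable def l16_0 : List St :=
  (by
  refine (?fq9015 : ((pk61l (fun i1 => (_root_.Cfsg.Agent.N2.Sp.St.fk (pk61d (nat_lit 6) 
    (nat_lit 0xa1075c82c) i1) ((fun g1 : Nat → Nat => pk61l (fun i2 => (_root_.Prod.mk (pk61d (nat_lit 54) 
    (nat_lit 0x1814726f8000000bbacafa0000009e11758c000001f2e42470000014102f7dc00000eb02002b00000267103ff800000231fa79e000000506badc400000359b2724000001b705409c000005c0cc87a0000003f17c62c000002817dab00000017e6c0ca80000024551c87000000957f8e200000037155b7800000196899f20000007115be780000006292a5f800cd0910b66b4002465ace6ef2000093eb9d744a0008d2a5c6be04017e8f0ad5db9003a695b423fd0011febbe24013006e57ae13bee400860fd1fbcb100039c2a1d4170008ce6699fa81004c0b5580f62801dd5458064a900032dfe45432c00469285bb378006db7ccdb0f7c006edaccb12140009dda83e6a6c000761a595bce002087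e8638e580053dc029ea6c00287ee100535c0003c52e0c1c30006ebbd3a2c8800e1d9c826806004c9160952ba400e58ac7bca4a001bf8d1c42a3000568280982cd000844f2bb9d0c00fe0bbca244000212e51a1ecd405af3107a40000008c25f69a6cc000babada5bd700020de61e07e8000167ea331380020568be2c57c002c7deda86c40013465127d140003f69ead1a55001e3308be793c00bf6fd6a0d65016bcc41e900000533c9eca4e660037566db354b00031acda21af70042e176e30cf80006d6deec6260048cd1b6b0d9c0067e693c2108001d13731cdda402623aee1600300165e6add5f7000e70c188592900695b44d0628c0038bdb69b3e0005fbc6070ce28058e2eebbfc71004be46f27bc98010c2096417e6003b5cd446714802534571df06e007f193e5d45a000a00dc40308800753f7383318002767df50670b00941aae219acc01a5819b25589001124e3c1d182386f26fc10000) i2) (pk61d (nat_lit 6) 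
    (nat_lit 0xeb9db4cf2c70beeb6baa9a278e285657ae78d33cb1c2fbadae89e285e7192bae37d33c2fa9c3ce1c1eb7d72c6eb28917074ceeb69a279a559344b103eb9df6cf1bec918401) i2))) (g1 i1) (g1 (Nat.succ i1)) List.nil) fun j => (pk61d (nat_lit 7) 
    (nat_lit 0xb91d9a63630080) j)) (nat_lit 0) (pk61d (nat_lit 47) 
    (nat_lit 0x9502f9002d79883d2000248d6a415fef19f648f451356bcc41e90002d79883d20000023c68cdf1f) i1) ((fun g1 : Nat → Nat => pk61l (fun i2 => (_root_.Prod.mk (pk61d (nat_lit 12) 
    (nat_lit 0xb00600d00a01b015cb59aeae4) i2) (pk61d (nat_lit 2) 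
    (nat_lit 0x25579) i2))) (g1 i1) (g1 (Nat.succ i1)) List.nil) fun j => (pk61d (nat_lit 4) 
    (nat_lit 0x99765430) j)) ((fun g1 : Nat → Nat => pk61l (fun i2 => (_root_.Prod.mk (pk61d (nat_lit 21) 
    (nat_lit 0x806183b4ce873a12) i2) (_root_.Prod.mk (pk61d (nat_lit 6) 
    (nat_lit 0xb68208) i2) (nat_lit 2)))) (g1 i1) (g1 (Nat.succ i1)) List.nil) fun j => (pk61d (nat_lit 3) 
    (nat_lit 0x8db640) j)))) (nat_lit 0) (nat_lit 7) List.nil) : List St)
    = ?xq9015 → (List St)) ?hq9015; (case hq9015 => (set_option maxRecDepth 1000000 in conv => lhs; reduce)); intro _; exact ?xq9015 : List St)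

/-- steps -/
noncomputable def l17_0 : List St :=
  (by
  refine (?fq9016 : ((pk61l (fun i1 => (_root_.Cfsg.Agent.N2.Sp.St.fk (pk61d (nat_lit 6) 
    (nat_lit 0xa1075c82c) i1) ((fun g1 : Nat → Nat => pk61l (fun i2 => (_root_.Prod.mk (pk61d (nat_lit 47) 
    (nat_lit 0x786639c5b8001d52fadb4800c595cefe000137ce908ec006450eb7380024b84f4aec80300d4409980015f3c852ac001921a5cc68008603df2d800224c685cd8003987fc25dc0013b76d890c00643ba0b79001de070642b0016b5316002002eb7db7ac00089b561ebf001fc2bfcc130046ad95a14e001ecdd33f885068543091506a1f78c5699021c53fc5d9a087e83c37254ad6ff4fd31a0c445155ca7d1969389658ee4a929173384831511de1c14029da192c7e30c907496ab540878aa6198e46c5db2f145c17ce2a4cf86b0636695529b80a26c41319d098df626858286b2760bf9cb072a18387bcc1c50e0f28e1415cd832cdc283b25a07fc5804a29ad269741a7d4e8684883489487f2ee82b3594de5c60097628bf6f808ad4df7a39c5b7a03ee32c8594048dbfacb5e620f480000873296e5bac046a053b45e0136035032ea0eed8d1244a80d47c22b90cc1898de134ab025a5d9b59fb0c581ba51c0e0014b7f65dc85c54aa10d3c5af3107a400000f19c7a28b05456daf97154237db01e97501471ac5776d00b1adb6e38c0684d077261417849a9fb9f03fda03068c506d6c5ed788238d0783f6c040af89ef9549daf3107a400021e478204c8843f4eaad98f874e1ed140b69b542dadbece31c35594e2e0136d5b2b62ecbd2aad78a951fb2d6964d763b661b8b7e564ae988e240385dcd693c1f9daf3107a4000)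 i2) (pk61d (nat_lit 6) 
    (nat_lit 0x3ae76d33cb1c2fbadaeaa689e38a1595eb9e34cf2c70beeb6cae89e285e64aeb8df4c2f81c5ce07ad72c6eb289235c1e34bada689e66d1103eb9df6cf2bec918241) i2))) (g1 i1) (g1 (Nat.succ i1)) List.nil) fun j => (pk61d (nat_lit 7) 
    (nat_lit 0xaf097233030080) j)) (nat_lit 0) (pk61d (nat_lit 47) 
    (nat_lit 0x3a352944002d79883d200010cb8341bfac1db1fc60316462b747c534a2d79883d20000000727b5ead) i1) ((fun g1 : Nat → Nat => pk61l (fun i2 => (_root_.Prod.mk (pk61d (nat_lit 5) 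
    (nat_lit 0x5954a8d33c) i2) (pk61d (nat_lit 2) 
    (nat_lit 0x9559) i2))) (g1 i1) (g1 (Nat.succ i1)) List.nil) fun j => (pk61d (nat_lit 4) 
    (nat_lit 0x88654320) j)) ((fun g1 : Nat → Nat => pk61l (fun i2 => (_root_.Prod.mk (pk61d (nat_lit 19) 
    (nat_lit 0xaa1a64fad2cde5cc) i2) (_root_.Prod.mk (pk61d (nat_lit 6) 
    (nat_lit 0xb48208) i2) (nat_lit 2)))) (g1 i1) (g1 (Nat.succ i1)) List.nil) fun j => (pk61d (nat_lit 3) 
    (nat_lit 0x8da440) j)))) (nat_lit 0) (nat_lit 7) List.nil) : List St)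
    = ?xq9016 → (List St)) ?hq9016; (case hq9016 => (set_option maxRecDepth 1000000 in conv => lhs; reduce)); intro _; exact ?xq9016 : List St)

/-- steps -/
noncomputable def l18_0 : List St :=
  (by
  refine (?fq9017 : ((pk61l (fun i1 => (_root_.Cfsg.Agent.N2.Sp.St.fk (pk61d (nat_lit 6) 
    (nat_lit 0x12369a1075c82c) i1) ((fun g1 : Nat → Nat => pk61l (fun i2 => (_root_.Prod.mk (pk61d (nat_lit 47) 
    (nat_lit 0xca40000000001580000000020d800000000083000000000a7a000000000228000000005268000000006290000000009fe0000000018f8000000002728000000001420000000003280000000002f00000000030e80000000024100000000004e0000000015e000000000e0782331da6c77701bf43fdeb842388b50d1b1c5897976ed7c189080a640b40cf0e6904b325e5a139d28c07a3e97042078a93199a336107a2d72aa1ee09dc2c8a237c4afafd6869008edf9e8e003018474800c840e774bbd67bc78a9c6e38300a718d29aba0033ad2f7d92224c46d014f480196c643f9c82bfbe2617730ce5e47b77802a7f7de5084877cac42317c83450f950d471fbfdea5a43c16a0077b120c97a0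a7bbf5a13086d5311dc051f517b394a2078acd9572c2070251622784e42ea2eceb04540f4bcdc83b1d6e5b9ed817c5a5d17fd875c841f6f19011e7fcf5b940251ed4846149cb84368c070232f926b2310795a0b79f2e008fa693c55872898c889630100dd65cf3c0eee14a425960aaff9742fb438e4c6b3632059c32ef85d8b5e620f48000244a9b407d783343483c12881fc6a472bcc09b3da201e82419161a863e06ba68d29cb707f7843373051406ea44b86c18431a144270197ba12fad60496a4fa24d403adc517bb02238d44919120ba12e8eaef790cab55b479209a56abc84d411b1c40269404249c03a3b8830f9c305233042098d8dc0a07a098a652303411261f4ed80a5a73bb4840a6e54406e1807e9ed56a7685136774c54d823658712d6f0eb1cd9327096bcc41e900000f01ac9be3580e4c45f681f00998a9115a40dabc7f526d418f03a9cf39808fa1184581025f447b60601328d36a59e6d79883d2000101bd0b773550434b560af800199305c5e8416abdeabb8f822ab5e79ffd06aef29256b8053b8c22a0584972d8dd677813eb611f28cb5e620f480000bb972d4f34cc0fbfdef1c71fef73444c6336381ea352d8660c22b3af1544841cbe98fb00efe1f2d6204082c3125740dc491d6c8ee0218435a2285af3107a4000)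 i2) (pk61d (nat_lit 6) 
    (nat_lit 0xeb9e37db5cf2c6fbad85c6d644507ae36d33cb1ba89e69216d65543badf6cf2c70beeb6baa89e389f57ae78d33cb1a2385434c07ae78d33cb1c2fbadb2ba217992bae37d32c2f5ce1c1eb8d72c6c917074bada2759344d0fae77dafb24409101) i2))) (g1 i1) (g1 (Nat.succ i1)) List.nil) fun j => (pk61d (nat_lit 8) 
    (nat_lit 0x806d5b493b291e150b0100) j)) (nat_lit 0) (pk61d (nat_lit 47) 
    (nat_lit 0x13885af3107a4000b5e620f48000a034c8688c3ad79883d200011ff1b13fcbe120b55d8441a5310c1d457f6d79883d200000008af0427d) i1) ((fun g1 : Nat → Nat => pk61l (fun i2 => (_root_.Prod.mk (pk61d (nat_lit 6) 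
    (nat_lit 0x51d030f18a24242965c) i2) (pk61d (nat_lit 2) 
    (nat_lit 0x1665659) i2))) (g1 i1) (g1 (Nat.succ i1)) List.nil) fun j => (pk61d (nat_lit 4) 
    (nat_lit 0xddcb9765320) j)) ((fun g1 : Nat → Nat => pk61l (fun i2 => (_root_.Prod.mk (pk61d (nat_lit 20) 
    (nat_lit 0x6baa98095d7b29c18dd05c3b1) i2) (_root_.Prod.mk (pk61d (nat_lit 5) 
    (nat_lit 0x1442108) i2) (nat_lit 2)))) (g1 i1) (g1 (Nat.succ i1)) List.nil) fun j => (pk61d (nat_lit 3) 
    (nat_lit 0x16c691200) j)))) (nat_lit 0) (nat_lit 10) List.nil) : List St)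
    = ?xq9017 → (List St)) ?hq9017; (case hq9017 => (set_option maxRecDepth 1000000 in conv => lhs; reduce)); intro _; exact ?xq9017 : List St)

/-- steps -/
noncomputable def l19_0 : List St :=
  (by
  refine (?fq9018 : ((pk61l (fun i1 => (_root_.Cfsg.Agent.N2.Sp.St.fk (pk61d (nat_lit 6) 
    (nat_lit 0x2d48da6841d720) i1) ((fun g1 : Nat → Nat => pk61l (fun i2 => (_root_.Prod.mk (pk61d (nat_lit 47) 
    (nat_lit 0xa84100000000539b00000001fa20000000069f6c00000016fc800000001d56c00000004ec4200000007a3d00000000a8d900000000a302000000004a6800000001241800000003b4a80000000c70b000000001d580000000595680000000932e800000028c6f1ba3922a1c5c11a3cfe06b00211f6fd637f845b82d9194e01bb44ac00043346d3bbd264d0d604c0680025741e51aca0fb56ec501500c76a645be780c42b443f25003a376d9d31159cad3b58e2227add1c9e841447dcc6af40448c8731976b5e620f4800000f02e5bd36c447bfda1b5f89d1a76516682897f88130f40e1f5e10d35c95d074fb6ad8e1c9ceb7de20bdf9f89c2600f8fad2e8e9c1aebb7554f586a3f1588388004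9397fadf21b8d00d7f62c0d656af64cc0194161eeb1419c5e50fc4ba1add138601101894f9993058700b887d6be02f2441f93e60d787d988e7048c281c731c8b996bc446fd07f2038580c6360309e7e6e0235b25d4bbe8eadb856424b20c1e77d306a106c554aae1c015aaf79ca585466af77ab4037eebd7be660fd23e2459740c0e3b0a0e60c7c76037709047386fffbca03199385aacc53c4fef38cc81012b141dbf013500c17f7204653a44582c0e44c6ef647090fdd6ca6b503adf0216f7418eae0afebcad79883d200007421edfd7780a40a7cc5ef6065aed8918e01f0c52d93f68d1d1336acad1587b54f8256197e7339950840161f4e15804da384c54830518b9b6b2b00eaedc5eea080bc5a99c761871c40bdc6772536fa7b2c7435bbdca356781ede219ba590389f3ea83ae0d41f2ec8c8405cbb6d6af1c13b2d46cc8402dd166aa01707ffb9fad5dc0a8f0c92709c09a1dcf784e0651fe346f3001332a725e400d8bbdaea52ad79883d2000017db1d3303e011faf4414120bc91c1de3cc10a9b225035002e0db7adf2067fac3236a96bcc41e9000075008106e320246bf513a9e06aabc8b68d0024d142ad5480c0e5a30dca834700a5fa4c03139726cf382144c97d935ed79883d2000147c10fe54b53f92372f326c4c7978cac7b47b94b6373d105bf80148c0b3ec81ce7d4c89e93f366bba0559c73bcdd92164db260605)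 i2) (pk61d (nat_lit 6) 
    (nat_lit 0xeb9e36cf2c6fbad9e592175b285eb8df6d73cb1ba9a2759444707adb4cf2c6ea279a48a181b5543badb3cb1c2fbadaeaa689e389feb8d33cb1a6884c07ae78d33cb1c2fbadb2ba217992bae37d32c1738707ae32c6c5c1d2ea277164d10f9df6bedb24404) i2))) (g1 i1) (g1 (Nat.succ i1)) List.nil) fun j => (pk61d (nat_lit 8) 
    (nat_lit 0x8674635140352319120900) j)) (nat_lit 0) (pk61d (nat_lit 47) 
    (nat_lit 0x7a1204eafa9bc29dfb5e620f480016bcc41e90000cca7853c5265af3107a40001c1664c96922202bc121acc4bdc5379bbe85af3107a4000) i1) ((fun g1 : Nat → Nat => pk61l (fun i2 => (_root_.Prod.mk (pk61d (nat_lit 6) 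
    (nat_lit 0x20518b28c109241424) i2) (pk61d (nat_lit 2) 
    (nat_lit 0x566565) i2))) (g1 i1) (g1 (Nat.succ i1)) List.nil) fun j => (pk61d (nat_lit 4) 
    (nat_lit 0xccba9754310) j)) ((fun g1 : Nat → Nat => pk61l (fun i2 => (_root_.Prod.mk (pk61d (nat_lit 19) 
    (nat_lit 0x628df88b38c1e516853) i2) (_root_.Prod.mk (pk61d (nat_lit 5) 
    (nat_lit 0xa2114) i2) (nat_lit 2)))) (g1 i1) (g1 (Nat.succ i1)) List.nil) fun j => (pk61d (nat_lit 3) 
    (nat_lit 0x124689200) j)))) (nat_lit 0) (nat_lit 10) List.nil) : List St)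
    = ?xq9018 → (List St)) ?hq9018; (case hq9018 => (set_option maxRecDepth 1000000 in conv => lhs; reduce)); intro _; exact ?xq9018 : List St)

/-- steps -/
noncomputable def l20_0 : List St :=
  (by
  refine (?fq9019 : ((pk61l (fun i1 => (_root_.Cfsg.Agent.N2.Sp.St.fk (pk61d (nat_lit 6) 
    (nat_lit 0x2d48da6841d720) i1) ((fun g1 : Nat → Nat => pk61l (fun i2 => (_root_.Prod.mk (pk61d (nat_lit 51) 
    (nat_lit 0xbd000000000005e0000000000239000000000077200000000019d400000000020f800000000058800000000008960000000000bdc0000000000b700000000000540000000000148000000000042c0000000000df800000000002100000000006460000000000a580000000002dd0097b8e4db6ac009c5fb4e9220007cf2ac9de1c0035dd28861680281d070e829014e9bd6cc3cc0468a876be1c80146560ec40c001a0eb82cb210025f377c8ece00191c80d713404ca375afb08000e08b66146200d3124bc935a00355d43729402d79883d200000195afedc06b00dc6a555e5d201cabc54e91dc0894b453a8ab00329d93949100200ba82a8e82030ad9bdad094001687773756807541fb6d7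3a0077b762ff15c00222f3ba59fc03d904472061803a6f539a6a500ab573c7221e009315abcad8400aa5521cc9500a90e4ea06f3009ca9c48f158012106049d3f138e851fb2aec8880a44604f9a1f04335c1d160c55b14e07fb120b34879b5f2e15b1460848ae5990f07bd55ccc4fca4696e1d1ab2866829d257d999d490e3447258a3db4aad1870178072549b4529a8199a4a6195277f68a1dc152a9312af8ff0d193db90e9e00159376e24f7000b7f2aba61600c261361497e00ef9d12e2d0404a90caba00600145bbd0b63e006d8f64a283816bcc41e90001663d9b499646a531b46ffedd81d58c96ca02d8cfebe323f8ec229e48eb7742db7b43a0443ada338efe8d35a98733c043be3dc4b929d96afddd8cb682788b4cc1d2ce193a02c83812e63181963ba87311fe4e75d67bf2e5ab34333fcaae203c61f54af5aea6753a279bbcb48aa4c791756a5040027cd08ccfe200b3da68757a00106587b8f20800348d57aa32004380cea22ae007eed09f4a4802bb61ce435b05af3107a4000001226b4631c00014a61cb0e1800044fd09cf00007edf8439130b5e620f48000001494b6a16a0012237bf03f1803ab7545408f01011c2d4dab202731ccbeb1842d79883d20000001ee680fc8b0002442e77efe00154c5089f1c0028952fb366800e8d4a51000)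 i2) (pk61d (nat_lit 6) 
    (nat_lit 0x3ae78db3cb1beeb6796485d6ca17ae37db5cf2c2ea6759444707adb4cf2c6eaa89e692286071550eeb6cf2c70beeb6baa89e389feb8d33a0c241eb9e34cf2c70beeb2ba2179934ae37cb0b17381c6fbac077d2c5840ec912404) i2))) (g1 i1) (g1 (Nat.succ i1)) List.nil) fun j => (pk61d (nat_lit 7) 
    (nat_lit 0x1df2d584c9518202c280) j)) (nat_lit 0) (pk61d (nat_lit 54) 
    (nat_lit 0x9c4003b4629b41946016bcc41e90002386f26fc10000005bfb38008ab2386f26fc10000001d994ef07b6c00192cb42b238001f23e73db0840002b8deb5de7) i1) ((fun g1 : Nat → Nat => pk61l (fun i2 => (_root_.Prod.mk (pk61d (nat_lit 11) 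
    (nat_lit 0x2402a2601802f0c1f90160340b801) i2) (pk61d (nat_lit 2) 
    (nat_lit 0x159955) i2))) (g1 i1) (g1 (Nat.succ i1)) List.nil) fun j => (pk61d (nat_lit 4) 
    (nat_lit 0xbba98643210) j)) ((fun g1 : Nat → Nat => pk61l (fun i2 => (_root_.Prod.mk (pk61d (nat_lit 26) 
    (nat_lit 0x247d28f0093420015dad) i2) (_root_.Prod.mk (pk61d (nat_lit 5) 
    (nat_lit 0x2288) i2) (nat_lit 2)))) (g1 i1) (g1 (Nat.succ i1)) List.nil) fun j => (pk61d (nat_lit 2) 
    (nat_lit 0x3fe000) j)))) (nat_lit 0) (nat_lit 10) List.nil) : List St)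
    = ?xq9019 → (List St)) ?hq9019; (case hq9019 => (set_option maxRecDepth 1000000 in conv => lhs; reduce)); intro _; exact ?xq9019 : List St)

/-- steps -/
noncomputable def l21_0 : List St :=
  (by
  refine (?fq9020 : ((pk61l (fun i1 => (_root_.Cfsg.Agent.N2.Sp.St.fk (pk61d (nat_lit 6) 
    (nat_lit 0x15b4d4a9a1075c) i1) ((fun g1 : Nat → Nat => pk61l (fun i2 => (_root_.Prod.mk (pk61d (nat_lit 51) 
    (nat_lit 0xae880000000011b610000000024066000000008e7f0000000005ace00000000119d5000000003fa68000000004cf04000000003741800000000299400000000008720000000003be40000000005ad0000000014b760000000001fde00000000332c400000000311a0000000015ce100000000004ba00000000002580000000000e380000000002fa0000000000a560000000000d30000000000236800000000036f00000000004be0000000000494000000000021800000000008300000000001aa000000000059800000000000d0000000000283000000000042200000000012540498d20511d8004f665da27a800368010aa85400066b613b0b8015aa77736ac80a9f1a9a7479020d719ac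123a00a05f7c1689800753ca92a13800f51cffe7b10003a31800cb4001886da4afa404a76b34d93e8073a57f2d7bd000d00bb5e34816bcc41e900000312588999df00455a8d902b2005c3f7620c0c00303a9be10ac026ae838fc3e006ce1a8089440072c048bbd1204587bf22b0700147e4e2083a00bf879426dc00110a37f44a8200016a7f1c07c0014f2c98f0c8036d6861f1d8008335ec609aa003776cf78a6800837ba48d2400c64b2745183392664b20354493f93be21645a5aaa4b67fbb383cdf9ec60595b63b256291858f23db31a770bc12dc1d52ee7f8029a70e20e45613cfecaf171a4e995f3bf684418a8593037213a667b158b4784a84a66f6ddce99e24448921704e22d8ab62da38388f4010b41065eb593f482c5ac3fc8910f04012d9c86b93a800eb1bde5da600a2139e6002201043079cc388047a877be5f3803936ae614c80b5e620f48000a1b256cd33114d610882755cb0ff7ac2d8236644819381c0db8d6337e404f371e898178d314f14838d8a9d02a0a1f7e1a0f21a47f3b256185a89ef4b882f1c7901a352cbc3d6bd88f53a3219924e05cd64ac7cd62cfba830d18a2c2c8274c2b58b60353aceb870bddb12679a401499c5e8c4480080c3e857e00012fbcbfc24800cb04057a1b800f627b3a5f50087b5a4b046e0b5e620f4800000203a378e5100026bc204ffa000804c2b3559000433e65267c16bcc41e900000029296d42d4002446f7e07e300756ea8a811e0202385a9b56404e63997d63085af3107a4000)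 i2) (pk61d (nat_lit 6) 
    (nat_lit 0xeb8db3cb1beeb679a171b6141c5eb9e36cf2c6fbad9e592175b285eb8df6d73cb0ba99dc5911c1eb8db5cb1c2fbadae89e37d734cdb4cf2c6eb6aa279648a17d550eeb8d33a0907ae78d33cb1c2fbaca2179934adf2c2c5ce071becac1df4b16103) i2))) (g1 i1) (g1 (Nat.succ i1)) List.nil) fun j => (pk61d (nat_lit 8) 
    (nat_lit 0x82705e4e3c2a23120b0600) j)) (nat_lit 0) (pk61d (nat_lit 54) 
    (nat_lit 0x3d09000000000002710011988ac10a15005af3107a40008e1bc9bf04000001adc6d3c1ab78e1bc9bf040000007807297ab1b0007b381f0c7a0009bb38d9cbe9) i1) ((fun g1 : Nat → Nat => pk61l (fun i2 => (_root_.Prod.mk (pk61d (nat_lit 11) 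
    (nat_lit 0x2402a4901802ea31c002203006817) i2) (pk61d (nat_lit 2) 
    (nat_lit 0x1599d5) i2))) (g1 i1) (g1 (Nat.succ i1)) List.nil) fun j => (pk61d (nat_lit 4) 
    (nat_lit 0xbbba9864210) j)) ((fun g1 : Nat → Nat => pk61l (fun i2 => (_root_.Prod.mk (pk61d (nat_lit 18) 
    (nat_lit 0x1ec1c82b78f9ed) i2) (_root_.Prod.mk (pk61d (nat_lit 5) 
    (nat_lit 0x2288) i2) (nat_lit 2)))) (g1 i1) (g1 (Nat.succ i1)) List.nil) fun j => (pk61d (nat_lit 2) 
    (nat_lit 0x3fe800) j)))) (nat_lit 0) (nat_lit 10) List.nil) : List St)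
    = ?xq9020 → (List St)) ?hq9020; (case hq9020 => (set_option maxRecDepth 1000000 in conv => lhs; reduce)); intro _; exact ?xq9020 : List St)

/-- steps -/
noncomputable def l22_0 : List St :=
  (by
  refine (?fq9021 : ((pk61l (fun i1 => (_root_.Cfsg.Agent.N2.Sp.St.fk (pk61d (nat_lit 6) 
    (nat_lit 0x2da5075c) i1) ((fun g1 : Nat → Nat => pk61l (fun i2 => (_root_.Prod.mk (pk61d (nat_lit 51) 
    (nat_lit 0x105b510406f021c67d2043a2ed0fc7de96aafbabc8437043518d1cb90a866db9a586c532dcbf43fa0b18d4ee845f770af56fd812b8e41840bb4b434f9d3cc61603d2e2008b9b4a61911deb00a804127c755654572c83b7d812d1748fd927e7cde160cf27c88ec0105116a12c30012d190a51cb007aed21550d200a324cc4be58006151a463ac00032c4bb2e8e006632c027b3000828b3560a942d79883d20000008b53ac4e57001d0ce18e67200e30d18cb8482d79883d200005af3107a400000b9e489eb0cc012a33f293b9c1c0c1b4f16cd85af3107a4000) i2) (pk61d (nat_lit 6) 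
    (nat_lit 0xeb7db4cf2c2eb29a16554381eb8cf2c69a0906fb0e041b26103) i2))) (g1 i1) (g1 (Nat.succ i1)) List.nil) fun j => (pk61d (nat_lit 6) 
    (nat_lit 0x892245100) j)) (nat_lit 0) (pk61d (nat_lit 54) 
    (nat_lit 0x2386f26fc10000005b3fe2a429b8002688f19ac1e000004d468025400c4d956e9ca1) i1) ((fun g1 : Nat → Nat => pk61l (fun i2 => (_root_.Prod.mk (pk61d (nat_lit 10) 
    (nat_lit 0x45c9809028130340e06823) i2) (pk61d (nat_lit 2) 
    (nat_lit 0x26765) i2))) (g1 i1) (g1 (Nat.succ i1)) List.nil) fun j => (pk61d (nat_lit 4) 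
    (nat_lit 0x975310) j)) List.nil)) (nat_lit 0) (nat_lit 5) List.nil) : List St)
    = ?xq9021 → (List St)) ?hq9021; (case hq9021 => (set_option maxRecDepth 1000000 in conv => lhs; reduce)); intro _; exact ?xq9021 : List St)

/-- steps -/
noncomputable def l23_0 : List St :=
  (by
  refine (?fq9022 : ((pk61l (fun i1 => (_root_.Cfsg.Agent.N2.Sp.St.fk (pk61d (nat_lit 6) 
    (nat_lit 0xb69a1075c) i1) ((fun g1 : Nat → Nat => pk61l (fun i2 => (_root_.Prod.mk (pk61d (nat_lit 51) 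
    (nat_lit 0x1e931569e0540354e6bdf18fa61342ba11ed2b9687140ca07a11fc09814b105443e6f310ccd10822e34954d774a1c144b46d23a4ccf871db8aa65300e4f5cb0a0994aac50542127635e2508de55d13b7e3584d131ec1ecfd183e742493e0ce3800811fd3654080019082ecf72000199e1f1c1e002718f8a7f882d79883d2000257b4daa3b4e432dffc6d097aa199ae7e86bd3d0eda61db7658a58c9a472890b602db7ba141e23d0ea53beb364a2ddabea48d787a3c4c23fa4e972c30db88692e7df86bfc95f49aae89479410a32e4481a8b6f18b5c68843e10b892e576788ac0042252341a3000e91339a89500844a468345e16bcc41e900002d79883d200005af3107a4000) i2) (pk61d (nat_lit 6) 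
    (nat_lit 0x3adf6d33cb0baca68594381d32b0d07ae78d33cafbaca2178d284bec381043) i2))) (g1 i1) (g1 (Nat.succ i1)) List.nil) fun j => (pk61d (nat_lit 6) 
    (nat_lit 0x29695182040) j)) (nat_lit 0) (pk61d (nat_lit 54) 
    (nat_lit 0x8e1bc9bf040000002be7b7068e08e1bc9bf0400000028be9315e590000052557ca8c000134c093787) i1) ((fun g1 : Nat → Nat => pk61l (fun i2 => (_root_.Prod.mk (pk61d (nat_lit 11) 
    (nat_lit 0xc98480b01d2e4c901501a0682a85b) i2) (pk61d (nat_lit 2) 
    (nat_lit 0x266759) i2))) (g1 i1) (g1 (Nat.succ i1)) List.nil) fun j => (pk61d (nat_lit 4) 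
    (nat_lit 0xb975320) j)) ((fun g1 : Nat → Nat => pk61l (fun i2 => (_root_.Prod.mk (nat_lit 8250715) (_root_.Prod.mk (nat_lit 15) (nat_lit 3)))) (g1 i1) (g1 (Nat.succ i1)) List.nil) fun j => (pk61d (nat_lit 1) 
    (nat_lit 0x70) j)))) (nat_lit 0) (nat_lit 6) List.nil) : List St)
    = ?xq9022 → (List St)) ?hq9022; (case hq9022 => (set_option maxRecDepth 1000000 in conv => lhs; reduce)); intro _; exact ?xq9022 : List St)

/-- the certificates -/
noncomputable def L : List (ℕ × ℕ × List St) := [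
  (653789890170, 5, l0_0),
  (523031912135, 5, l1_0),
  (418425529707, 5, l2_0),
  (334740423764, 6, l3_0),
  (298896998401, 6, l4_0),
  (18577598058, 7, l5_0),
  (2374977029, 16, l6_0),
  (236735925, 31, l7_0),
  (21438255, 65, [.fk 0 [(152416, 4), (1240621, 10), (4165253, 13), (204225, 14), (140512, 18), (1651080, 24),
      (1287257, 25), (1130974, 29), (1485250, 30), (6590749, 31), (1958971, 33), (2378137, 34), (2743623, 35),
      (2598052, 36), (2841149, 37), (11860742, 38), (2755240, 40), (5444536, 41), (5980659, 42), (5997250, 45),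
      (6375029, 46), (1711180, 47), (9443613, 48), (6210257, 49), (9649622, 50), (8879701, 51), (16398274, 52),
      (353783, 54), (1092538, 55), (3234280, 56), (1839784, 57), (2538103, 58)] 0 10000000 [] []]),
  (17150603, 145, [.fk 0 [(89573, 13), (103498, 18), (116036, 21), (118702, 24), (105916, 25), (111684, 30), (406757,
      31), (81545, 32), (271383, 36), (249560, 37), (253387, 38), (286381, 39), (295400, 40), (117016, 41), (365505,
      42), (117822, 43), (360088, 45), (400433, 46), (378903, 47), (503311, 48), (390661, 49), (281233, 50),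
      (1000000, 51), (563705, 52), (8602, 55), (366363, 56), (76212, 57), (105149, 58)] 0 728346 [] []]),
  (15185541, 156, [.fk 0 [(896, 13), (1035, 18), (1160, 21), (1187, 24), (1059, 25), (1117, 30), (4068, 31), (815,
      32), (2714, 36), (2496, 37), (2534, 38), (2864, 39), (2954, 40), (1170, 41), (3655, 42), (1178, 43), (3601,
      45), (4004, 46), (3789, 47), (5033, 48), (3907, 49), (2812, 50), (10000, 51), (5637, 52), (86, 55), (3664, 56),
      (762, 57), (1051, 58)] 0 8226 [] []]),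
  (12148432, 163, [.fk 0 [(191796, 13), (41001, 18), (132697, 21), (63547, 25), (156735, 30), (444810, 31), (149208,
      32), (256885, 36), (257417, 37), (223009, 38), (322653, 39), (216647, 40), (183398, 41), (371230, 42), (348905,
      45), (445716, 46), (412148, 47), (499454, 48), (419794, 49), (191085, 50), (898935, 51), (642224, 52), (390599,
      56), (33995, 57), (46335, 58)] 0 1000000 [] []]),
  (9718744, 175, l12_0),
  (7774994, 188, l13_0),
  (6406401, 203, l14_0),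
  (5125120, 217, l15_0),
  (4100095, 233, l16_0),
  (3280075, 251, l17_0),
  (2702701, 271, l18_0),
  (2162160, 289, l19_0),
  (1898193, 311, l20_0),
  (1518553, 325, l21_0),
  (1214841, 350, l22_0),
  (1140202, 376, l23_0),
  (912160, 385, [.fk 16 [(10000000000000000, 1)] 0 690668303806 [(2633, 1), (1394, 2)] [], .fk 41 [(100000000000000,
      1), (1403061224490, 13), (302343159486, 44), (79719387755, 47), (935374149660, 52)] 0 3653494374421 [(14, 1),
      (11, 2)] []]),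
  (800801, 414, [.fk 16 [(100000000000000, 1)] 0 7867123043 [(26, 1)] [], .fk 41 [(100000000000000, 1),
      (1403061224490, 13), (302343159486, 44), (79719387755, 47), (935374149660, 52)] 0 4161547536244 [(14, 1), (11,
      2)] []]),
  (640640, 433, [.fk 41 [(100000000000000, 1), (444504310345, 43), (206774919419, 44), (146243842365, 47),
      (652253238460, 52)] 0 4836542767577 [(14, 1), (11, 2)] []]),
  (512511, 466, [.fk 41 [(100000000000000, 1)] 0 12292419090 [(28, 1), (25, 2), (14, 3)] []]),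
  (410008, 502, [.fk 40 [(100000000000000, 2), (17717561229807, 4), (404660349076, 44), (662237276359, 56),
      (599270453361, 57)] 0 5566107537103 [(36, 1), (24, 2), (8, 3), (14, 4)] [], .fk 41 [(100000000000000, 1)] 0
      15365553843 [(28, 1), (25, 2)] [], .fk 45 [(100000000000000, 1), (8192275174260, 14), (760252647077, 39),
      (2519122908116, 44), (5955963521525, 50), (1755704127283, 53), (1445119843112, 55), (3075328730948, 58)] 0
      69708404863554 [(11, 1)] [(214714, 8, 2)]]),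
  (337838, 541, [.fk 40 [(1000000000000, 2)] 0 0 [(7, 1), (7, 2)] [], .fk 41 [(100000000000000, 1)] 0 0 [(125, 1),
      (122, 2)] [], .fk 45 [(100000000000000, 1), (8578529572910, 14), (2661425347487, 44), (3080142820940, 50),
      (1220377184327, 53), (2016754702770, 55), (1001295647935, 58)] 0 50313321577139 [(12, 1)] [(140267, 8, 2)]]),
  (298897, 577, [.fk 13 [(18700113414550, 22), (7642625158947, 31), (6274456478346, 43), (198975974205, 44),
      (5038942425463, 45), (113427762647, 46), (2180906527255, 56)] 0 100000000000000 [(35, 1)] [], .fk 45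
      [(100000000000000, 1), (9995217599235, 14), (3225674491417, 44), (1517504867801, 50), (1046719500808, 53),
      (2474607729271, 55)] 0 41605134639237 [(13, 1), (1, 2)] [(119173, 8, 2)]]),
  (239116, 601, [.fk 45 [(100000000000000, 1), (3900709219858, 14), (998161281849, 44), (598404255319, 47)] 0
      13453810186670 [(15, 1), (2, 2), (2, 4)] []]),
  (191292, 647, [.fk 45 [(100000000000000, 1), (4545454545455, 14), (1001049925781, 44), (568181818182, 47)] 0
      16689107064706 [(15, 1), (2, 2)] []]),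
  (153032, 697, [.fk 45 [(100000000000000, 1)] 0 41167860317 [(28, 1), (15, 2), (14, 3)] []]),
  (122424, 751, [.fk 45 [(100000000000000, 1)] 0 51460497942 [(28, 1), (15, 2)] []]),
  (100101, 808, [.fk 45 [(100000000000000, 1)] 0 62936434201 [(28, 1), (15, 2)] []]),
  (80080, 865, []),
  (64063, 931, []),
  (51249, 1003, []),
  (12513, 1081, []),
  (2227, 1729, []),
  (1565, 3073, []),
  (1099, 3457, []),
  (660, 3889, []),
  (196, 4610, []),
  (58, 6918, []),
  (35, 10424, []),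
  (13, 12384, []),
  (1, 17523, [])]

theorem okz : okZ D = true := by decide +kernel

theorem ok : chk D R nu [] (List.range' 1 (D.n - 1)) O 1518552 0 817237362713 L = true :=
  chk_of (by decide +kernel)

variable {K : Type} [Group K] [Finite K] {T : TD K D} {A : Subgroup K}

theorem res (H : Hy T R nu) (hb : ¬ Good A) (hA : A ≠ ⊤) : Res T A O 1518552 :=
  H.res hb (pos_nil A) (sup_all A) Nat.card_pos
    ((H.card_le (md := 78) (by decide +kernel) hA).trans (by decide +kernel)) ok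

theorem sup (H : Hy T R nu) (hb : ¬ Good A) (hA : A ≠ ⊤) : Nat.card A ≤ 1518552 ∧ Sup T A S :=
  ⟨(res H hb hA).1, (res H hb hA).sup.mono (by decide +kernel)⟩

end Cfsg.Agent.N2.Sp.Fi22
end

-- part: N2/Sp/GFi23
section
prune_inst 0x20450802000008000000620004c183000102004040010044040005c4840120450020f070061001941464507ac04000100179003000002000ba00411b00a0842f68e2863c1e04190001c0e803180c00000000000000000000000000000000000000000
set_option linter.all false

/-- decoders of the packed data (elaboration time only) -/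
private noncomputable def pk61d_v1 (b S i : Nat) : Nat := Nat.mod (Nat.shiftRight S (Nat.mul b i)) (Nat.shiftLeft (nat_lit 1) b)
private noncomputable def pk61c_v1 {α : Type} (t : Nat) (a : α) (f : Nat → α) : α := Nat.rec a (fun k _ => f k) t
private noncomputable def pk61f_v1 {α : Type} (t : Nat) (f : Nat → α) : α := Nat.rec (f Nat.zero) (fun k _ => f (Nat.succ k)) t
private noncomputable def pk61l_v1 {α : Type} (f : Nat → α) (s e : Nat) (tl : List α) : List α :=
  pk61f_v1 e fun e => Nat.rec tl (fun k ih => List.cons (pk61f_v1 (Nat.sub e (Nat.succ k)) f) ih) (Nat.sub e s)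
private noncomputable def pk61o_v1 {α : Type} (O : (n : Nat) → OfNat α n → α) (I : (n : Nat) → OfNat α n) (t : Nat) : α :=
  pk61c_v1 t (O (nat_lit 0) (I (nat_lit 0))) fun k => O (Nat.succ k) (I (Nat.succ k))

/-!
# N2 (S3519), sporadic rows: Fi23 (helper16; generated by notes/N2/sp16/emit.py.txt)

Types which are left, with order, letter in the order of the table, and bound for the fixed points: 1 = 2a
      (318504960), 2 = 2b (73574645760), 3 = 2c (129123503308800), 4 = 3a (944784), 5 = 3b (37791360), 6 = 3c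
      (1632586752), 7 = 3d (13756055040), 8 = 4a (36864), 9 = 4b (92160), 10 = 4c (331776), 11 = 4d (5806080), 12 =
      5a (25200), 13 = 6a (34992), 17 = 6e (15552), 18 = 6f (62208), 19 = 6g (10368), 20 = 6h (41472), 21 = 6i
      (373248), 22 = 6j (5038848), 23 = 6k (248832), 24 = 6l (155520), 25 = 6m (622080), 26 = 6n (39191040), 33 = 9c
      (5832), 35 = 9e (17496), 53 = 12n (8640), 91 = 6o (279936).
-/

set_option autoImplicit false
set_option Elab.async false
set_option maxRecDepth 4000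

namespace Cfsg.Agent.N2.Sp.Fi23

open Cfsg Cfsg.Agent.FP3 Cfsg.Agent.TAB.Eng Cfsg.Agent.TAB.Use

/-- the data -/
abbrev D : Dat := TAB.F23.D

/-- the table -/
noncomputable abbrev R : Rows := TAB.F23.R

/-- the densities -/
def nu : List ℕ :=
  (by
  refine (?fq9001 : (fun (On : (n : Nat) → OfNat Nat n → Nat) (In : (n : Nat) → OfNat Nat n) => ((pk61l_v1 (fun i1 => (pk61o_v1 On In (pk61d_v1 (nat_lit 59) 
    (nat_lit 0x1a92a7baf0003c894c82aac0000acf5ff2c3100002e90ffc6f98000032726a6ce3a000064e4d4d9c740000cf8d989b6e00001e44a64155600001e44a64155600001e44a64155600010370fec249800021a19c4897c00008bb2ff54ec800004bab9fa3557000097573f46aae00012eae7e8d55c0009debbc764300000a5195c4d1780000a5195c4d178000159ebfe586200000f225320aab00005acdf2c4002000021a19c4897c00010d0ce244be000002cd77b0b75000010d0ce244be0000166bbd85ba80000434338912f80000868671225f0000434338912f80001ab50b2a96a000038c0b7ba8014000142dc42b8e400000a16e215c720000567aff9618800010370fec24980002e90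ffc6f9800000166bbd85ba800000d73d81d098000059aef616ea00000868671225f000064e4d4d9c74000064e4d4d9c7400032726a6ce3a0000868671225f0000032726a6ce3a000021a19c4897c00010d0ce244be0000434338912f80000c9c9a9b38e800032726a6ce3a0000c9c9a9b38e80002946571345e00000306dd6ceef00001e44a64155600003c894c82aac000001a92a7baf0000027dbfb98680000013edfdcc340000027dbfb98680000b35dec2dd40000097573f46aae00012eae7e8d55c00025d5cfd1aab80002297996f3d000000000612e4828000002fd4c783b0000017ea63c1d8000001de4fcb24e0000002f3d9bf70000004fb7f730d0000059aef616ea00002cd77b0b75000000ef27e5927000007793f2c93800002cd77b0b75000007793f2c93800002cd77b0b7500000035254f75e0000009397e3fcc0000000147fc3387000002cd77b0b750000142dc42b8e4000064e4d4d9c740000000023706c00000000255371c0000000c98f6640000003efccff400000000000000f76e00000000d407e340000017ea63c1d800000000000001) i1))) (nat_lit 0) (nat_lit 92) List.nil) : List ℕ))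
    = ?xq9001 → (List ℕ)) ?hq9001; (case hq9001 => (set_option maxRecDepth 1000000 in conv => lhs; reduce)); intro _; exact ?xq9001 (@OfNat.ofNat Nat) instOfNatNat : List ℕ)

/-- type, lower and upper bound for the order -/
noncomputable def O : Out :=
  (by
  refine (?fq9002 : (fun (On : (n : Nat) → OfNat Nat n → Nat) (In : (n : Nat) → OfNat Nat n) => ((pk61l_v1 (fun i1 => (_root_.Prod.mk (pk61o_v1 On In (pk61d_v1 (nat_lit 7) 
    (nat_lit 0xb6d51a14268c982e58a94264888d182c509101c305080c101) i1)) (_root_.Prod.mk (pk61o_v1 On In (pk61d_v1 (nat_lit 27) 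
    (nat_lit 0x176562306805d35b1e341d4915b1ae0000004000008800044000002140000004000027800dff5094d82a0010970084b6f00174d7007cc70000000400003800014690027dc000000040000008000001000000a00000040000008000001) i1)) (pk61o_v1 On In (pk61d_v1 (nat_lit 27) 
    (nat_lit 0x2f3d9bf425b74e) (pk61d_v1 (nat_lit 1) 
    (nat_lit 0xeffffff) i1)))))) (nat_lit 0) (nat_lit 28) List.nil) : Out))
    = ?xq9002 → (Out)) ?hq9002; (case hq9002 => (set_option maxRecDepth 1000000 in conv => lhs; reduce)); intro _; exact ?xq9002 (@OfNat.ofNat Nat) instOfNatNat : Out)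

/-- the types -/
def S : List ℕ := [1, 2, 3, 4, 5, 6, 7, 8, 9, 10, 11, 12, 13, 17, 18, 19, 20, 21, 22, 23, 24, 25, 26, 33, 35, 53, 91]

/-- steps -/
noncomputable def l0_0 : List St :=
  (by
  refine (?fq9003 : ((pk61l_v1 (fun i1 => (_root_.Cfsg.Agent.N2.Sp.St.fk (pk61d_v1 (nat_lit 7) 
    (nat_lit 0xf27cb) i1) ((fun g1 : Nat → Nat => pk61l_v1 (fun i2 => (_root_.Prod.mk (pk61d_v1 (nat_lit 60) (Nat.add 
    (nat_lit 0x109b3000000003a8ae0f000000003a360e3000000003945bc50000000036e5e6000000000355dc0300000000356525600000000356525600000000314706b00000000310828e0000000030cec65000000002d1a223000000002d15ec0000000002d03b2f000000002cd296f0000000029b16fb0000000024f8fc20000000024d88aa00000000240723200000000238031f0000000022ba41c000000001e09e69000000001e09e69000000001c6636b000000001c620090000000016b450f0000000010b3eb7000000001005c02000000000d5b4bb000000000c70df2000000000ca3b2d000000000b33ab1000000000a00a460000000009fbd440000000009c8416000000000998cc6000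000000998cc600000000098077800000000083c235000000000830f230000000007380300000000006f6fea000000000661d42000000000601bd70000000004ffd270000000004e03e90000000004933010000000003e10cc0000000003a1ced000000000396eb5000000000366018000000000342c5100000000031338b000000000291f9000000000020d4de0000000001d141e0000000001d3b0600000000017d8bc000000000148df200000000011b0f50000000000f2cce0000000000ac23f00000000007b4ee00000000005f41d00000000005cc3600000000004b76300000000000e6e6000000000021a9100000000002e86f00000000000c03264a5589e1d48b9e31ac48fca5851cf1bad0b4e2b0b51c0985208dbfafd842081a80b75914ea34b7345a00d3ef7567f14ba6134841de0b6b3a76400005e52b42da67ca0b38a546aad4b64fc3c0886027a4a88d167c0f96151d3cd1b8305231b6e4485d2b01ec221423f214be57742414700376184b2df9ae31198108723f3cf52d2f5a048a4db5e27e806c5ad9a93f21373dbfa68c4180d05eae2ed74f59106008c86d045d480432dcfafe4b353a6fcc5c6fa7b3a4187a4fe05247c8225e9e5e42edaee81dd979f0d22b3e1905841c9ebc08c12143066f1c5b6b4f588ca267a81f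10e5a8d8016d292512ba184b0b6352e2405e4130bb14431a76853bbabcf480005af3107a40000e514329f603cdc174ea9469c76cc40c5d8036a8482f509ac8b32a9a216547813233358d76c187a293a36ddd58330477c8ac32549de0b6b3a764000044c132b9d73526929e28f310017bf5250192597a10836729e51bd76f3b1a1d731dd5ad000cc2e4bdce057df01421b5b878a7a1f0a79d3a6d204dfb9606bf99a1108949912588a90e44daf61ba71bfee6eb0111e933a8e5f05d9002f29ae89c6ff7a25773632da245931d166347b8474283af585c364a68ba150b6b759c60e043713e5f209d4d4023ed519430d573819ed1b77bbfb10541a751a30a49d2b) (Nat.shiftLeft 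
    (nat_lit 0x56066bb00000000313c0dd000000001a0c9f800000000019176c00000000001e886000000000029d2e000000005f5e100000000005a1880e0000000059c6cbb0000000054c738a0000000051408c6000000003dbeaa2000000003c) (nat_lit 8000))) i2) (pk61d_v1 (nat_lit 7) 
    (nat_lit 0x2ddab362bd6ab529d2a3427ce9b325ca93223c68b121c28301fbe7af1dba72e1bb66ad19b262c17ae5ab15aa52a13a64a911a24280f9e3a70d9a3260b962a50992224078e1a30589b76acd7ab529d1a13e74d992e549911e345890e14180f5db970dd924160c25ab35eb55a94e9519f3664a93223c484f9eba70ddb2c4c78911) i2))) (g1 i1) (g1 (Nat.succ i1)) List.nil) fun j => (pk61d_v1 (nat_lit 8) 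
    (nat_lit 0x92401e1d00) j)) (nat_lit 0) (pk61d_v1 (nat_lit 40) 
    (nat_lit 0xb6a68fb7310d00000000006cc6264c3f) i1) ((fun g1 : Nat → Nat => pk61l_v1 (fun i2 => (_root_.Prod.mk (pk61d_v1 (nat_lit 2) 
    (nat_lit 0x355) i2) (pk61d_v1 (nat_lit 3) 
    (nat_lit 0x4289) i2))) (g1 i1) (g1 (Nat.succ i1)) List.nil) fun j => (pk61d_v1 (nat_lit 3) 
    (nat_lit 0x5ac8) j)) ((fun g1 : Nat → Nat => pk61l_v1 (fun i2 => (_root_.Prod.mk (pk61d_v1 (nat_lit 21) 
    (nat_lit 0x675b540db10074b8) i2) (_root_.Prod.mk (pk61d_v1 (nat_lit 6) 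
    (nat_lit 0x35c71) i2) (pk61d_v1 (nat_lit 2) 
    (nat_lit 0x3e) i2)))) (g1 i1) (g1 (Nat.succ i1)) List.nil) fun j => (pk61d_v1 (nat_lit 2) 
    (nat_lit 0x3c0) j)))) (nat_lit 0) (nat_lit 4) List.nil) : List St)
    = ?xq9003 → (List St)) ?hq9003; (case hq9003 => (set_option maxRecDepth 1000000 in conv => lhs; reduce)); intro _; exact ?xq9003 : List St)

/-- steps -/
noncomputable def l1_0 : List St :=
  (by
  refine (?fq9004 : ((pk61l_v1 (fun i1 => (_root_.Cfsg.Agent.N2.Sp.St.fk (pk61d_v1 (nat_lit 7) 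
    (nat_lit 0xf27cb) i1) ((fun g1 : Nat → Nat => pk61l_v1 (fun i2 => (_root_.Prod.mk (pk61f_v1 i2 fun j => (fun g : Nat → Nat => Nat.mod (Nat.shiftRight 
    (nat_lit 0x56066bb0313c0dd01a0c9f819176c01e886029d2e05f5e10005a1880e059c6cbb054c738a051408c603dbeaa203c109b303a8ae0f03a360e303945bc5036e5e600355dc0303565256035652560314706b0310828e030cec6502d1a22302d15ec002d03b2f02cd296f029b16fb024f8fc2024d88aa024072320238031f022ba41c01e09e6901e09e6901c6636b01c62009016b450f010b3eb701005c02d5b4bbc70df2ca3b2db33ab1a00a469fbd449c8416998cc6998cc698077883c235830f237380306f6fea661d42601bd74ffd274e03e94933013e10cc3a1ced396eb5366018342c5131338b291f9020d4de1d141e1d3b0617d8bc148df211b0f50f2cce0ac23f07b4ee05f41d05cc3604b763e6e6021a9102e86fc03202686dd8d3e4af3018011eb42a9d99f7c57ca835a3c52132718fea4bef39bdbe617aec519180de50a95a01223fda6328ff2ba201ae64a0358b7b402c056bc75e2d6310000001e7d0ca7438659d49010b07c5e8979a7863016a8d82b9f2b44aad43e3a16e7a0c6a2f9b7402fc718c6e6e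01b4ed699ab6ea1072b3f8a14bedf0946943f7587dc007a445ad9efa345d21ca6f0104cb0532c1e90d3b68e3495f6e39bab11a9cb544bace36935a9d468dd9c8c1cf033a9de31d01f43a2d015977f2c44ffc2d7e011e15eff1142293e10125e82121ce81227e02f11f63ef05c049c22d8661004893b0459f8d7695b6d43fae01cfc5c9ff39ee428a0bf7f63b37ab3670b0d780c3865656e4ea92bb52064abe28bc001cc12fc347c15af3107a4000f5bd8bf6d0bc8601e130c181c2434e07c245611bbeea29020a2cf7a7e911e90157ad2a3766972f047ae9cefe0ac64a021899927d16ee7b01fa911dff16153340238fc69ac1aaa4685ab869df210103ea0a7b925797033f50bee6ccc42795c7e6211e52000173f64b2503a75409a159685e45bc9810c8333a919eed9677eb92f207a9be2e33d3b3410de0b6b3a7640000) (Nat.mul (nat_lit 8) (g j))) (Nat.shiftLeft (nat_lit 1) (Nat.mul (nat_lit 8) (Nat.sub (g (Nat.succ j)) (g j))))) (pk61d_v1 (nat_lit 10) 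
    (nat_lit 0xb1ec3afebbae2b5acaaeaaaa6a8a9ea6a96a4a8ea2a86a0a7e9ea769ca6e9aa6698a5e96a5694a4e92a4690a3e8ea368ca2e8aa278922187a1b8621584a0f8320981a03801fd7e9f77d1f17b9eb7a1e5789df771d9759d3741cd729c7711c16f9bb6e1b66cdb06b9a567194631845ed725a56055d4e5193e4d52d4951d4510c410fc3ccea384d833cc72fcb62b8a62789624089204791c469184591444a10c3b0cc2c0901d0580f02000))) (pk61d_v1 (nat_lit 7) 
    (nat_lit 0x16ed59b15eb55a94e951a13e74d992e549911e345890e14180fdf3d78edd3970ddb3568cd93160bd72d58ad529509d325488d121407cf1d386cd19305cb15284c911203c70d182c4dbb566b55a94e8d09f3a6cc972a4478d16243850603d76e5c3764905830966bd6ab5294e992a4c88ef9eb95480885) i2))) (g1 i1) (g1 (Nat.succ i1)) List.nil) fun j => (pk61d_v1 (nat_lit 8) 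
    (nat_lit 0x8735141300) j)) (nat_lit 0) (pk61d_v1 (nat_lit 47) 
    (nat_lit 0x1db31a058d72ac800000000000002a5e00a8f4) i1) ((fun g1 : Nat → Nat => pk61l_v1 (fun i2 => (_root_.Prod.mk (pk61d_v1 (nat_lit 11) 
    (nat_lit 0x37e8320d000400805) i2) (pk61d_v1 (nat_lit 3) 
    (nat_lit 0x22289) i2))) (g1 i1) (g1 (Nat.succ i1)) List.nil) fun j => (pk61d_v1 (nat_lit 3) 
    (nat_lit 0x6cc8) j)) ((fun g1 : Nat → Nat => pk61l_v1 (fun i2 => (_root_.Prod.mk (pk61d_v1 (nat_lit 28) 
    (nat_lit 0x2d5a6038dd0107f1f0272a40) i2) (_root_.Prod.mk (pk61d_v1 (nat_lit 7) 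
    (nat_lit 0x8ed58b1) i2) (pk61d_v1 (nat_lit 2) 
    (nat_lit 0xbe) i2)))) (g1 i1) (g1 (Nat.succ i1)) List.nil) fun j => (pk61d_v1 (nat_lit 3) 
    (nat_lit 0x4800) j)))) (nat_lit 0) (nat_lit 4) List.nil) : List St)
    = ?xq9004 → (List St)) ?hq9004; (case hq9004 => (set_option maxRecDepth 1000000 in conv => lhs; reduce)); intro _; exact ?xq9004 : List St)

/-- steps -/
noncomputable def l2_0 : List St :=
  (by
  refine (?fq9005 : ((pk61l_v1 (fun i1 => (_root_.Cfsg.Agent.N2.Sp.St.fk (pk61d_v1 (nat_lit 7) 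
    (nat_lit 0xf27cb) i1) ((fun g1 : Nat → Nat => pk61l_v1 (fun i2 => (_root_.Prod.mk (pk61f_v1 i2 fun j => (fun g : Nat → Nat => Nat.mod (Nat.shiftRight 
    (nat_lit 0x56066bb0313c0dd01a0c9f819176c01e886029d2e05f5e10005a1880e059c6cbb054c738a051408c603dbeaa203c109b303a8ae0f03a360e303945bc5036e5e600355dc0303565256035652560314706b0310828e030cec6502d1a22302d15ec002d03b2f02cd296f029b16fb024f8fc2024d88aa024072320238031f022ba41c01e09e6901e09e6901c6636b01c62009016b450f010b3eb701005c02d5b4bbc70df2ca3b2db33ab1a00a469fbd449c8416998cc6998cc698077883c235830f237380306f6fea661d42601bd74ffd274e03e94933013e10cc3a1ced396eb5366018342c5131338b291f9020d4de1d141e1d3b0617d8bc148df211b0f50f2cce0ac23f07b4ee05f41d05cc3604b763e6e6021a9102e86fc03202686dd8d3e4af3018011eb42a9d99f7c57ca835a3c52132718fea4bef39bdbe617aec519180de50a95a01223fda6328ff2ba201ae64a0358b7b402c056bc75e2d6310000001e7d0ca7438659d49010b07c5e8979a7863016a8d82b9f2b44aad43e3a16e7a0c6a2f9b7402fc718c6e6e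01b4ed699ab6ea1072b3f8a14bedf0946943f7587dc007a445ad9efa345d21ca6f0104cb0532c1e90d3b68e3495f6e39bab11a9cb544bace36935a9d468dd9c8c1cf033a9de31d01f43a2d015977f2c44ffc2d7e011e15eff1142293e10125e82121ce81227e02f11f63ef05c049c22d8661004893b0459f8d7695b6d43fae01cfc5c9ff39ee428a0bf7f63b37ab3670b0d780c3865656e4ea92bb52064abe28bc001cc12fc347c15af3107a4000f5bd8bf6d0bc8601e130c181c2434e07c245611bbeea29020a2cf7a7e911e90157ad2a3766972f047ae9cefe0ac64a021899927d16ee7b01fa911dff16153340238fc69ac1aaa4685ab869df210103ea0a7b925797033f50bee6ccc42795c7e6211e52000173f64b2503a75409a159685e45bc9810c8333a919eed9677eb92f207a9be2e33d3b3410de0b6b3a7640000) (Nat.mul (nat_lit 8) (g j))) (Nat.shiftLeft (nat_lit 1) (Nat.mul (nat_lit 8) (Nat.sub (g (Nat.succ j)) (g j))))) (pk61d_v1 (nat_lit 10) 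
    (nat_lit 0xb1ec3afebbae2b5acaaeaaaa6a8a9ea6a96a4a8ea2a86a0a7e9ea769ca6e9aa6698a5e96a5694a4e92a4690a3e8ea368ca2e8aa278922187a1b8621584a0f8320981a03801fd7e9f77d1f17b9eb7a1e5789df771d9759d3741cd729c7711c16f9bb6e1b66cdb06b9a567194631845ed725a56055d4e5193e4d52d4951d4510c410fc3ccea384d833cc72fcb62b8a62789624089204791c469184591444a10c3b0cc2c0901d0580f02000))) (pk61d_v1 (nat_lit 7) 
    (nat_lit 0x16ed59b15eb55a94e951a13e74d992e549911e345890e14180fdf3d78edd3970ddb3568cd93160bd72d58ad529509d325488d121407cf1d386cd19305cb15284c911203c70d182c4dbb566b55a94e8d09f3a6cc972a4478d16243850603d76e5c3764905830966bd6ab5294e992a4c88ef9eb95480885) i2))) (g1 i1) (g1 (Nat.succ i1)) List.nil) fun j => (pk61d_v1 (nat_lit 8) 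
    (nat_lit 0x8735141300) j)) (nat_lit 0) (pk61d_v1 (nat_lit 47) 
    (nat_lit 0x1dd3369651fafdc00000000000002a9d5c47df) i1) ((fun g1 : Nat → Nat => pk61l_v1 (fun i2 => (_root_.Prod.mk (pk61d_v1 (nat_lit 11) 
    (nat_lit 0x37e8320d000400805) i2) (pk61d_v1 (nat_lit 3) 
    (nat_lit 0x22289) i2))) (g1 i1) (g1 (Nat.succ i1)) List.nil) fun j => (pk61d_v1 (nat_lit 3) 
    (nat_lit 0x6cc8) j)) ((fun g1 : Nat → Nat => pk61l_v1 (fun i2 => (_root_.Prod.mk (pk61d_v1 (nat_lit 28) 
    (nat_lit 0x2d5a6038dd0107f1f0272a40) i2) (_root_.Prod.mk (pk61d_v1 (nat_lit 7) 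
    (nat_lit 0x8ed58b1) i2) (pk61d_v1 (nat_lit 2) 
    (nat_lit 0xbe) i2)))) (g1 i1) (g1 (Nat.succ i1)) List.nil) fun j => (pk61d_v1 (nat_lit 3) 
    (nat_lit 0x4800) j)))) (nat_lit 0) (nat_lit 4) List.nil) : List St)
    = ?xq9005 → (List St)) ?hq9005; (case hq9005 => (set_option maxRecDepth 1000000 in conv => lhs; reduce)); intro _; exact ?xq9005 : List St)

/-- steps -/
noncomputable def l3_0 : List St :=
  (by
  refine (?fq9006 : ((pk61l_v1 (fun i1 => (_root_.Cfsg.Agent.N2.Sp.St.fk (nat_lit 0) (pk61l_v1 (fun i2 => (_root_.Prod.mk (pk61d_v1 (nat_lit 41) 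
    (nat_lit 0xbb8f06b2fe35a3b7078cce30f9d106206c7136dd000467c27628029589e8b33ea2f8ca858852b1c6c4c391018aeb5c33c82097ec3d802a63d0cf881667e82c66611753fbd5b05531fb0fbd8e20f948e9ce09777c9e84283a1e36d138dd0aae4c3fce878fb604a6b3c2f20ce356473b4ac9a94f232ab4c47877138a623c1b6e5eb10a52356bd872e6dae8ab58e3c7e3a508bc82a42281fbe3150139d32904dc9a56c240c24bb00d65ee20b199845d50545ba26527b970efd943dcb67636398c65f6cc7091c2d02bec45d28bf8a81d13807e1f8db1ed63c4c6d8f6b1e2630e51a722915c5ba1b980aebcf5b120549c356d8029d90c25c714fe4a92098a59e2d1f5847b4c785aa23aa90473c0faf6831a6878b785ee4437ac2ddff81a236ea7c70aebb746850543c0e08b427a313ccae10c3439e3e07f2f8b39a03ed5751ccc1e2dc1602a0e093a8fd806af09949c82ce7279eac11dd948dfc08050d774003f092136081a5afe12700b588420ec05142aeecc020559854c00bbf86b4fc0358c5dc500182545f0200b6c6a71e004f6e74a900123a38f380097d6eadc003da9f583000bf4dee64005fa6f7320006455a0d) i2) (pk61d_v1 (nat_lit 7) 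
    (nat_lit 0xb76acd8af5aad4a74a8d09f3a6cc972a4c88f1a2c4870a0c07ef9ebc76e9cb86ed9ab466c98b05eb96ac56a94a84e992a446890a03e78e9c3668c982e58a9426488901e3868c1628484) i2))) (nat_lit 0) (nat_lit 84) List.nil) (nat_lit 0) (nat_lit 100000000) List.nil List.nil)) (nat_lit 0) (nat_lit 1) List.nil) : List St)
    = ?xq9006 → (List St)) ?hq9006; (case hq9006 => (set_option maxRecDepth 1000000 in conv => lhs; reduce)); intro _; exact ?xq9006 : List St)

/-- steps -/
noncomputable def l4_0 : List St :=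
  (by
  refine (?fq9007 : ((pk61l_v1 (fun i1 => (_root_.Cfsg.Agent.N2.Sp.St.fk (nat_lit 0) (pk61l_v1 (fun i2 => (_root_.Prod.mk (pk61d_v1 (nat_lit 30) 
    (nat_lit 0x934aed3d604c03c30272744048701fade0d48663fd458973005fe36617738728487da2d85145f9e6391668b9f66c403095b70da9e57bfe7f53d98a8e5da220d576888354ab4dc651bb41925ba20cf974d7ea83d31ce196dfda33424218fd458e95131f59a70f5212f444afed0d1ae6306471c7388bef1e452fbc79148f0d4583d73afc885c729a1c9863c88ad99dd11ce5a446dfeda00ee0a1082f468060e3347b449ace240f357e3c3648c290d9230a44e4e61110c71330455845907ed6a50406514a084f849c2ef1b4504eb648c2e3d2bb044eb70c224365105d678fc1610c86044b9fbc1263d4b092754c020ef4da005c907005b46000478764c06722f80367eee4099e397006fa0f00938a660072568001f0793) i2) (pk61d_v1 (nat_lit 7) 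
    (nat_lit 0x2ddab362ad4a74a8d09f3a6cc972a4c88f1a2c4870a0c07ef9ebc76e9cb86ed9ab466c98b05eb96ac56a94a84e992a446890a03e78e9c3668c982e58a94203c70b) i2))) (nat_lit 0) (nat_lit 74) List.nil) (nat_lit 0) (nat_lit 1000000) List.nil List.nil)) (nat_lit 0) (nat_lit 1) List.nil) : List St)
    = ?xq9007 → (List St)) ?hq9007; (case hq9007 => (set_option maxRecDepth 1000000 in conv => lhs; reduce)); intro _; exact ?xq9007 : List St)

/-- steps -/
noncomputable def l5_0 : List St :=
  (by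
  refine (?fq9008 : ((pk61l_v1 (fun i1 => (_root_.Cfsg.Agent.N2.Sp.St.fk (nat_lit 0) (pk61l_v1 (fun i2 => (_root_.Prod.mk (pk61d_v1 (nat_lit 25) 
    (nat_lit 0x12c96b7678e58a03d4381087c9c2dca4c43a8b6c8f05f89fd277e1d1980112d4618f01b2fe45124e7fc4b86fc2f49e1fc6036e1e2c88261334644dfd6b4d8f1bda1b4dedc8b455f11d658eabcc16c6b9d47b3f9f49258bc88ce4342a7aada214471287e7868c73355ea929337964c9a99e5ce6d01eac898bcd3dc8c76fc02b4711c4d928705aa46cce2c138778087d8387831ec35a0747ef3ea0df65309ca594607bd2186e131d88a40e9d99c41cee617d711) i2) (pk61d_v1 (nat_lit 7) 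
    (nat_lit 0x5bb566c55a94e951a13e74d992e549911e345890e14180fdf3d78edd3970ddb3568cd82f5cb562b54a13a64a911203c6cd0b) i2))) (nat_lit 0) (nat_lit 57) List.nil) (nat_lit 0) (nat_lit 10000000) List.nil List.nil)) (nat_lit 0) (nat_lit 1) List.nil) : List St)
    = ?xq9008 → (List St)) ?hq9008; (case hq9008 => (set_option maxRecDepth 1000000 in conv => lhs; reduce)); intro _; exact ?xq9008 : List St)

/-- steps -/
noncomputable def l8_0 : List St :=
  (by
  refine (?fq9009 : ((pk61l_v1 (fun i1 => (_root_.Cfsg.Agent.N2.Sp.St.fk (pk61d_v1 (nat_lit 6) 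
    (nat_lit 0x2ddb4) i1) ((fun g1 : Nat → Nat => pk61l_v1 (fun i2 => (_root_.Prod.mk (pk61d_v1 (nat_lit 64) 
    (nat_lit 0x31e0000000000003cc2000000000000ccbc000000000000b7d400000000000139a800000000000159cf000000000000d50a00000000000278f4000000000001eb6100000000000243fb0000000000006ccc0000000000004185000000000000869a0000000000020b8200000000000019fe00000000000047f400000000000103e1000000000000943b000000000000e0a8000000000000625a000000000000fdfd0000000000000de200000000000073d30000000000016314000000000000cb6e000000000000051e0000000000012b4c453fd0e0df2ccfe289479fab73424d446e52e9bb533c6d313b62633ed02c39c4271a8ae287c2bb3a1dc99dac2c73def8a688aa074630d7a3a8fb2e94b97b453b4c2f33eb35e43b601b84e49f1f946b80bbb0460c02ccd61e188b609bb12388cbc67ba8e91b6d2046fcdfbf6979445314853e1b491ae4839b1f7b145d2dc03ab76061ff81e0abcde936b258fb68986690540757b231e29530a98ed24f5cfa48e500a21ecc9f7d1c82016460d86027239e00b8f683b4480bec024b66f0e0314a65019887ea091844f2016b0159688ff0220350ef30c14d0f76015685a1e09d65f501870d8a77be9368003a6b9a0f234fd501587f6b1a1a37000dd8e1596d59ecab0de0b6b3a7640000004cd731db76a1780001fb28393b38590006b74bef1b6c7100472d566696f2a70031090856f4485400cc5b8fcc3c85f10de0b6b3a7640000)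 i2) (pk61d_v1 (nat_lit 7) 
    (nat_lit 0x16ed59ad56a53a54274d932234580f9ebb74e5c3768c931db76aad1a13e74d972a3428301ebc6ca911eb55694f992a4c37cb0b080356a519d05502) i2))) (g1 i1) (g1 (Nat.succ i1)) List.nil) fun j => (pk61d_v1 (nat_lit 7) 
    (nat_lit 0x435050380) j)) (nat_lit 0) (pk61d_v1 (nat_lit 67) 
    (nat_lit 0x1e84815af1d78b58c400000057038b9a775bb29800cf24fc7ffadef1) i1) ((fun g1 : Nat → Nat => pk61l_v1 (fun i2 => (_root_.Prod.mk (pk61d_v1 (nat_lit 10) 
    (nat_lit 0x8a0b80240a0243a01406) i2) (pk61d_v1 (nat_lit 3) 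
    (nat_lit 0x45a311) i2))) (g1 i1) (g1 (Nat.succ i1)) List.nil) fun j => (pk61d_v1 (nat_lit 4) 
    (nat_lit 0x88630) j)) ((fun g1 : Nat → Nat => pk61l_v1 (fun i2 => (_root_.Prod.mk (nat_lit 35808868) (_root_.Prod.mk (nat_lit 10) (nat_lit 2)))) (g1 i1) (g1 (Nat.succ i1)) List.nil) fun j => (pk61d_v1 (nat_lit 1) 
    (nat_lit 0x1c) j)))) (nat_lit 0) (nat_lit 4) List.nil) : List St)
    = ?xq9009 → (List St)) ?hq9009; (case hq9009 => (set_option maxRecDepth 1000000 in conv => lhs; reduce)); intro _; exact ?xq9009 : List St)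

/-- steps -/
noncomputable def l9_0 : List St :=
  (by
  refine (?fq9010 : ((pk61l_v1 (fun i1 => (_root_.Cfsg.Agent.N2.Sp.St.fk (pk61d_v1 (nat_lit 6) 
    (nat_lit 0x2ddb4) i1) ((fun g1 : Nat → Nat => pk61l_v1 (fun i2 => (_root_.Prod.mk (pk61d_v1 (nat_lit 67) 
    (nat_lit 0x1df7c0000000000049068800000000001ec25d00000000000373c7f00000000000bc7e88000000000019fa31800000000002001dd80000000000be30ad00000000001274cee00000000002b9181400000000001058840000000000013affe0000000000050e3e20000000000275370c000000000003e7c580000000000159ef4000000000009c2d1800000000000b2293c000000000021c0b1800000000001d8d6b0000000000098a2d60000000000010afe400000000001166ce800000000006ab1c6000000000007a40a40000000000006271400000000002cf776800a974c077ace60e0023c2599705ff55c002e749d8d2ee4cc8006762cbb56492ff00040eecedd41f1fb00219fd63af88ca0a004db8943e2985614003d2784bfb3be5f0005cf427ea6cd94c00241ad2bab7615340064a6cf781e7624000e4e196be4f647a00100dbcf9fd4daf70011b3c6000596ad0003d08f26de3ade18002e6f48b196114f000d9c9b03a2b59d50035274aeb29078c00433ab2a1536f53dc0260f51c477c288d8035b0a0abfbb5745004802ab5c1152e7800cbd864677f29dc8010f889f6fb839bf84e5ab7f2d5ce44312815f635c43cf28435af1d78b58c400000001a917846334511000141ee89f4a63360003b14e08a55e68a000225c6eb909eba00018ae453b54a8ef80de0b6b3a7640000)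 i2) (pk61d_v1 (nat_lit 7) 
    (nat_lit 0xb76acd6ab529d2a13a6c9911a2c07cf5dba72e1bb46498edbb5568cf9d365ca8d0603d78d95223d6eb54a2f950b1006b549b21502) i2))) (g1 i1) (g1 (Nat.succ i1)) List.nil) fun j => (pk61d_v1 (nat_lit 6) 
    (nat_lit 0x3c84f180) j)) (nat_lit 0) (pk61d_v1 (nat_lit 62) 
    (nat_lit 0x17d78400de0b6b3a7640000e8755de309ac6610049ab3525c0b88b) i1) ((fun g1 : Nat → Nat => pk61l_v1 (fun i2 => (_root_.Prod.mk (pk61d_v1 (nat_lit 11) 
    (nat_lit 0x10014143f688403007) i2) (pk61d_v1 (nat_lit 2) 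
    (nat_lit 0x2799) i2))) (g1 i1) (g1 (Nat.succ i1)) List.nil) fun j => (pk61d_v1 (nat_lit 3) 
    (nat_lit 0x7f50) j)) List.nil)) (nat_lit 0) (nat_lit 4) List.nil) : List St)
    = ?xq9010 → (List St)) ?hq9010; (case hq9010 => (set_option maxRecDepth 1000000 in conv => lhs; reduce)); intro _; exact ?xq9010 : List St)

/-- steps -/
noncomputable def l10_0 : List St :=
  (by
  refine (?fq9011 : ((pk61l_v1 (fun i1 => (_root_.Cfsg.Agent.N2.Sp.St.fk (pk61d_v1 (nat_lit 6) 
    (nat_lit 0x2ddb4) i1) ((fun g1 : Nat → Nat => pk61l_v1 (fun i2 => (_root_.Prod.mk (pk61d_v1 (nat_lit 67) 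
    (nat_lit 0xec000000000000023f30000000000000f24a0000000000001b3180000000000005ccc0000000000000cc9f0000000000000fc1e0000000000005da1c00000000000091610000000000001572f000000000000080c200000000000009b1400000000000027d2800000000000135c400000000000001ec40000000000000aa500000000000004ce3000000000000057b6000000000000109de0000000000000e8c80000000000004b2500000000000000837000000000000089120000000000003486c0000000000003c2f8000000000000030700000000000016232004fd89715b1ceb6400375194068b771d0011cf6e812188b0100097b1666e19f12a0016e1b97ee1623dc00afc4fc4b57d06e8006dc600665f92eb0000e8e1bff20d40a0013a342d824187fc0067dd3cf643f3a48015f7692fbf2b4220027789e53ba10dea001adfbfd28a4b578002d983b75a8e7d9801ff311fb03129a90012c19cde6a98fa6003f521c9ac94b9b80105539adbc87897805d0e48f893ef779001ab83b2c2812c6e003af62a6e57f41a8052600508e635fad0274c3dc8e944efacad78ebc5ac620000000ba0352b31cadc28006730fe0b73c01556bc75e2d63100000) i2) (pk61d_v1 (nat_lit 7) 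
    (nat_lit 0x2ddab35aad4a74a84e9b264468b01f3d76e9cb86ed19263b6aad3a33e74d972634180f5e2a4c88f53a33550b0351f02) i2))) (g1 i1) (g1 (Nat.succ i1)) List.nil) fun j => (pk61d_v1 (nat_lit 6) 
    (nat_lit 0x366c90c0) j)) (nat_lit 0) (pk61d_v1 (nat_lit 60) 
    (nat_lit 0xf4240de0b6b3a7640000ff966e7d6b88a85640c3672d15a8ae) i1) ((fun g1 : Nat → Nat => pk61l_v1 (fun i2 => (_root_.Prod.mk (pk61d_v1 (nat_lit 12) 
    (nat_lit 0x50021641de1dd4ce9433135775a9) i2) (pk61d_v1 (nat_lit 3) 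
    (nat_lit 0x1168e8d1) i2))) (g1 i1) (g1 (Nat.succ i1)) List.nil) fun j => (pk61d_v1 (nat_lit 4) 
    (nat_lit 0xaa850) j)) List.nil)) (nat_lit 0) (nat_lit 4) List.nil) : List St)
    = ?xq9011 → (List St)) ?hq9011; (case hq9011 => (set_option maxRecDepth 1000000 in conv => lhs; reduce)); intro _; exact ?xq9011 : List St)

/-- steps -/
noncomputable def l11_0 : List St :=
  (by
  refine (?fq9012 : ((pk61l_v1 (fun i1 => (_root_.Cfsg.Agent.N2.Sp.St.fk (pk61d_v1 (nat_lit 6) 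
    (nat_lit 0x2ddb4) i1) ((fun g1 : Nat → Nat => pk61l_v1 (fun i2 => (_root_.Prod.mk (pk61d_v1 (nat_lit 67) 
    (nat_lit 0x7b5e7200000000012ca0ae80000000007ea0c1f0000000000e364d95000000000307fbae00000000006af129ec00000000083c411680000000030ef6f150000000004bfad6dc000000000b35c277c000000000434a96f0000000000510c5fd00000000014d011a8000000000a1e51a100000000001013cea00000000005902012000000000282f00b20000000002dd71a980000000008af38c8000000000079a8e8d0000000002745d354000000000044b24ac00000000047a34fe8000000001b73be4f0000000001f7485660000000000195430c000000000b91dc6a07fb1ba47c068b0e212f8bdead941228a4010bc8d2d551bb200095a53dd3d57da910435bac696e334f470860dbe43c5eb5c5e05628186dac734c3813f42e51fe7b5464819d6215d96b7726518a18bddd912bc0260eaa97b23c94c4e6800d0f197a8ab1ee8017f7674b84c9aadf1b117d332ccaaf07e159d8bfc474cb7aa4248c6b81c41e4f590977e337924b9da830795e047a754b871c04ff0f0c7a0d70aa2b5e3af16b188000000de0b6b3a7640000) i2) (pk61d_v1 (nat_lit 7) 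
    (nat_lit 0xb76acd6ab529d2a13a6c9911a2c07cf5dba72e1bb46498edaa7467ce9b263448301ebc549911e0d58082) i2))) (g1 i1) (g1 (Nat.succ i1)) List.nil) fun j => (pk61d_v1 (nat_lit 6) 
    (nat_lit 0x30543040) j)) (nat_lit 0) (pk61d_v1 (nat_lit 67) 
    (nat_lit 0x4a817c8015af1d78b58c4000000012c8cfffa0688d800000d230dee9586) i1) ((fun g1 : Nat → Nat => pk61l_v1 (fun i2 => (_root_.Prod.mk (pk61d_v1 (nat_lit 11) 
    (nat_lit 0x4363d2ab640c640ac18832) i2) (pk61d_v1 (nat_lit 2) 
    (nat_lit 0x9e79) i2))) (g1 i1) (g1 (Nat.succ i1)) List.nil) fun j => (pk61d_v1 (nat_lit 4) 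
    (nat_lit 0x88630) j)) List.nil)) (nat_lit 0) (nat_lit 4) List.nil) : List St)
    = ?xq9012 → (List St)) ?hq9012; (case hq9012 => (set_option maxRecDepth 1000000 in conv => lhs; reduce)); intro _; exact ?xq9012 : List St)

/-- steps -/
noncomputable def l12_0 : List St :=
  (by
  refine (?fq9013 : ((pk61l_v1 (fun i1 => (_root_.Cfsg.Agent.N2.Sp.St.fk (pk61d_v1 (nat_lit 6) 
    (nat_lit 0x86040fced) i1) ((fun g1 : Nat → Nat => pk61l_v1 (fun i2 => (_root_.Prod.mk (pk61d_v1 (nat_lit 64) (Nat.add 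
    (nat_lit 0x1a1732280000000021860d2500000000101c64120000000003b4af3d00000000244566030000000009f3241b000000000def0c43000000000ce337420000000023287a4c0000000003d498b0000000000c31429400000000026f1f9d000000000c19f657000000000d8986480000000016461edb000000000ddd974f00000000003c43ce000000001a7b2547000000000907a95c00000000059d06e30000000005852c360b136a31eeb237020e30280e0eb19b950b0df24e0bca5a0e229563b4ff746a684c2a8d9fea1b62822c39377939370c557b1fb5b3abe9439245f092adfda615fd3d7f057a0926393023dad68860255980121f656ae1ea7e9a28d4c919deab164b15ba9f14b76f642c22ca7797f30bc3051d7600a63586281161d188d428b3754d18371661bedacbf01e82d06bef85accc19e2a231282a22853780ecd32b008bfb0015f5fe4d02b156021a7aca7a0c12a20102d2341f7724c10066138d4d48a5a900bfa54e7a6b16400050e9a3cb72ff8400ae7a5435909524001310256164ba340075e1c57bd576b4003e757b0bc723c60090c57169d65be6005b2e987239173e00b3ca3565e26b12009e4c6d4b777fc900516911a50b06bf004d87df1ebf7202006c09c5bb6f11d800199ea4dee048280013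929402be82b8008a6696b3e5a9160095de2a4b8b794b00715e16e38e7a76007c4744e38103b501720de9d529d981004ceb5c6c6f64dd00130c4bc4e2faad001ed3cd8832785b01581d66ecf9361700ba490bb446766a001dcf4f99ff904b0002067b0395485600b81d9cac3ec4eb00f121789f14c4510013a561cbb4339c004ec14935253a8701579227de8b42e200a51a3a25711f030033b97ffe7f737a00f1fcbba3a2f41b0151f096de6946f90018756ec7d6bc6601800b2804c74c8c011718982198dc3b00b99ce3d742f5d60135fb33285373d60088643f8a7d95dc00aba68cbff311b700325c23fb8f272c0071a22d2c18ad9c007369f1f65187980112a791daa235d202b1f97e03206a360095da3973dfe5800113684ec5d2945e005cef6f985e60db00c326514b71a4770018a4f0ccc8f6df000499710175c9380048cdbfc87f09960013fcbc0e1d413a018607ef3ff106f500a5f1b75befccb80037a2a99cc905b9017d44af410c78a800b7a9240f3e879202469b5531dd2dcf00ba66baca8bd1280de0b6b3a76400006edb3c3c074613880edfd19371f6875e7cabfe487321a26906f555ee215a1cb1034dc45caa79865b4a6e69418ac1c7320e741a060abb197f0197e835be7b85aed7d7f6738e097858203638f1b4597829ad8bcbba1ba815cf7004f38ac19efcff13c52fe7f6329cd335497e40d9896059ac0031ac4d5e242b2259a69be92a3fc3)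 (Nat.shiftLeft 
    (nat_lit 0xb11d8640000000000239deb000000000e5bfce9) (nat_lit 8000))) i2) (pk61d_v1 (nat_lit 7) 
    (nat_lit 0xb76ab55a74a8d09d264468b0a03d76e9c376878e82b76ab55a94e84e992a4467cf5cb464b0e82b35aad3a53e74d992e44586e9cb55eb95243b6acd4a54684e991603e72b539b2c32b52a13a4c88b05f39488d10e1622c55a94684e931a0ba5438303b5529cf9d3634482f15264478301) i2))) (g1 i1) (g1 (Nat.succ i1)) List.nil) fun j => (pk61d_v1 (nat_lit 8) 
    (nat_lit 0x8068543f2e1e1000) j)) (nat_lit 0) (pk61d_v1 (nat_lit 67) 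
    (nat_lit 0xad78ebc5ac620000003782dace9d9000000490bd9574c68dd5000000002540be400) (pk61d_v1 (nat_lit 2) 
    (nat_lit 0xea7) i1)) ((fun g1 : Nat → Nat => pk61l_v1 (fun i2 => (_root_.Prod.mk (pk61d_v1 (nat_lit 9) 
    (nat_lit 0xdc04030181bb2f3) i2) (pk61d_v1 (nat_lit 2) 
    (nat_lit 0x1559) i2))) (g1 i1) (g1 (Nat.succ i1)) List.nil) fun j => (pk61d_v1 (nat_lit 3) 
    (nat_lit 0xff58d0) j)) ((fun g1 : Nat → Nat => pk61l_v1 (fun i2 => (_root_.Prod.mk (pk61d_v1 (nat_lit 26) 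
    (nat_lit 0xa6631f803c6ca73c6c) i2) (_root_.Prod.mk (pk61d_v1 (nat_lit 6) 
    (nat_lit 0x3528a) i2) (pk61d_v1 (nat_lit 2) 
    (nat_lit 0x3a) i2)))) (g1 i1) (g1 (Nat.succ i1)) List.nil) fun j => (pk61d_v1 (nat_lit 2) 
    (nat_lit 0xf500) j)))) (nat_lit 0) (nat_lit 7) List.nil) : List St)
    = ?xq9013 → (List St)) ?hq9013; (case hq9013 => (set_option maxRecDepth 1000000 in conv => lhs; reduce)); intro _; exact ?xq9013 : List St)

/-- steps -/
noncomputable def l13_0 : List St :=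
  (by
  refine (?fq9014 : ((pk61l_v1 (fun i1 => (_root_.Cfsg.Agent.N2.Sp.St.fk (pk61d_v1 (nat_lit 6) 
    (nat_lit 0x86040fced) i1) ((fun g1 : Nat → Nat => pk61l_v1 (fun i2 => (_root_.Prod.mk (pk61d_v1 (nat_lit 67) 
    (nat_lit 0x220f861c00000000000db2e40000000000b0baed90000000002823af9800000000067264fc00000000006324dde80000000002d9c1e000000000037cd3a700000000001e9d5b6000000000055bf10500000000009e9dbbb0000000003616e37e0000000000bc938440000000004b07c1080000000001df5364000000000129e188200000000029a726fc0000000008911f8d8000000000aaa7462000000000005cb716000000000517ae8cc00000000037919c0800000000045167c1000000000087e1ca0028c3a5e348355a480734abeecf492d5e01625fcca05be7a27073f5247c3d7b6024096bab4f0348cf36c2ddb38d1225f60550306e3bb411c3f438012388e96a76dc6380e5190d170a1cfca80e38d851a9c27ece805b1b822157522df023da1c536b5efc1c02d49c2934f99eab8109c54d32afcee280175924987273284206a5352c944a604d80dc506d5a5c58f4bc055b154d553c725801806f32c1a16d64c046b585a10dfe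126e000420b5f702fbd6400d7fbba5ade7e36000bdd8e0e1a1eef6000e634d950b2da4e001c52c31e2ca955c0008ab5486d448318003a4ea9fee3a3e5000cd290af78df9b6001c8d226a3515d3c0011a602a938a01900013d24cd499746f000f6b8540d825e6a001032d6c5f51661000484f03dacedb32800769b4358f5b27200056a8a1976e5378001608904c5455b3c003342b5243ea66e00024441fc100c843000d3730cadd4758e001d635e9badfb610002c4cb5848031ab8006c1772adb850a10023ceafd83ca308600132b9ea39b22808000f7c22d5eb5c59800f776f6103cc74a0010b814edfce610800031118b70173f68004780b0bd840f72800af39860276e65900028c15a43c1a272000ebc6f0d281c9c8008aaf0d01b491d980091939b9fa47c7a0000beb0b12ad4140001c31408a02a684400437d97be0c58a20006de6b37905a6a5002c665e76f5f65ee003556f06ceea7e8c0020b772670551da001039d678ca849360002201e2de3d81f4001c5af4e8a838b080039bfb6afa364b98009e753578de293e0015549505b50bf040085c218eb6ac5e5401889214255f4c1e816cdcd03699459f10104d2fc9dce3c48801bf62876af311ae80439b970bbd5e5d083354d1dfb3ae977700d6965f78a7022d00f5d937c6874f97dc0b24509ff71939b986e31ef708e7a2fa9ad78ebc5ac620000000365c341180eaae800119fd20f2697c1800f2a3efcfa7ed9600013eaac57f9e36800014cbc95bad077c0048236aa7e0e1420001e2760660ff9c1003549858669315640001d680afd3da860001ef045b6fb30f18015359bdc9e2db42001c6dbc024438b30000bc9d2d6a7de55000301d8334174eaa801528ae343ff4448)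 i2) (pk61d_v1 (nat_lit 7) 
    (nat_lit 0x16ed56ab4e951a13a4c88d161407aedd386ed0f1d056ed55a94e84e9b325488cf9eb968c960f0566b55a74a84f9d325ca91161ba72d57aa4876d59a94a8ce9915f395a9cd9619529509d2644582f92234438454a745d2a4c38586076aa539f3a6c682f5e2a4c88f06) i2))) (g1 i1) (g1 (Nat.succ i1)) List.nil) fun j => (pk61d_v1 (nat_lit 7) 
    (nat_lit 0xef7e5b64e64780) j)) (nat_lit 0) (pk61d_v1 (nat_lit 67) 
    (nat_lit 0xad78ebc5ac62000002bf4e4655a6c801dc06f05b59d3b20000000000002540be400) (pk61d_v1 (nat_lit 2) 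
    (nat_lit 0xd59) i1)) ((fun g1 : Nat → Nat => pk61l_v1 (fun i2 => (_root_.Prod.mk (pk61d_v1 (nat_lit 10) 
    (nat_lit 0xfc01008037361401002) i2) (pk61d_v1 (nat_lit 2) 
    (nat_lit 0x5599) i2))) (g1 i1) (g1 (Nat.succ i1)) List.nil) fun j => (pk61d_v1 (nat_lit 4) 
    (nat_lit 0x88765420) j)) ((fun g1 : Nat → Nat => pk61l_v1 (fun i2 => (_root_.Prod.mk (pk61d_v1 (nat_lit 29) 
    (nat_lit 0x2881ace2d76400f858d124cb621) i2) (_root_.Prod.mk (pk61d_v1 (nat_lit 6) 
    (nat_lit 0xd4a28a) i2) (pk61d_v1 (nat_lit 2) 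
    (nat_lit 0xea) i2)))) (g1 i1) (g1 (Nat.succ i1)) List.nil) fun j => (pk61d_v1 (nat_lit 3) 
    (nat_lit 0x912240) j)))) (nat_lit 0) (nat_lit 7) List.nil) : List St)
    = ?xq9014 → (List St)) ?hq9014; (case hq9014 => (set_option maxRecDepth 1000000 in conv => lhs; reduce)); intro _; exact ?xq9014 : List St)

/-- steps -/
noncomputable def l14_0 : List St :=
  (by
  refine (?fq9015 : ((pk61l_v1 (fun i1 => (_root_.Cfsg.Agent.N2.Sp.St.fk (pk61d_v1 (nat_lit 6) 
    (nat_lit 0x114f586040fced) i1) ((fun g1 : Nat → Nat => pk61l_v1 (fun i2 => (_root_.Prod.mk (pk61d_v1 (nat_lit 67) (Nat.add 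
    (nat_lit 0x4e7dcac0e62959d3ac2dba00030c1371ebfc56540030109be5294d37500ee1e5784b7905da03eec625d9ad2bc8c18c1c5cf23617a498091671aa2c18c5f80732fd4696e5f242a062b93267ab8b78b002ba495a7f89dc6680715cae844f30143051acec1f683e10da04ed2359a1e3019fc08e01179e0b998460011ce3d4a364d794009f9c67113b5a23404ab7a501d1ee0d3c0d225d4b04d5456200156f800992b8e2d044aba1b7b239c7580b854cd4129879fec03674337a2f7d60c85c9292235e43c7700093b39fc7cad121c04684b53715703a0c1aa2e3abc160c47c803f2b3102e5267ff04bbeb4f97eb930c4090c1869992ff95a401d8304fe205619780ec75455225d0db80046e52cf1c1ee77a09f0f385e5d085ec00556c51b35d2ea59009921af30f6ddb47034f5769300e65bf806c35ea48140cd42010cccad4d154360600bf07a3259597c3e04d1ad8fa98a26fa60acf69f3cd68bdb6c030dff6c369c303a8218a20b18f0ed08903a7d604effb250f601b61fde8ad277a441aa7e51461d953bd01373a1ee88cab1a709a25f1c137d5fc8e110e1e53d7e9cc5b42300604c0b3732e581184764311ade12c0096a13d6470501de03bbc3da984ceb4c412c44da60a8c3c8a01638aaeebfef05e6052f96ef68db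b4428040c3e0e211099638077de54056d7497e8311b4e4d46eb0a310072f6b4c85896dec05e4289f78d9082340686e3cbf7b96e220b3e742ad524788ea0707167e75329bf6e082618bec5ee58168140c945c7ee5a0178070455d038be8a42048ae91738201d8dc0acaad76095a9942c131b7b18700cbf9a83fd94ab8add475ea0492549a15646b77a018df7d00546881801089783ff7191a16026483458ad73c6e205f20731f730168de091148ff302c5d4740576834c8179000900015f1f12fbdfdbb000758d2565b00a200014f3b591fb286dc0080b689492211f880027379e9061d0b300165c90692e759c400143393479c2a9380003824cac93b7740006f731b2f9e28be000c502463a77f40a0008895e7783aa93000296119feaf5045000e3be09bbf4c216000a4644ba05459bc0006f02901b9465f8004cac30dd6483568001ce4284544e33500082b5947a3dd11a0012455b20237f970007c421ba66fc29b8001df950b10797e300300d463a2a1c2240019ae74eb1ef33bc0041b94e96ff16218014f155728aae20b00110beb6b39812b200148cd76354940e00285558bbbed14e58040faf695aa13dbe00c96b2decc5a96b6018df26ec1a1f06a805bb82c7ebb85b768123fb8f7e26e1c9a07bc105f65a5c95eb5af1d78b58c4000001a3a84355645388f80178314a2d9b02f600781cdad40edfb1600ccaabb2d5153e14005b4efc1dbd28a456bc75e2d63100000)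 (Nat.shiftLeft 
    (nat_lit 0x4bcc5e000000000054e64110000000000c23504c000000000259813580000000006322549c0000000003d7f77b00000000002bc90d7000000000249ae4fa0000000003f738b9c0000000008d778f300000000010d7d5880000000000ba01b880000000001fd3028c00000000013ef48600000000004fd724d000000000074ea68e00000000002707ffc0000000004be2fd900000000002e5f50f00000000006ba09de000000000346627ec00000000058092250000000000000197d0000000000000c512000000000000102fc00000000000032538000000000000a10b0000000000000a2280000000000000226c0000000000001e830000000000000239800000000000007b400000000000001a9340000000000001c4680000000000004c4800000000000003b460000000000000739c0000000000000a23000000000000047480000000000000b33a0000000000000e02000000000000034fa00000000000001ebf00a0e615c3f90f7960060d1aa7631f090403552751079bb1e2826ff933e7c89738e07ae3a0502) (nat_lit 8000))) i2) (pk61d_v1 (nat_lit 7) 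
    (nat_lit 0x16ab55a74a84f9d2a445870a03e76dda3360b125bad569d2a13e74c93222c384f5dba72e1a33b76abd5a7427cd972a4c88d09f3b74dda33487445bad569d2a34274a911a2407cf5db86878e9a080ad57ad56a53a13a64a8cf9eb968c920d060acd6ab4e94f9d3244374e5aaf5490edbb566a529d3253e72a939b2c301d4a74274c9321f2a4688754a701d2a0c0c13e7299201) i2))) (g1 i1) (g1 (Nat.succ i1)) List.nil) fun j => (pk61d_v1 (nat_lit 8) 
    (nat_lit 0xa7917c654e3a29190d0500) j)) (nat_lit 0) (pk61d_v1 (nat_lit 67) 
    (nat_lit 0x2b5e3af16b188000005dd4f68b56277a4801bc16d674ec8000002a7e430186ec269c000000012a05f200000000000000f4240) (pk61d_v1 (nat_lit 3) 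
    (nat_lit 0x8b6d6e2) i1)) ((fun g1 : Nat → Nat => pk61l_v1 (fun i2 => (_root_.Prod.mk (pk61d_v1 (nat_lit 11) 
    (nat_lit 0x180400a4234010049425c594b4b06c56d68acf) i2) (pk61d_v1 (nat_lit 3) 
    (nat_lit 0x9249cd1cd1) i2))) (g1 i1) (g1 (Nat.succ i1)) List.nil) fun j => (pk61d_v1 (nat_lit 4) 
    (nat_lit 0xeeedcba9840) j)) ((fun g1 : Nat → Nat => pk61l_v1 (fun i2 => (_root_.Prod.mk (pk61d_v1 (nat_lit 31) 
    (nat_lit 0x25a4a5c600947395) i2) (_root_.Prod.mk (nat_lit 10) (nat_lit 2)))) (g1 i1) (g1 (Nat.succ i1)) List.nil) fun j => (pk61d_v1 (nat_lit 2) 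
    (nat_lit 0x2aa500) j)))) (nat_lit 0) (nat_lit 10) List.nil) : List St)
    = ?xq9015 → (List St)) ?hq9015; (case hq9015 => (set_option maxRecDepth 1000000 in conv => lhs; reduce)); intro _; exact ?xq9015 : List St)

/-- steps -/
noncomputable def l15_0 : List St :=
  (by
  refine (?fq9016 : ((pk61l_v1 (fun i1 => (_root_.Cfsg.Agent.N2.Sp.St.fk (pk61d_v1 (nat_lit 6) 
    (nat_lit 0x114f586040fced) i1) ((fun g1 : Nat → Nat => pk61l_v1 (fun i2 => (_root_.Prod.mk (pk61d_v1 (nat_lit 63) (Nat.add 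
    (nat_lit 0x24e9d400000000011d67b0000000000177121000000000048e27a0000000000e939480000000000ead750000000000031d7c00000000002c30580000000000338bcc0000000000b27ce8000000000267cbb000000000028f2b800000000006e7910000000000055d7d80000000000a76ac00000000000eae400000000000673b24000000000103906800000000014492600000000004cb90c00000000002c876430a933d6366722a0483c7ce3a837b6d4fc48d9ffe36d046d0e30004d103a13d9c9282bd2a13860854db6c038a28d3806637ef5337db6740e2b345b2252837868fbe815cc9a1f687196522c1de9b995428a33f80de0acc2a3ebcd3674fbf51a19e6e3b42fa66996020442a69465640bff4f2b7862de2608e2410ed4d8358556b802f7f045f0f9813248d286273ab0e59312cec8e13ea0c6989f1171d05602ce8e5d732eb897156f346773e2327740777608c748495e28a3e823c7044f49444b6671997ec462155062737ff1e73cfae759dc487f78202106bc2147ac214504ba52d47048ecbe9c6d0a41211dda09e4eacbc91ec8b2822813bc1b0e145ce354a0076fea4fc8f9b28297910138e1a9c2b701e9b67861839f092e1dda355233f51fa581a8bd03a81e4a785cad800a97d50f934c621473022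16697780568dabf982089667bd16cd79341e7915c80c9b6f0b9a232cbefc249ddb8478dc65cc0bfec2312cddf8014a0fb1b4b6b12001612324b89d336006df2fb82dfc43400391fb5a5564ed806a9c813cbc840300b8a07c78cca35802deb4c13883fa8c0394b922087af1e80b5def404649ed3006e7a2df871ee7a008038b7104b16ac03033ff7954fa06801af6a697ab1ede00887370e97b6d8a017fd0042c141da400d6e887e8b5cd6803d45264699570b025c6b3cb701b6c60278dfbacc5f807400f7c9ee2e1392381aade1517873d8b010accdc7b6525e001355ce8c7187f4c02f9261349e0ef80010a645bdfbb6e600ac74ebf6bc36d60199b2bc7ac5a58802d564f7388d57a80977f74a77ef0cd00ad8e9d4fecf144003b048598e042140273d020371302c005ad588a268c95c00e1b685192b66c201583da4879b461400cf655e443b70c00010c7e490a2b0400207212b462278a00da1ed436a406340663e5adde2115a80bbe7346a68762200ee6519d1825922020f630bcec358a802c0537614ac38b004a4a1853ecab64000afda5c4f3f16403a1a5b639a818ec057879928f453530041d064d11cdaae092e538ff6d5614200893b96bb83502005fad8a8d05d7d10229bc35c4f30f3c00a89eb009d88aa402be53b7d93a9eb40c4bfa2c1eab9df00d579e781a206e40adf23edc8d0cc940405fd6c41a9891c6f05b59d3b20000002386f26fc10000)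 (Nat.shiftLeft 
    (nat_lit 0x119047b0000000013ac2642000000002d002be4000000008b60a8d0000000016f88939000000000e3ffec4000000000a254dd00000000087b6019800000000eb3dee40000000020c7aed0000000003e71db18000000002b19bba00000000075fc87f00000000049e81a20000000012800d98000000001b17520000000000090b4b600000000119585ac000000000abec2a00000000018f059b800000000c2442560000000014663048) (nat_lit 8000))) i2) (pk61d_v1 (nat_lit 7) 
    (nat_lit 0x5aad569d2a13e74a91161c280f9db768cd82c496eb55a74a84f9d324c88b0e13d76e9cb868cedd8ab4e84f9d365ca93223427cedd3768c121d115eb55a54684e952234480f9ebb70d0f1d341015ab15ead4a74274c94f9eb968c920d060acd6ab4e94f9d3244374e5aaf5490edbb566a529d31f39546cb0c075274990f95221c20181) i2))) (g1 i1) (g1 (Nat.succ i1)) List.nil) fun j => (pk61d_v1 (nat_lit 8) 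
    (nat_lit 0x957f6a533d2a190b020100) j)) (nat_lit 0) (pk61d_v1 (nat_lit 67) 
    (nat_lit 0x2b5e3af16b188000000de0b6b3a7640000000004c61304775a0000000009502f90000000000002faf08000000000000000000) (pk61d_v1 (nat_lit 3) 
    (nat_lit 0x11b64918) i1)) ((fun g1 : Nat → Nat => pk61l_v1 (fun i2 => (_root_.Prod.mk (pk61d_v1 (nat_lit 8) 
    (nat_lit 0x374901010205dfe3e30202) i2) (pk61d_v1 (nat_lit 2) 
    (nat_lit 0x155799) i2))) (g1 i1) (g1 (Nat.succ i1)) List.nil) fun j => (pk61d_v1 (nat_lit 4) 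
    (nat_lit 0xbbba9876520) j)) ((fun g1 : Nat → Nat => pk61l_v1 (fun i2 => (_root_.Prod.mk (pk61d_v1 (nat_lit 24) 
    (nat_lit 0xc8bd43c5af39) i2) (_root_.Prod.mk (nat_lit 10) (nat_lit 2)))) (g1 i1) (g1 (Nat.succ i1)) List.nil) fun j => (pk61d_v1 (nat_lit 2) 
    (nat_lit 0x2aa500) j)))) (nat_lit 0) (nat_lit 10) List.nil) : List St)
    = ?xq9016 → (List St)) ?hq9016; (case hq9016 => (set_option maxRecDepth 1000000 in conv => lhs; reduce)); intro _; exact ?xq9016 : List St)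

/-- steps -/
noncomputable def l16_0 : List St :=
  (by
  refine (?fq9017 : ((pk61l_v1 (fun i1 => (_root_.Cfsg.Agent.N2.Sp.St.fk (pk61d_v1 (nat_lit 6) 
    (nat_lit 0x2040f) i1) ((fun g1 : Nat → Nat => pk61l_v1 (fun i2 => (_root_.Prod.mk (pk61d_v1 (nat_lit 59) 
    (nat_lit 0x1f5039b9086f5453b4d730fd2f684328aa5163eb3158335047eb98ef0708da2f70d0ea81600d0151355822a429baf8b86fabaf85a491584f5c24408ac0a3eafcd7f21ce7eb5d0ab916425d6d889bce271011afd50ed0de0d08fc2493582e42e0fa7e593924a83025fa10f1f2462704e571ee20abfb00a01132fd7ece54335a074db4250ac2f522e33197d4b84066bb3fdcaa5012d7443ed1ad1fa0d2bee39ed5393c0638bd7a2244e60039bacc0aa6fae174e63a1e2e7138163ce0ec443953c0cc9cf200a2c78c787626473da7c8046572cc3a3a936832e673ae17c0e43f1028029cc43687ddc5a1f732d8427c3051c865ded60bad4334135fac63fc6c196ddb541e266f4fe3e0c329) i2) (pk61d_v1 (nat_lit 7) 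
    (nat_lit 0xb35aad3a53e74c910dd396abd524b35294e98f9cad3658503a92643e5488708) i2))) (g1 i1) (g1 (Nat.succ i1)) List.nil) fun j => (pk61d_v1 (nat_lit 6) 
    (nat_lit 0x914200) j)) (nat_lit 0) (nat_lit 1000000000000000000) (pk61l_v1 (fun i2 => (_root_.Prod.mk (pk61d_v1 (nat_lit 3) 
    (nat_lit 0x56) i2) (nat_lit 1))) (Nat.mul (nat_lit 1) i1) (Nat.mul (nat_lit 1) (Nat.succ i1)) List.nil) ((fun g1 : Nat → Nat => pk61l_v1 (fun i2 => (_root_.Prod.mk (nat_lit 25260020) (_root_.Prod.mk (nat_lit 10) (nat_lit 2)))) (g1 i1) (g1 (Nat.succ i1)) List.nil) fun j => (pk61d_v1 (nat_lit 1) 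
    (nat_lit 0xc) j)))) (nat_lit 0) (nat_lit 3) List.nil) : List St)
    = ?xq9017 → (List St)) ?hq9017; (case hq9017 => (set_option maxRecDepth 1000000 in conv => lhs; reduce)); intro _; exact ?xq9017 : List St)

/-- steps -/
noncomputable def l17_0 : List St :=
  (by
  refine (?fq9018 : ((pk61l_v1 (fun i1 => (_root_.Cfsg.Agent.N2.Sp.St.fk (pk61d_v1 (nat_lit 6) 
    (nat_lit 0x86040f) i1) ((fun g1 : Nat → Nat => pk61l_v1 (fun i2 => (_root_.Prod.mk (pk61d_v1 (nat_lit 63) 
    (nat_lit 0x42fea8985945bdd26fa7d8954215e5a074fd710dee4ee44ff1d5efcbb702f30e05fda63c956f5e69289a0312c357fec7d7eff92ad4ba8d99ab278a535f0360ab5fa3699ffa5f610ef71ab170bc1987e6929d7ff302258185cbc1563352191b442dfe1a622e552627e8a36eae87328a2f3835eb85b0c6f6150ccc3e0cb9ba812fa9d3fc4848b003eebe9a460f5100613e8fff5531650035763aa99a8dbe00214820c880975000891201762be1ee020c8661a6ae817801945e91c30fb3e00400a055fc087ee00a3651ea275e1a00081050aad71b2cc0194d31e34c130980439c167ed314ec00b3dfae6852ae3400f78ae075cbf73801e3358b6da5b80004784b9b89ef2c90190e020ac5478c201387d53025f84ac0061e857f7a617780b237e3723df1db00087bd3c3df806800cbab3d21592710005d7d3899b6c6400ae331f709b246c007eaaed87866d981ad6e4a3668e1580009b4e69ae69c6b01d3ebd76b06ff3500f4e9b657051ef802530651d9a3f45006ca484a0969bb78de0b6b3a7640000)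 i2) (pk61d_v1 (nat_lit 7) 
    (nat_lit 0x5ab156a53a13a64a7cf5cb24834182b35aad3a53a64886e9aaf54904d9a94a74c82f979b2c0ea497ca9108) i2))) (g1 i1) (g1 (Nat.succ i1)) List.nil) fun j => (pk61d_v1 (nat_lit 6) 
    (nat_lit 0x31811180) j)) (nat_lit 0) (pk61d_v1 (nat_lit 67) 
    (nat_lit 0xad78ebc5ac620000003782dace9d90000006f05b59d3b2000000b1f3ec3ad76c5d9) i1) (pk61l_v1 (fun i2 => (_root_.Prod.mk (pk61d_v1 (nat_lit 7) 
    (nat_lit 0xa40418f) i2) (nat_lit 1))) (Nat.mul (nat_lit 1) i1) (Nat.mul (nat_lit 1) (Nat.succ i1)) List.nil) ((fun g1 : Nat → Nat => pk61l_v1 (fun i2 => (_root_.Prod.mk (pk61d_v1 (nat_lit 31) 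
    (nat_lit 0x2ca69c000174652e) i2) (_root_.Prod.mk (nat_lit 10) (nat_lit 2)))) (g1 i1) (g1 (Nat.succ i1)) List.nil) fun j => (pk61d_v1 (nat_lit 2) 
    (nat_lit 0x250) j)))) (nat_lit 0) (nat_lit 4) List.nil) : List St)
    = ?xq9018 → (List St)) ?hq9018; (case hq9018 => (set_option maxRecDepth 1000000 in conv => lhs; reduce)); intro _; exact ?xq9018 : List St)

/-- steps -/
noncomputable def l18_0 : List St := [
  .fk 16 [(1000000000000000000, 3), (30268789897038733, 27), (5647208232144309, 30), (38345784899760168, 42),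
      (9663614599487408, 45), (17955134527477513, 57), (5637050317965113, 65), (3954010150928286, 76),
      (7415377679206230, 78), (4744200250758659, 82), (38693101089913114, 84), (1007836822635157, 89)] 0
      653736950105077233 [(4, 1)] [(11805100, 10, 2)],
  .fk 32 [(548383691477157137, 36), (2870756487554325279, 42), (1937243744087272339, 47), (1945460781108493494, 53),
      (1717962524679231264, 67), (1760831514883532953, 72), (972062868659298259, 76), (2911914662274881618, 78),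
      (773552240720611305, 82), (1334149537111206168, 83), (2191153260635319814, 85), (10407401117383265295, 86),
      (671329852667425996, 89)] 0 100000000000000000000 [(111, 1)] []]

/-- steps -/
noncomputable def l19_0 : List St := [
  .fk 16 [(1000000000000000000, 3), (23657674769573927, 10), (33811313050784387, 14), (18222351066791098, 27),
      (39009572820753029, 42), (13504688413642737, 57), (3623709864962895, 62), (33175370571720188, 84)] 0
      564942804803904022 [(5, 1)] [(4839930, 10, 2)],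
  .fk 32 [(2684276497177362869, 9), (3431333817627299365, 42), (162202921830026562, 45), (421015642846200970, 47),
      (2557939856952533215, 53), (315380059776914734, 67), (559664850999653347, 72), (231390872737627621, 76),
      (3764719022490932625, 78), (1075213397251892052, 83), (2549139440832821793, 85), (10954112140488857129, 86)] 0
      100000000000000000000 [(126, 1)] [(233239, 13, 2)]]

/-- steps -/
noncomputable def l21_0 : List St := [
  .fk 16 [(1000000000000000000, 3), (144811408213515197, 10), (4513017975922033, 62), (786325199511842, 64)] 0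
      41330637283677864 [(38, 1), (18, 2), (49, 3)] [],
  .fk 32 [(6256103353245856, 9), (18222002192117928, 42), (15454201306427957, 47), (16405264697067792, 53),
      (7832823146607284, 58), (40113103755975305, 83), (247229663974876654, 86), (9473290319320049, 89)] 0
      1000000000000000000 [(4, 1), (15, 3)] [(214068, 13, 2)],
  .fk 33 [(44687948790173461524, 2), (100000000000000000000, 3), (7745563095651307011, 11), (2895881083375401340,
      42), (389945069477851573, 47), (2349878514580793095, 84)] 0 48798002383480767784 [(628, 1)] [(504310000, 10, 2)]]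

/-- the certificates -/
noncomputable def L : List (ℕ × ℕ × List St) := [
  (4017556217008551, 10, l0_0),
  (3090427859237346, 11, l1_0),
  (3072479694435015, 11, l2_0),
  (130414738341897, 12, l3_0),
  (5001701612818, 32, l4_0),
  (20606815406, 94, l5_0),
  (1454152331, 584, [.fk 0 [(298519, 26), (447045, 30), (99692, 31), (438933, 36), (491124, 43), (604605, 48),
      (222797, 52), (397602, 53), (499764, 55), (1068980, 56), (469068, 57), (1133207, 58), (977950, 59), (540252,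
      60), (1849245, 61), (889101, 62), (759344, 63), (941676, 64), (1937823, 65), (1306363, 66), (1358179, 67),
      (1892371, 68), (87521, 70), (825971, 72), (641415, 73), (1385625, 74), (1808573, 75), (2074016, 76), (1657405,
      77), (2680201, 78), (395741, 79), (2003400, 80), (1409536, 81), (442233, 82), (960491, 83), (1912793, 84),
      (1118903, 85), (120114, 86), (1112390, 90), (2582726, 91)] 0 10000000 [] []]),
  (602524431, 1412, [.fk 0 [(103420, 30), (462685, 31), (316882, 43), (257303, 44), (163416, 58), (832773, 59),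
      (209837, 60), (785232, 61), (565744, 62), (440600, 64), (292206, 65), (531218, 66), (458882, 67), (1007848,
      68), (1084841, 70), (1090701, 71), (71776, 72), (199524, 74), (276285, 75), (481076, 76), (802609, 77),
      (1414149, 78), (375929, 79), (901140, 80), (977004, 82), (69489, 83), (706940, 84), (691175, 85), (89764, 89),
      (401595, 90), (1004277, 91)] 0 10000000 [] []]),
  (463480330, 1894, l8_0),
  (356523330, 2067, l9_0),
  (274248714, 2256, l10_0),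
  (234834601, 2462, l11_0),
  (180642000, 2593, l12_0),
  (138955383, 2829, l13_0),
  (106888755, 3088, l14_0),
  (99070847, 3370, l15_0),
  (76208343, 3457, l16_0),
  (69580623, 3772, l17_0),
  (53523555, 3889, l18_0),
  (41171964, 4244, l19_0),
  (31670740, 4632, [.fk 16 [(1000000000000000000, 3), (78647865398046903, 8), (7672744430715958, 14),
      (4908964580430802, 27), (23166288420724046, 42), (7539990262884974, 57), (2798234039087110, 78),
      (20273244255144411, 84)] 0 454901663367818140 [(5, 1), (18, 3)] [], .fk 32 [(1356179012952343794, 9),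
      (2275971602554910624, 42), (23428138401561967, 47), (2975701246919042635, 53), (1023356186279246001, 58),
      (903006159425205621, 78), (3184100421824020392, 83), (969540385797755579, 85), (21987454455761850334, 86)] 0
      100000000000000000000 [(311, 1)] [(18875739, 13, 2)]]),
  (29354326, 5055, l21_0),
  (22580250, 5185, [.fk 32 [(7073380620640161, 9), (12488987982075975, 42), (10802182109311297, 47),
      (13508182336263093, 53), (7651891621979378, 58), (28236501150898730, 83), (2533647494217407, 84),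
      (191309176150901981, 86), (6679507818359416, 89)] 0 1000000000000000000 [(3, 1)] [(175625, 13, 2)], .fk 33
      [(417178149619956385, 2), (1000000000000000000, 3), (65534938831543052, 11), (26716127493093060, 42),
      (21510469445151129, 84)] 0 571770624674729719 [(6, 1), (3, 3)] [(6117465, 10, 2)]]),
  (20616481, 5658, [.fk 32 [(1000000000000000000, 1), (99854781826982920, 6), (2186724446595825, 62),
      (14264968832426131, 86)] 0 24416648198487227 [(11, 1)] [], .fk 33 [(1000000000000000000, 2),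
      (92240550336563355, 6), (3774112154909551, 62)] 0 40013380955656956 [(18, 1), (34, 3)] [], .fk 53
      [(48309702028380098022, 2), (375263334242025423, 42), (991958942183709905, 74), (262275374294976785, 76),
      (683461318131162204, 78), (243735556283377484, 82), (1268689807076984939, 85), (2381324080700798149, 87),
      (566843645880925583, 91)] 0 100000000000000000000 [(285, 1), (162, 2), (239, 3)] [(17548800660, 22, 2)]]),
  (15858830, 5833, [.fk 53 [(51413759692595375753, 2), (2067836085636716694, 42), (1416034948667208117, 78),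
      (529489644504586418, 82), (1283186965879590403, 85), (1759430521713990903, 87)] 0 100000000000000000000 [(313,
      1), (189, 2), (481, 3)] [(10330282, 10, 2), (11576853421, 22, 2)]]),
  (12199099, 6366, [.fk 53 [(1000000000000000000, 2), (17225022970745938, 42), (6028649363387781, 72),
      (1647549002015508, 77), (6267451217360978, 81), (2489004483822950, 84), (14725955303157161, 87)] 0
      634638947527505261 [(8, 1), (5, 2), (13, 3)] []]),
  (9383921, 6947, [.fk 53 [(1000000000000000000, 2), (11055248307627353, 42), (3597388342803736, 70),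
      (7445839984235545, 72), (3695973886339331, 77), (4427191334060829, 81), (159298503236368, 83)] 0
      793171332993452010 [(8, 1), (6, 2), (13, 3)] []]),
  (7218400, 7582, [.fk 53 [(1000000000000000000, 2), (2329105846693786, 62), (699367372577172, 91)] 0
      168018057705127655 [(15, 1), (13, 2), (20, 3)] []]),
  (6340535, 8275, [.fk 53 [(1000000000000000000, 2)] 0 534970629450039 [(50, 1), (48, 2), (55, 3)] []]),
  (4877333, 8641, []),
  (3751793, 9430, [.fk 19 [(599795104486848155, 2), (6996403833557205, 42), (6106857839581917, 77),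
      (2410594555819969, 84)] 0 1000000000000000000 [(5, 1)] []]),
  (3669291, 10292, [.fk 19 [(1000000000000000000, 2)] 0 924429269850770 [(49, 1)] []]),
  (2822530, 10369, []),
  (2171176, 11316, []),
  (1670134, 12350, []),
  (1087198, 13479, []),
  (763574, 15553, []),
  (255544, 17497, []),
  (95447, 25201, []),
  (81632, 34993, []),
  (57333, 36865, []),
  (16988, 41473, []),
  (5225, 62209, []),
  (1088, 92163, []),
  (266, 155530, []),
  (187, 248967, []),
  (112, 280147, []),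
  (79, 332748, []),
  (17, 374276, []),
  (5, 634623, []),
  (1, 1007401, [])]

theorem okz : okZ D = true := by decide +kernel

theorem ok : chk D R nu [] (List.range' 1 (D.n - 1)) O 99070846 0 5222823082111117 L = true :=
  chk_of (by decide +kernel)

variable {K : Type} [Group K] [Finite K] {T : TD K D} {A : Subgroup K}

theorem res (H : Hy T R nu) (hb : ¬ Good A) (hA : A ≠ ⊤) : Res T A O 99070846 :=
  H.res hb (pos_nil A) (sup_all A) Nat.card_pos
    ((H.card_le (md := 782) (by decide +kernel) hA).trans (by decide +kernel)) ok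

theorem sup (H : Hy T R nu) (hb : ¬ Good A) (hA : A ≠ ⊤) : Nat.card A ≤ 99070846 ∧ Sup T A S :=
  ⟨(res H hb hA).1, (res H hb hA).sup.mono (by decide +kernel)⟩

end Cfsg.Agent.N2.Sp.Fi23
end

-- part: N2/Sp/GCo3
section
prune_inst 0x20450802000008000000620004c183000102004040010044040005c4840120450020f070061001941464507ac04000100179003000002000ba00411b00a0842f68e2863c1e04190001c0e803180c00000000000000000000000000000000000000000
set_option linter.all false

/-- decoders of the packed data (elaboration time only) -/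
private noncomputable def pk61d_v2 (b S i : Nat) : Nat := Nat.mod (Nat.shiftRight S (Nat.mul b i)) (Nat.shiftLeft (nat_lit 1) b)
private noncomputable def pk61c_v2 {α : Type} (t : Nat) (a : α) (f : Nat → α) : α := Nat.rec a (fun k _ => f k) t
private noncomputable def pk61f_v2 {α : Type} (t : Nat) (f : Nat → α) : α := Nat.rec (f Nat.zero) (fun k _ => f (Nat.succ k)) t
private noncomputable def pk61l_v2 {α : Type} (f : Nat → α) (s e : Nat) (tl : List α) : List α :=
  pk61f_v2 e fun e => Nat.rec tl (fun k ih => List.cons (pk61f_v2 (Nat.sub e (Nat.succ k)) f) ih) (Nat.sub e s)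
private noncomputable def pk61o_v2 {α : Type} (O : (n : Nat) → OfNat α n → α) (I : (n : Nat) → OfNat α n) (t : Nat) : α :=
  pk61c_v2 t (O (nat_lit 0) (I (nat_lit 0))) fun k => O (Nat.succ k) (I (Nat.succ k))

/-!
# N2 (S3519), sporadic rows: Co3 (helper16; generated by notes/N2/sp16/emit.py.txt)

Types which are left, with order, letter in the order of the table, and bound for the fixed points: 1 = 2a (2903040),
      2 = 2b (190080), 3 = 3a (349920), 4 = 3b (29160), 5 = 3c (4536), 6 = 4a (23040), 7 = 4b (1536), 8 = 5a (1500),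
      9 = 5b (300), 10 = 6a (4320), 11 = 6b (1296), 12 = 6c (216).
-/

set_option autoImplicit false
set_option Elab.async false
set_option maxRecDepth 4000

namespace Cfsg.Agent.N2.Sp.Co3

open Cfsg Cfsg.Agent.FP3 Cfsg.Agent.TAB.Eng Cfsg.Agent.TAB.Use

/-- the data -/
abbrev D : Dat := TAB.Co3.D

/-- the table -/
noncomputable abbrev R : Rows := (TAB.Sm2.mkRows TAB.Co3.A TAB.Co3.B)

/-- the densities -/
def nu : List ℕ :=
  [1, 170775, 2608200, 1416800, 17001600, 109296000, 21517650, 322764750, 330511104, 1652555520, 114760800,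
      382536000, 2295216000, 4590432000, 6885648000, 11803968000, 2582118000, 2582118000, 15492708000, 3060288000,
      6120576000, 8262777600, 24788332800, 45069696000, 3442824000, 10328472000, 13771296000, 35411904000,
      16525555200, 33051110400, 27542592000, 49576665600, 23607936000, 45069696000, 43110144000, 20656944000,
      20656944000, 16525555200]

/-- type, lower and upper bound for the order -/
noncomputable def O : Out :=
  (by
  refine (?fq9001 : (fun (On : (n : Nat) → OfNat Nat n → Nat) (In : (n : Nat) → OfNat Nat n) => ((pk61l_v2 (fun i1 => (_root_.Prod.mk (pk61o_v2 On In (pk61d_v2 (nat_lit 4) 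
    (nat_lit 0xcbbaa998877665544332211) i1)) (_root_.Prod.mk (pk61o_v2 On In (pk61d_v2 (nat_lit 18) 
    (nat_lit 0x288900039288900001e889011eea88900039288900022688900000a88900001e88900000a88900000a88900000a88900000a8890) i1)) (pk61o_v2 On In (pk61d_v2 (nat_lit 19) 
    (nat_lit 0x99bb6f5f85036b9c781) (pk61d_v2 (nat_lit 2) 
    (nat_lit 0x377727777777) i1)))))) (nat_lit 0) (nat_lit 23) List.nil) : Out))
    = ?xq9001 → (Out)) ?hq9001; (case hq9001 => (set_option maxRecDepth 1000000 in conv => lhs; reduce)); intro _; exact ?xq9001 (@OfNat.ofNat Nat) instOfNatNat : Out)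

/-- the types -/
def S : List ℕ := [1, 2, 3, 4, 5, 6, 7, 8, 9, 10, 11, 12]

/-- steps -/
noncomputable def l0_0 : List St :=
  (by
  refine (?fq9002 : ((pk61l_v2 (fun i1 => (pk61f_v2 (pk61d_v2 (nat_lit 2) 
    (nat_lit 0x384) i1) fun u21 => (pk61f_v2 (pk61d_v2 (nat_lit 1) 
    (nat_lit 0x1b) i1) fun t1_1 => (pk61c_v2 (Nat.div t1_1 (nat_lit 1)) (_root_.Cfsg.Agent.N2.Sp.St.pw (nat_lit 33) (nat_lit 2)) fun _ => (_root_.Cfsg.Agent.N2.Sp.St.fk (pk61d_v2 (nat_lit 6) 
    (nat_lit 0x225df) u21) ((fun g1 : Nat → Nat => pk61l_v2 (fun i2 => (_root_.Prod.mk (pk61d_v2 (nat_lit 47) 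
    (nat_lit 0x12548d11ca00106bcffca8000e4aef59000dbf34f72bf01bc88245c3403a3529440000677bc75fcb80ce082449220189941adfa002b17b4947f405059f37b060072b59845fc00e38c5b9f0c0088949fb73003332c7d0960046a9eed344005c874f931800b7ffd585b801aa2661bf78025ca0d63190035b6ba066000789c643a54010dcea726a801c484421aa004cba0219d20034cf9106c000118b1c8ad001febf4182300224b42eda802ee18ed74ec0607617552100e8d4a5100000c919d3f78e0178da8e85b80605477e1bc0084941e762800f33bc6724a01b30b702c38033f21217ef805463ef36bc000a0705e680009fe0ee278c013f149d324800466d6032e0038e27bef960046e6fc25180040af5f2f0001161457a3300053dd20a9a00033f985810012d92fe961001afe247e6201d1a94a2000033a29be09a4062d3a75a7080b046963a37017e5d792ae603051165ce3004b013033b580873d7707ab00e184d8995e018c8b9ff34404cf7643d5b800394b5c939007a37a9fcf001119bed049c024a8102a5d802129efdcb700541eb2a6f800a2138028c001ba5af0d250006810abcf4004a965a64a6164be92600d404d2a7c37de5af3107a400095c03eebc510c93770b91b1a1ea9166bea6c40facdd217284ba3c826146e2675c52706d8e3b2c867f8289b281b116c416df1baad2e6c9812941b38c5183f053339aa7175ab11f241b7a795aba4a32aa1c0c2c7c1754042b4081dcd05a82a1419346f3bea23e7b5cfb2b80976bcdec6f962cf9231876041b89df4f5800e837ce437c24aeb97bd3c84465ec7b62e)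 i2) (pk61d_v2 (nat_lit 6) 
    (nat_lit 0x9648e181f79d71b69961759551349140f38d3092258a181f79d71b6996165534503ce3471859628607de75c6da6585d65544cf38d2c81e58a181f79d71b6996175955134913ce34c2880c2) i2))) (g1 u21) (g1 (Nat.succ u21)) List.nil) fun j => (pk61d_v2 (nat_lit 7) 
    (nat_lit 0x6492c8d80) j)) (nat_lit 0) (pk61d_v2 (nat_lit 34) 
    (nat_lit 0x1b04cac40526cbaf01921f2c234c0e0b1) u21) ((fun g1 : Nat → Nat => pk61l_v2 (fun i2 => (_root_.Prod.mk (pk61d_v2 (nat_lit 8) 
    (nat_lit 0x20449ce) i2) (pk61d_v2 (nat_lit 2) 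
    (nat_lit 0x59) i2))) (g1 u21) (g1 (Nat.succ u21)) List.nil) fun j => (pk61d_v2 (nat_lit 3) 
    (nat_lit 0x48d0) j)) ((fun g1 : Nat → Nat => pk61l_v2 (fun i2 => (_root_.Prod.mk (pk61d_v2 (nat_lit 20) 
    (nat_lit 0x10002a0000d000d3004b40000700016000100024900669d87bc005e5843613056c645880c207) i2) (_root_.Prod.mk (pk61d_v2 (nat_lit 6) 
    (nat_lit 0x9638153a592054e2da29138e) i2) (pk61d_v2 (nat_lit 2) 
    (nat_lit 0xbeababae) i2)))) (g1 u21) (g1 (Nat.succ u21)) List.nil) fun j => (pk61d_v2 (nat_lit 5) 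
    (nat_lit 0x1059460) j))))))) (nat_lit 0) (nat_lit 5) List.nil) : List St)
    = ?xq9002 → (List St)) ?hq9002; (case hq9002 => (set_option maxRecDepth 1000000 in conv => lhs; reduce)); intro _; exact ?xq9002 : List St)

/-- steps -/
noncomputable def l1_0 : List St :=
  (by
  refine (?fq9003 : ((pk61l_v2 (fun i1 => (pk61f_v2 (pk61d_v2 (nat_lit 2) 
    (nat_lit 0x384) i1) fun u21 => (pk61f_v2 (pk61d_v2 (nat_lit 1) 
    (nat_lit 0x1b) i1) fun t1_1 => (pk61c_v2 (Nat.div t1_1 (nat_lit 1)) (_root_.Cfsg.Agent.N2.Sp.St.pw (nat_lit 33) (nat_lit 2)) fun _ => (_root_.Cfsg.Agent.N2.Sp.St.fk (pk61d_v2 (nat_lit 6) 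
    (nat_lit 0x225df) u21) ((fun g1 : Nat → Nat => pk61l_v2 (fun i2 => (_root_.Prod.mk (pk61d_v2 (nat_lit 40) 
    (nat_lit 0x92a4688e5041af3ff2a01c95deb20dbf34f72bfde44122e1ae8d4a51000cef78ebf97ce08244922c4ca0d6fd0ac5ed251fda0b3e6f60c72b59845fc71c62dcf86222527edcc66658fa12c46a9eed3442e43a7c98c2dfff5616e3544cc37ef25ca0d63191adb5d03301e27190e9521b9d4e4d51c484421aa265d010ce90d33e441b0023163915a1d353e438f00fa0a3f6b5152eb26935d81e3e88b25b7dfc17ee8d4a510001172dc933b5d0ce0c2ad5f60d7880297775d49cb35e0777ceb075f0d52395622d696527fec3571ba04eae6e8b1302d31d03b17c3d2825817531525b00ca9c86758238e6c015032eb7ad7bae8d4a51000e1aea10a60dc9be88241d2fb4a5163c6b4691685e539072960894f8d416480762b5f96742cd475eb5d8617333cb0c3b05b4745153b83716beb557e38148ad5e15f3716ae7a7e2a1f51817e24fc9c092666fff7e2f32f547998dc059ca0b72a0a11ad2365e8d4a51000ad63ce55ad650b56f24ab263886d4e8f9502ae9ca409288a3a818702706a838dd06a13632871ac8f490d154fb9367926b40d2a6c9863f248dcd8e7962ed5b8033b1c7205cfb214021f98a62effa8442c2602cd4337705c2d6054017c873588180ae8b4c038e40b9f65)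 i2) (pk61d_v2 (nat_lit 6) 
    (nat_lit 0x259238607de75c6da6585d65544d24503ce34c2489648a181f79d71b69961644d1c51258a181f79d71b6996175544cf38d2c79628607de75c6da6585d65544d244e30a203) i2))) (g1 u21) (g1 (Nat.succ u21)) List.nil) fun j => (pk61d_v2 (nat_lit 7) 
    (nat_lit 0x5b80b4c00) j)) (nat_lit 0) (pk61d_v2 (nat_lit 28) 
    (nat_lit 0x8717f5d3eba1578687ab268dc5cd) u21) ((fun g1 : Nat → Nat => pk61l_v2 (fun i2 => (_root_.Prod.mk (pk61d_v2 (nat_lit 3) 
    (nat_lit 0xd8c) i2) (pk61d_v2 (nat_lit 2) 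
    (nat_lit 0x59) i2))) (g1 u21) (g1 (Nat.succ u21)) List.nil) fun j => (pk61d_v2 (nat_lit 3) 
    (nat_lit 0x48d0) j)) ((fun g1 : Nat → Nat => pk61l_v2 (fun i2 => (_root_.Prod.mk (pk61d_v2 (nat_lit 19) 
    (nat_lit 0x400150000d001a6012d0000e8001604cae01d9e538a000aa) i2) (_root_.Prod.mk (pk61d_v2 (nat_lit 6) 
    (nat_lit 0x258e054e96438e2d1) i2) (pk61d_v2 (nat_lit 2) 
    (nat_lit 0x2faeea) i2)))) (g1 u21) (g1 (Nat.succ u21)) List.nil) fun j => (pk61d_v2 (nat_lit 4) 
    (nat_lit 0xb6110) j))))))) (nat_lit 0) (nat_lit 5) List.nil) : List St)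
    = ?xq9003 → (List St)) ?hq9003; (case hq9003 => (set_option maxRecDepth 1000000 in conv => lhs; reduce)); intro _; exact ?xq9003 : List St)

/-- steps -/
noncomputable def l2_0 : List St :=
  (by
  refine (?fq9004 : ((pk61l_v2 (fun i1 => (pk61f_v2 (pk61d_v2 (nat_lit 2) 
    (nat_lit 0x384) i1) fun u21 => (pk61f_v2 (pk61d_v2 (nat_lit 1) 
    (nat_lit 0x1b) i1) fun t1_1 => (pk61c_v2 (Nat.div t1_1 (nat_lit 1)) (_root_.Cfsg.Agent.N2.Sp.St.pw (nat_lit 33) (nat_lit 2)) fun _ => (_root_.Cfsg.Agent.N2.Sp.St.fk (pk61d_v2 (nat_lit 6) 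
    (nat_lit 0x225df) u21) ((fun g1 : Nat → Nat => pk61l_v2 (fun i2 => (_root_.Prod.mk (pk61d_v2 (nat_lit 40) 
    (nat_lit 0x92a4688e5041af3ff2a01c95deb20dbf34f72bfde44122e1ae8d4a51000cef78ebf97ce08244922c4ca0d6fd0ac5ed251fda0b3e6f60c72b59845fc71c62dcf86222527edcc66658fa12c46a9eed3442e43a7c98c2dfff5616e3544cc37ef25ca0d63191adb5d03301e27190e9521b9d4e4d51c484421aa265d010ce90d33e441b0023163915a1d353e438f00fa0a3f6b5152eb26935d81e3e88b25b7dfc17ee8d4a510001172dc933b5d0ce0c2ad5f60d7880297775d49cb35e0777ceb075f0d52395622d696527fec3571ba04eae6e8b1302d31d03b17c3d2825817531525b00ca9c86758238e6c015032eb7ad7bae8d4a51000e1aea10a60dc9be88241d2fb4a5163c6b4691685e539072960894f8d416480762b5f96742cd475eb5d8617333cb0c3b05b4745153b83716beb557e38148ad5e15f3716ae7a7e2a1f51817e24fc9c092666fff7e2f32f547998dc059ca0b72a0a11ad2365e8d4a51000ad63ce55ad650b56f24ab263886d4e8f9502ae9ca409288a3a818702706a838dd06a13632871ac8f490d154fb9367926b40d2a6c9863f248dcd8e7962ed5b8033b1c7205cfb214021f98a62effa8442c2602cd4337705c2d6054017c873588180ae8b4c038e40b9f65)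 i2) (pk61d_v2 (nat_lit 6) 
    (nat_lit 0x259238607de75c6da6585d65544d24503ce34c2489648a181f79d71b69961644d1c51258a181f79d71b6996175544cf38d2c79628607de75c6da6585d65544d244e30a203) i2))) (g1 u21) (g1 (Nat.succ u21)) List.nil) fun j => (pk61d_v2 (nat_lit 7) 
    (nat_lit 0x5b80b4c00) j)) (nat_lit 0) (pk61d_v2 (nat_lit 28) 
    (nat_lit 0xa8ddf344e689aca82995e8313740) u21) ((fun g1 : Nat → Nat => pk61l_v2 (fun i2 => (_root_.Prod.mk (pk61d_v2 (nat_lit 3) 
    (nat_lit 0xd8c) i2) (pk61d_v2 (nat_lit 2) 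
    (nat_lit 0x59) i2))) (g1 u21) (g1 (Nat.succ u21)) List.nil) fun j => (pk61d_v2 (nat_lit 3) 
    (nat_lit 0x48d0) j)) ((fun g1 : Nat → Nat => pk61l_v2 (fun i2 => (_root_.Prod.mk (pk61d_v2 (nat_lit 19) 
    (nat_lit 0x400150000d001a6012d0000e8001604cae01d9e538a000aa) i2) (_root_.Prod.mk (pk61d_v2 (nat_lit 6) 
    (nat_lit 0x258e054e96438e2d1) i2) (pk61d_v2 (nat_lit 2) 
    (nat_lit 0x2faeea) i2)))) (g1 u21) (g1 (Nat.succ u21)) List.nil) fun j => (pk61d_v2 (nat_lit 4) 
    (nat_lit 0xb6110) j))))))) (nat_lit 0) (nat_lit 5) List.nil) : List St)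
    = ?xq9004 → (List St)) ?hq9004; (case hq9004 => (set_option maxRecDepth 1000000 in conv => lhs; reduce)); intro _; exact ?xq9004 : List St)

/-- steps -/
noncomputable def l3_0 : List St :=
  (by
  refine (?fq9005 : ((pk61l_v2 (fun i1 => (pk61f_v2 (pk61d_v2 (nat_lit 2) 
    (nat_lit 0x384) i1) fun u21 => (pk61f_v2 (pk61d_v2 (nat_lit 1) 
    (nat_lit 0x1b) i1) fun t1_1 => (pk61c_v2 (Nat.div t1_1 (nat_lit 1)) (_root_.Cfsg.Agent.N2.Sp.St.pw (nat_lit 33) (nat_lit 2)) fun _ => (_root_.Cfsg.Agent.N2.Sp.St.fk (pk61d_v2 (nat_lit 6) 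
    (nat_lit 0x225df) u21) ((fun g1 : Nat → Nat => pk61l_v2 (fun i2 => (_root_.Prod.mk (pk61d_v2 (nat_lit 40) 
    (nat_lit 0x92a4688e5041af3ff2a01c95deb20dbf34f72bfde44122e1ae8d4a51000cef78ebf97ce08244922c4ca0d6fd0ac5ed251fda0b3e6f60c72b59845fc71c62dcf86222527edcc66658fa12c46a9eed3442e43a7c98c2dfff5616e3544cc37ef25ca0d63191adb5d03301e27190e9521b9d4e4d51c484421aa265d010ce90d33e441b0023163915a1d353e438f00fa0a3f6b5152eb26935d81e3e88b25b7dfc17ee8d4a510001172dc933b5d0ce0c2ad5f60d7880297775d49cb35e0777ceb075f0d52395622d696527fec3571ba04eae6e8b1302d31d03b17c3d2825817531525b00ca9c86758238e6c015032eb7ad7bae8d4a51000e1aea10a60dc9be88241d2fb4a5163c6b4691685e539072960894f8d416480762b5f96742cd475eb5d8617333cb0c3b05b4745153b83716beb557e38148ad5e15f3716ae7a7e2a1f51817e24fc9c092666fff7e2f32f547998dc059ca0b72a0a11ad2365e8d4a51000ad63ce55ad650b56f24ab263886d4e8f9502ae9ca409288a3a818702706a838dd06a13632871ac8f490d154fb9367926b40d2a6c9863f248dcd8e7962ed5b8033b1c7205cfb214021f98a62effa8442c2602cd4337705c2d6054017c873588180ae8b4c038e40b9f65)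 i2) (pk61d_v2 (nat_lit 6) 
    (nat_lit 0x259238607de75c6da6585d65544d24503ce34c2489648a181f79d71b69961644d1c51258a181f79d71b6996175544cf38d2c79628607de75c6da6585d65544d244e30a203) i2))) (g1 u21) (g1 (Nat.succ u21)) List.nil) fun j => (pk61d_v2 (nat_lit 7) 
    (nat_lit 0x5b80b4c00) j)) (nat_lit 0) (pk61d_v2 (nat_lit 28) 
    (nat_lit 0xd3157016202c17d233fb6a3d8511) u21) ((fun g1 : Nat → Nat => pk61l_v2 (fun i2 => (_root_.Prod.mk (pk61d_v2 (nat_lit 3) 
    (nat_lit 0xd8c) i2) (pk61d_v2 (nat_lit 2) 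
    (nat_lit 0x59) i2))) (g1 u21) (g1 (Nat.succ u21)) List.nil) fun j => (pk61d_v2 (nat_lit 3) 
    (nat_lit 0x48d0) j)) ((fun g1 : Nat → Nat => pk61l_v2 (fun i2 => (_root_.Prod.mk (pk61d_v2 (nat_lit 19) 
    (nat_lit 0x400150000d001a6012d0000e8001604cae01d9e538a000aa) i2) (_root_.Prod.mk (pk61d_v2 (nat_lit 6) 
    (nat_lit 0x258e054e96438e2d1) i2) (pk61d_v2 (nat_lit 2) 
    (nat_lit 0x2faeea) i2)))) (g1 u21) (g1 (Nat.succ u21)) List.nil) fun j => (pk61d_v2 (nat_lit 4) 
    (nat_lit 0xb6110) j))))))) (nat_lit 0) (nat_lit 5) List.nil) : List St)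
    = ?xq9005 → (List St)) ?hq9005; (case hq9005 => (set_option maxRecDepth 1000000 in conv => lhs; reduce)); intro _; exact ?xq9005 : List St)

/-- steps -/
noncomputable def l4_0 : List St :=
  (by
  refine (?fq9006 : ((pk61l_v2 (fun i1 => (pk61f_v2 (pk61d_v2 (nat_lit 2) 
    (nat_lit 0x384) i1) fun u21 => (pk61f_v2 (pk61d_v2 (nat_lit 1) 
    (nat_lit 0x1b) i1) fun t1_1 => (pk61c_v2 (Nat.div t1_1 (nat_lit 1)) (_root_.Cfsg.Agent.N2.Sp.St.pw (nat_lit 33) (nat_lit 2)) fun _ => (_root_.Cfsg.Agent.N2.Sp.St.fk (pk61d_v2 (nat_lit 6) 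
    (nat_lit 0x225df) u21) ((fun g1 : Nat → Nat => pk61l_v2 (fun i2 => (_root_.Prod.mk (pk61d_v2 (nat_lit 40) 
    (nat_lit 0x92a4688e5041af3ff2a01c95deb20dbf34f72bfde44122e1ae8d4a51000cef78ebf97ce08244922c4ca0d6fd0ac5ed251fda0b3e6f60c72b59845fc71c62dcf86222527edcc66658fa12c46a9eed3442e43a7c98c2dfff5616e3544cc37ef25ca0d63191adb5d03301e27190e9521b9d4e4d51c484421aa265d010ce90d33e441b0023163915a1d353e438f00fa0a3f6b5152eb26935d81e3e88b25b7dfc17ee8d4a510001172dc933b5d0ce0c2ad5f60d7880297775d49cb35e0777ceb075f0d52395622d696527fec3571ba04eae6e8b1302d31d03b17c3d2825817531525b00ca9c86758238e6c015032eb7ad7bae8d4a51000e1aea10a60dc9be88241d2fb4a5163c6b4691685e539072960894f8d416480762b5f96742cd475eb5d8617333cb0c3b05b4745153b83716beb557e38148ad5e15f3716ae7a7e2a1f51817e24fc9c092666fff7e2f32f547998dc059ca0b72a0a11ad2365e8d4a51000ad63ce55ad650b56f24ab263886d4e8f9502ae9ca409288a3a818702706a838dd06a13632871ac8f490d154fb9367926b40d2a6c9863f248dcd8e7962ed5b8033b1c7205cfb214021f98a62effa8442c2602cd4337705c2d6054017c873588180ae8b4c038e40b9f65)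 i2) (pk61d_v2 (nat_lit 6) 
    (nat_lit 0x259238607de75c6da6585d65544d24503ce34c2489648a181f79d71b69961644d1c51258a181f79d71b6996175544cf38d2c79628607de75c6da6585d65544d244e30a203) i2))) (g1 u21) (g1 (Nat.succ u21)) List.nil) fun j => (pk61d_v2 (nat_lit 7) 
    (nat_lit 0x5b80b4c00) j)) (nat_lit 0) (pk61d_v2 (nat_lit 29) 
    (nat_lit 0x83ed6609ea0dc760d81f46ccce655) u21) ((fun g1 : Nat → Nat => pk61l_v2 (fun i2 => (_root_.Prod.mk (pk61d_v2 (nat_lit 3) 
    (nat_lit 0xd8c) i2) (pk61d_v2 (nat_lit 2) 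
    (nat_lit 0x59) i2))) (g1 u21) (g1 (Nat.succ u21)) List.nil) fun j => (pk61d_v2 (nat_lit 3) 
    (nat_lit 0x48d0) j)) ((fun g1 : Nat → Nat => pk61l_v2 (fun i2 => (_root_.Prod.mk (pk61d_v2 (nat_lit 19) 
    (nat_lit 0x400150000d001a6012d0000e8001604cae01d9e538a000aa) i2) (_root_.Prod.mk (pk61d_v2 (nat_lit 6) 
    (nat_lit 0x258e054e96438e2d1) i2) (pk61d_v2 (nat_lit 2) 
    (nat_lit 0x2faeea) i2)))) (g1 u21) (g1 (Nat.succ u21)) List.nil) fun j => (pk61d_v2 (nat_lit 4) 
    (nat_lit 0xb6110) j))))))) (nat_lit 0) (nat_lit 5) List.nil) : List St)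
    = ?xq9006 → (List St)) ?hq9006; (case hq9006 => (set_option maxRecDepth 1000000 in conv => lhs; reduce)); intro _; exact ?xq9006 : List St)

/-- steps -/
noncomputable def l5_0 : List St :=
  (by
  refine (?fq9007 : ((pk61l_v2 (fun i1 => (pk61f_v2 (pk61d_v2 (nat_lit 2) 
    (nat_lit 0x384) i1) fun u21 => (pk61f_v2 (pk61d_v2 (nat_lit 1) 
    (nat_lit 0x1b) i1) fun t1_1 => (pk61c_v2 (Nat.div t1_1 (nat_lit 1)) (_root_.Cfsg.Agent.N2.Sp.St.pw (nat_lit 33) (nat_lit 2)) fun _ => (_root_.Cfsg.Agent.N2.Sp.St.fk (pk61d_v2 (nat_lit 6) 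
    (nat_lit 0x225df) u21) ((fun g1 : Nat → Nat => pk61l_v2 (fun i2 => (_root_.Prod.mk (pk61d_v2 (nat_lit 40) 
    (nat_lit 0x92a4688e5041af3ff2a01c95deb20dbf34f72bfde44122e1ae8d4a51000cef78ebf97ce08244922c4ca0d6fd0ac5ed251fda0b3e6f60c72b59845fc71c62dcf86222527edcc66658fa12c46a9eed3442e43a7c98c2dfff5616e3544cc37ef25ca0d63191adb5d03301e27190e9521b9d4e4d51c484421aa265d010ce90d33e441b0023163915a16e10c910b174dfe73588f8314c8163c8cd0163de8d4a510001a27999fd849832479aa5928c19f022499bb16942b4dc13928961f4ee07f0ecab6f42724957af74b1d8821890509a63630c03f0127ff2a1af384e5d32243e0cf0e3a52343f0be8d4a51000e4fa92b4ed8870334f45b3847cebeeada41cc1f1ac416f467783581edfc9861f53273b5e2efe6d4e4c87b43862acf1b1ea963c563269576b33ea8ca81aeb689a93346dab1ff4095739500e5fd2ffaf753dcec0c7f51aaf02ffe0e8d4a51000909526aec5250c361457de9aa879986c32976b3892a09fb17b75904b808848456bbc147003abd88c57f967ab1a4bc131a804387c9649991781c62cc76ce7c4a37940df1a229ca9eeb461430e62c605ff60a78c4ff1)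 i2) (pk61d_v2 (nat_lit 6) 
    (nat_lit 0x259238607de75c6da6585d65544d24503ce34c2489648a17dd71b69859544d1c51258a181f79d71b6996175544ce34b1c58607de75c6da6585d551138c283) i2))) (g1 u21) (g1 (Nat.succ u21)) List.nil) fun j => (pk61d_v2 (nat_lit 7) 
    (nat_lit 0x53709c900) j)) (nat_lit 0) (pk61d_v2 (nat_lit 29) 
    (nat_lit 0xa4e8bf91b1be1e63e7e5a8e44b3fa) u21) ((fun g1 : Nat → Nat => pk61l_v2 (fun i2 => (_root_.Prod.mk (pk61d_v2 (nat_lit 4) 
    (nat_lit 0x9627) i2) (pk61d_v2 (nat_lit 2) 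
    (nat_lit 0x59) i2))) (g1 u21) (g1 (Nat.succ u21)) List.nil) fun j => (pk61d_v2 (nat_lit 3) 
    (nat_lit 0x48d0) j)) ((fun g1 : Nat → Nat => pk61l_v2 (fun i2 => (_root_.Prod.mk (pk61d_v2 (nat_lit 19) 
    (nat_lit 0x400150000d001a6012d0006dd20a4) i2) (_root_.Prod.mk (pk61d_v2 (nat_lit 6) 
    (nat_lit 0x258e054e38b) i2) (pk61d_v2 (nat_lit 2) 
    (nat_lit 0x2fae) i2)))) (g1 u21) (g1 (Nat.succ u21)) List.nil) fun j => (pk61d_v2 (nat_lit 3) 
    (nat_lit 0x7400) j))))))) (nat_lit 0) (nat_lit 5) List.nil) : List St)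
    = ?xq9007 → (List St)) ?hq9007; (case hq9007 => (set_option maxRecDepth 1000000 in conv => lhs; reduce)); intro _; exact ?xq9007 : List St)

/-- steps -/
noncomputable def l6_0 : List St :=
  (by
  refine (?fq9008 : ((pk61l_v2 (fun i1 => (pk61f_v2 (pk61d_v2 (nat_lit 2) 
    (nat_lit 0x384) i1) fun u21 => (pk61f_v2 (pk61d_v2 (nat_lit 1) 
    (nat_lit 0x1b) i1) fun t1_1 => (pk61c_v2 (Nat.div t1_1 (nat_lit 1)) (_root_.Cfsg.Agent.N2.Sp.St.pw (nat_lit 33) (nat_lit 2)) fun _ => (_root_.Cfsg.Agent.N2.Sp.St.fk (pk61d_v2 (nat_lit 6) 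
    (nat_lit 0x225df) u21) ((fun g1 : Nat → Nat => pk61l_v2 (fun i2 => (_root_.Prod.mk (pk61d_v2 (nat_lit 40) 
    (nat_lit 0x92a4688e5041af3ff2a01c95deb20dbf34f72bfde44122e1ae8d4a51000cef78ebf97ce08244922c4ca0d6fd0ac5ed251fda0b3e6f60c72b59845fc71c62dcf86222527edcc66658fa12c46a9eed3442e43a7c98c2dfff5616e3544cc37ef25ca0d63191adb5d03301e27190e9521b9d4e4d51c484421aa265d010ce90d33e441b0023163915a16e10c910b174dfe73588f8314c8163c8cd0163de8d4a510001a27999fd849832479aa5928c19f022499bb16942b4dc13928961f4ee07f0ecab6f42724957af74b1d8821890509a63630c03f0127ff2a1af384e5d32243e0cf0e3a52343f0be8d4a51000e4fa92b4ed8870334f45b3847cebeeada41cc1f1ac416f467783581edfc9861f53273b5e2efe6d4e4c87b43862acf1b1ea963c563269576b33ea8ca81aeb689a93346dab1ff4095739500e5fd2ffaf753dcec0c7f51aaf02ffe0e8d4a51000909526aec5250c361457de9aa879986c32976b3892a09fb17b75904b808848456bbc147003abd88c57f967ab1a4bc131a804387c9649991781c62cc76ce7c4a37940df1a229ca9eeb461430e62c605ff60a78c4ff1)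 i2) (pk61d_v2 (nat_lit 6) 
    (nat_lit 0x259238607de75c6da6585d65544d24503ce34c2489648a17dd71b69859544d1c51258a181f79d71b6996175544ce34b1c58607de75c6da6585d551138c283) i2))) (g1 u21) (g1 (Nat.succ u21)) List.nil) fun j => (pk61d_v2 (nat_lit 7) 
    (nat_lit 0x53709c900) j)) (nat_lit 0) (pk61d_v2 (nat_lit 29) 
    (nat_lit 0xce22ef721e2da5ece1df131d5e0f8) u21) ((fun g1 : Nat → Nat => pk61l_v2 (fun i2 => (_root_.Prod.mk (pk61d_v2 (nat_lit 4) 
    (nat_lit 0x9627) i2) (pk61d_v2 (nat_lit 2) 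
    (nat_lit 0x59) i2))) (g1 u21) (g1 (Nat.succ u21)) List.nil) fun j => (pk61d_v2 (nat_lit 3) 
    (nat_lit 0x48d0) j)) ((fun g1 : Nat → Nat => pk61l_v2 (fun i2 => (_root_.Prod.mk (pk61d_v2 (nat_lit 19) 
    (nat_lit 0x400150000d001a6012d0006dd20a4) i2) (_root_.Prod.mk (pk61d_v2 (nat_lit 6) 
    (nat_lit 0x258e054e38b) i2) (pk61d_v2 (nat_lit 2) 
    (nat_lit 0x2fae) i2)))) (g1 u21) (g1 (Nat.succ u21)) List.nil) fun j => (pk61d_v2 (nat_lit 3) 
    (nat_lit 0x7400) j))))))) (nat_lit 0) (nat_lit 5) List.nil) : List St)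
    = ?xq9008 → (List St)) ?hq9008; (case hq9008 => (set_option maxRecDepth 1000000 in conv => lhs; reduce)); intro _; exact ?xq9008 : List St)

/-- steps -/
noncomputable def l7_0 : List St :=
  (by
  refine (?fq9009 : ((pk61l_v2 (fun i1 => (pk61f_v2 (pk61d_v2 (nat_lit 2) 
    (nat_lit 0x384) i1) fun u21 => (pk61f_v2 (pk61d_v2 (nat_lit 1) 
    (nat_lit 0x1b) i1) fun t1_1 => (pk61c_v2 (Nat.div t1_1 (nat_lit 1)) (_root_.Cfsg.Agent.N2.Sp.St.pw (nat_lit 33) (nat_lit 2)) fun _ => (_root_.Cfsg.Agent.N2.Sp.St.fk (pk61d_v2 (nat_lit 6) 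
    (nat_lit 0x225df) u21) ((fun g1 : Nat → Nat => pk61l_v2 (fun i2 => (_root_.Prod.mk (pk61d_v2 (nat_lit 40) 
    (nat_lit 0x92a4688e5041af3ff2a01c95deb20dbf34f72bfde44122e1ae8d4a51000cef78ebf97ce08244922c4ca0d6fd0ac5ed251fda0b3e6f60c72b59845fc71c62dcf86222527edcc66658fa12c46a9eed3442e43a7c98c2dfff5616e3544cc37ef25ca0d63191adb5d03301e27190e9521b9d4e4d51c484421aa265d010ce90d33e441b0023163915a16e10c910b174dfe73588f8314c8163c8cd0163de8d4a510001a27999fd849832479aa5928c19f022499bb16942b4dc13928961f4ee07f0ecab6f42724957af74b1d8821890509a63630c03f0127ff2a1af384e5d32243e0cf0e3a52343f0be8d4a51000e4fa92b4ed8870334f45b3847cebeeada41cc1f1ac416f467783581edfc9861f53273b5e2efe6d4e4c87b43862acf1b1ea963c563269576b33ea8ca81aeb689a93346dab1ff4095739500e5fd2ffaf753dcec0c7f51aaf02ffe0e8d4a51000909526aec5250c361457de9aa879986c32976b3892a09fb17b75904b808848456bbc147003abd88c57f967ab1a4bc131a804387c9649991781c62cc76ce7c4a37940df1a229ca9eeb461430e62c605ff60a78c4ff1)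 i2) (pk61d_v2 (nat_lit 6) 
    (nat_lit 0x259238607de75c6da6585d65544d24503ce34c2489648a17dd71b69859544d1c51258a181f79d71b6996175544ce34b1c58607de75c6da6585d551138c283) i2))) (g1 u21) (g1 (Nat.succ u21)) List.nil) fun j => (pk61d_v2 (nat_lit 7) 
    (nat_lit 0x53709c900) j)) (nat_lit 0) (pk61d_v2 (nat_lit 30) 
    (nat_lit 0x80d5d5a8a96e43d7034adad64b5936) u21) ((fun g1 : Nat → Nat => pk61l_v2 (fun i2 => (_root_.Prod.mk (pk61d_v2 (nat_lit 4) 
    (nat_lit 0x9627) i2) (pk61d_v2 (nat_lit 2) 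
    (nat_lit 0x59) i2))) (g1 u21) (g1 (Nat.succ u21)) List.nil) fun j => (pk61d_v2 (nat_lit 3) 
    (nat_lit 0x48d0) j)) ((fun g1 : Nat → Nat => pk61l_v2 (fun i2 => (_root_.Prod.mk (pk61d_v2 (nat_lit 19) 
    (nat_lit 0x400150000d001a6012d0006dd20a4) i2) (_root_.Prod.mk (pk61d_v2 (nat_lit 6) 
    (nat_lit 0x258e054e38b) i2) (pk61d_v2 (nat_lit 2) 
    (nat_lit 0x2fae) i2)))) (g1 u21) (g1 (Nat.succ u21)) List.nil) fun j => (pk61d_v2 (nat_lit 3) 
    (nat_lit 0x7400) j))))))) (nat_lit 0) (nat_lit 5) List.nil) : List St)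
    = ?xq9009 → (List St)) ?hq9009; (case hq9009 => (set_option maxRecDepth 1000000 in conv => lhs; reduce)); intro _; exact ?xq9009 : List St)

/-- steps -/
noncomputable def l8_0 : List St :=
  (by
  refine (?fq9010 : ((pk61l_v2 (fun i1 => (pk61f_v2 (pk61d_v2 (nat_lit 2) 
    (nat_lit 0x384) i1) fun u21 => (pk61f_v2 (pk61d_v2 (nat_lit 1) 
    (nat_lit 0x1b) i1) fun t1_1 => (pk61c_v2 (Nat.div t1_1 (nat_lit 1)) (_root_.Cfsg.Agent.N2.Sp.St.pw (nat_lit 33) (nat_lit 2)) fun _ => (_root_.Cfsg.Agent.N2.Sp.St.fk (pk61d_v2 (nat_lit 6) 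
    (nat_lit 0x225df) u21) ((fun g1 : Nat → Nat => pk61l_v2 (fun i2 => (_root_.Prod.mk (pk61d_v2 (nat_lit 40) 
    (nat_lit 0x92a4688e5041af3ff2a01c95deb20dbf34f72bfde44122e1ae8d4a51000cef78ebf97ce08244922c4ca0d6fd0ac5ed251fda0b3e6f60c72b59845fc71c62dcf86222527edcc66658fa12c46a9eed3442e43a7c98c2dfff5616e3544cc37ef25ca0d63191adb5d03301e27190e9521b9d4e4d51c484421aa265d010ce90d33e441b0023163915a5a457901b3e8d4a51000b11caaf0962e4521131124de26a3d501cf6c5d7a09e9f31f3557c4dde04c2054b4f67e2bae9908bc239a5c461f6d1f1ea29330978620853ba4c8e9bb255ab993855a68802e56e8d4a51000963a648910b26b8b28b37130dc5a8badbbb137c3b615c5f0a7504fdbc9f7983397e10a4a5b3c450b35a2a1294f9ef7b5a0f42fff330962983397e10a3c309dfb394fa47382f96fec16c68f0b921dd817b78015897456c5fbbf424926dd1495733588f8e303100bed7c19ed3dc4dc237bcad90c0e3a2d8799592ac107eae8d4a510005c3accf5676377865015) i2) (pk61d_v2 (nat_lit 6) 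
    (nat_lit 0x9648e181f79d71b69961759551349140f38d30922489f71b69859544d1449648a181f79d71b69961755434b1e585e75c69961544c282) i2))) (g1 u21) (g1 (Nat.succ u21)) List.nil) fun j => (pk61d_v2 (nat_lit 7) 
    (nat_lit 0x485a80680) j)) (nat_lit 0) (pk61d_v2 (nat_lit 30) 
    (nat_lit 0xa10b4b1474423f67f85bef8c160478) u21) ((fun g1 : Nat → Nat => pk61l_v2 (fun i2 => (_root_.Prod.mk (pk61d_v2 (nat_lit 6) 
    (nat_lit 0xd27828c) i2) (pk61d_v2 (nat_lit 3) 
    (nat_lit 0x1351) i2))) (g1 u21) (g1 (Nat.succ u21)) List.nil) fun j => (pk61d_v2 (nat_lit 3) 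
    (nat_lit 0x5b18) j)) ((fun g1 : Nat → Nat => pk61l_v2 (fun i2 => (_root_.Prod.mk (pk61d_v2 (nat_lit 11) 
    (nat_lit 0x82a01a34e5a178) i2) (_root_.Prod.mk (pk61d_v2 (nat_lit 6) 
    (nat_lit 0x96381539c) i2) (pk61d_v2 (nat_lit 2) 
    (nat_lit 0xbeb) i2)))) (g1 u21) (g1 (Nat.succ u21)) List.nil) fun j => (pk61d_v2 (nat_lit 3) 
    (nat_lit 0x6200) j))))))) (nat_lit 0) (nat_lit 5) List.nil) : List St)
    = ?xq9010 → (List St)) ?hq9010; (case hq9010 => (set_option maxRecDepth 1000000 in conv => lhs; reduce)); intro _; exact ?xq9010 : List St)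

/-- steps -/
noncomputable def l9_0 : List St :=
  (by
  refine (?fq9011 : ((pk61l_v2 (fun i1 => (pk61f_v2 (pk61d_v2 (nat_lit 2) 
    (nat_lit 0x384) i1) fun u21 => (pk61f_v2 (pk61d_v2 (nat_lit 1) 
    (nat_lit 0x1b) i1) fun t1_1 => (pk61c_v2 (Nat.div t1_1 (nat_lit 1)) (_root_.Cfsg.Agent.N2.Sp.St.pw (nat_lit 33) (nat_lit 2)) fun _ => (_root_.Cfsg.Agent.N2.Sp.St.fk (pk61d_v2 (nat_lit 6) 
    (nat_lit 0x225df) u21) ((fun g1 : Nat → Nat => pk61l_v2 (fun i2 => (_root_.Prod.mk (pk61d_v2 (nat_lit 40) 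
    (nat_lit 0x92a4688e5041af3ff2a01c95deb20dbf34f72bfde44122e1ae8d4a51000cef78ebf97ce08244922c4ca0d6fd0ac5ed251fda0b3e6f60c72b59845fc71c62dcf86222527edcc66658fa12c46a9eed3442e43a7c98c2dfff5616e3544cc37ef25ca0d63191adb5d03301e27190e9521b9d4e4d51c484421aa265d010ce90d33e441b0023163915a5a457901b3e8d4a51000b11caaf0962e4521131124de26a3d501cf6c5d7a09e9f31f3557c4dde04c2054b4f67e2bae9908bc239a5c461f6d1f1ea29330978620853ba4c8e9bb255ab993855a68802e56e8d4a51000963a648910b26b8b28b37130dc5a8badbbb137c3b615c5f0a7504fdbc9f7983397e10a4a5b3c450b35a2a1294f9ef7b5a0f42fff330962983397e10a3c309dfb394fa47382f96fec16c68f0b921dd817b78015897456c5fbbf424926dd1495733588f8e303100bed7c19ed3dc4dc237bcad90c0e3a2d8799592ac107eae8d4a510005c3accf5676377865015) i2) (pk61d_v2 (nat_lit 6) 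
    (nat_lit 0x9648e181f79d71b69961759551349140f38d30922489f71b69859544d1449648a181f79d71b69961755434b1e585e75c69961544c282) i2))) (g1 u21) (g1 (Nat.succ u21)) List.nil) fun j => (pk61d_v2 (nat_lit 7) 
    (nat_lit 0x485a80680) j)) (nat_lit 0) (pk61d_v2 (nat_lit 30) 
    (nat_lit 0xc94e1ddc9152cf49f672eb4f1b8596) u21) ((fun g1 : Nat → Nat => pk61l_v2 (fun i2 => (_root_.Prod.mk (pk61d_v2 (nat_lit 6) 
    (nat_lit 0xd27828c) i2) (pk61d_v2 (nat_lit 3) 
    (nat_lit 0x1351) i2))) (g1 u21) (g1 (Nat.succ u21)) List.nil) fun j => (pk61d_v2 (nat_lit 3) 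
    (nat_lit 0x5b18) j)) ((fun g1 : Nat → Nat => pk61l_v2 (fun i2 => (_root_.Prod.mk (pk61d_v2 (nat_lit 11) 
    (nat_lit 0x82a01a34e5a178) i2) (_root_.Prod.mk (pk61d_v2 (nat_lit 6) 
    (nat_lit 0x96381539c) i2) (pk61d_v2 (nat_lit 2) 
    (nat_lit 0xbeb) i2)))) (g1 u21) (g1 (Nat.succ u21)) List.nil) fun j => (pk61d_v2 (nat_lit 3) 
    (nat_lit 0x6200) j))))))) (nat_lit 0) (nat_lit 5) List.nil) : List St)
    = ?xq9011 → (List St)) ?hq9011; (case hq9011 => (set_option maxRecDepth 1000000 in conv => lhs; reduce)); intro _; exact ?xq9011 : List St)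

/-- steps -/
noncomputable def l10_0 : List St :=
  (by
  refine (?fq9012 : ((pk61l_v2 (fun i1 => (pk61f_v2 (pk61d_v2 (nat_lit 2) 
    (nat_lit 0x384) i1) fun u21 => (pk61f_v2 (pk61d_v2 (nat_lit 1) 
    (nat_lit 0x1b) i1) fun t1_1 => (pk61c_v2 (Nat.div t1_1 (nat_lit 1)) (_root_.Cfsg.Agent.N2.Sp.St.pw (nat_lit 33) (nat_lit 2)) fun _ => (_root_.Cfsg.Agent.N2.Sp.St.fk (pk61d_v2 (nat_lit 6) 
    (nat_lit 0x225df) u21) ((fun g1 : Nat → Nat => pk61l_v2 (fun i2 => (_root_.Prod.mk (pk61d_v2 (nat_lit 47) 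
    (nat_lit 0x92a4688e5000835e7fe5400072577ac8006df9a7b95f80de44122e1a01d1a94a2000033bde3afe5c0670412249100c4ca0d6fd00158bda4a3fa0282cf9bd8300395acc22fe0071c62dcf8600444a4fdb980199963e84b002354f769a2002e43a7c98c005bffeac2dc00d51330dfbc012e506b18c801adb5d0330003c4e321d2a0086e753935400e242210d500265d010ce9001a67c883600008c58e4568001e2961ea7806b46a592a301d1a94a2000019261cda3840104fd11979000be001bdf20056143279ea00229472e8f4027ec9cd45f8007c76479a9005d6949b68600e4494d0ec4031792b8d4f007a0f0c7f0f01bf113f7e3003a352944000013234d655f00a802f0f72d0111e41ffb1e0056184430fc05d27d19a170056252d252300fe28f0f1a000b43163efe805d27d19a17002969fbc8a4002c16f8120c0274019df3dc5b4d56c225a06f24faed4c13c830fc4c1061cb9fa25b75c517a455d305daf3107a4000) i2) (pk61d_v2 (nat_lit 6) 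
    (nat_lit 0x259238607de75c6da6585d65544d24503ce34c24896489f71859544d14496285f79d71b6995d550d2c79648a1302) i2))) (g1 u21) (g1 (Nat.succ u21)) List.nil) fun j => (pk61d_v2 (nat_lit 6) 
    (nat_lit 0x3d896180) j)) (nat_lit 0) (pk61d_v2 (nat_lit 31) 
    (nat_lit 0x7dd0d2aa19c7ea813fb9616669ab586) u21) ((fun g1 : Nat → Nat => pk61l_v2 (fun i2 => (_root_.Prod.mk (pk61d_v2 (nat_lit 12) 
    (nat_lit 0xd00bd0e110467467) i2) (pk61d_v2 (nat_lit 3) 
    (nat_lit 0x9b11) i2))) (g1 u21) (g1 (Nat.succ u21)) List.nil) fun j => (pk61d_v2 (nat_lit 3) 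
    (nat_lit 0x6d60) j)) ((fun g1 : Nat → Nat => pk61l_v2 (fun i2 => (_root_.Prod.mk (pk61d_v2 (nat_lit 13) 
    (nat_lit 0x80a801a0d325a09838fa08d) i2) (_root_.Prod.mk (pk61d_v2 (nat_lit 6) 
    (nat_lit 0x96381539c31a) i2) (pk61d_v2 (nat_lit 2) 
    (nat_lit 0xbeba) i2)))) (g1 u21) (g1 (Nat.succ u21)) List.nil) fun j => (pk61d_v2 (nat_lit 4) 
    (nat_lit 0x83100) j))))))) (nat_lit 0) (nat_lit 5) List.nil) : List St)
    = ?xq9012 → (List St)) ?hq9012; (case hq9012 => (set_option maxRecDepth 1000000 in conv => lhs; reduce)); intro _; exact ?xq9012 : List St)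

/-- steps -/
noncomputable def l11_0 : List St :=
  (by
  refine (?fq9013 : ((pk61l_v2 (fun i1 => (pk61f_v2 (pk61d_v2 (nat_lit 2) 
    (nat_lit 0x384) i1) fun u21 => (pk61f_v2 (pk61d_v2 (nat_lit 1) 
    (nat_lit 0x1b) i1) fun t1_1 => (pk61c_v2 (Nat.div t1_1 (nat_lit 1)) (_root_.Cfsg.Agent.N2.Sp.St.pw (nat_lit 33) (nat_lit 2)) fun _ => (_root_.Cfsg.Agent.N2.Sp.St.fk (pk61d_v2 (nat_lit 6) 
    (nat_lit 0x225df) u21) ((fun g1 : Nat → Nat => pk61l_v2 (fun i2 => (_root_.Prod.mk (pk61d_v2 (nat_lit 47) 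
    (nat_lit 0x92a4688e5000835e7fe5400072577ac8006df9a7b95f80de44122e1a01d1a94a2000033bde3afe5c0670412249100c4ca0d6fd00158bda4a3fa0282cf9bd8300395acc22fe0071c62dcf8600444a4fdb980199963e84b002354f769a2002e43a7c98c005bffeac2dc00d51330dfbc012e506b18c801adb5d0330003c4e321d2a0086e753935400e242210d500265d010ce9001a67c883600008c58e4568001e2961ea7806b46a592a301d1a94a2000019261cda3840104fd11979000be001bdf20056143279ea00229472e8f4027ec9cd45f8007c76479a9005d6949b68600e4494d0ec4031792b8d4f007a0f0c7f0f01bf113f7e3003a352944000013234d655f00a802f0f72d0111e41ffb1e0056184430fc05d27d19a170056252d252300fe28f0f1a000b43163efe805d27d19a17002969fbc8a4002c16f8120c0274019df3dc5b4d56c225a06f24faed4c13c830fc4c1061cb9fa25b75c517a455d305daf3107a4000) i2) (pk61d_v2 (nat_lit 6) 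
    (nat_lit 0x259238607de75c6da6585d65544d24503ce34c24896489f71859544d14496285f79d71b6995d550d2c79648a1302) i2))) (g1 u21) (g1 (Nat.succ u21)) List.nil) fun j => (pk61d_v2 (nat_lit 6) 
    (nat_lit 0x3d896180) j)) (nat_lit 0) (pk61d_v2 (nat_lit 32) 
    (nat_lit 0x4ea283ac080e794831f4f738804162ea) u21) ((fun g1 : Nat → Nat => pk61l_v2 (fun i2 => (_root_.Prod.mk (pk61d_v2 (nat_lit 12) 
    (nat_lit 0xd00bd0e110467467) i2) (pk61d_v2 (nat_lit 3) 
    (nat_lit 0x9b11) i2))) (g1 u21) (g1 (Nat.succ u21)) List.nil) fun j => (pk61d_v2 (nat_lit 3) 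
    (nat_lit 0x6d60) j)) ((fun g1 : Nat → Nat => pk61l_v2 (fun i2 => (_root_.Prod.mk (pk61d_v2 (nat_lit 13) 
    (nat_lit 0x80a801a0d325a09838fa08d) i2) (_root_.Prod.mk (pk61d_v2 (nat_lit 6) 
    (nat_lit 0x96381539c31a) i2) (pk61d_v2 (nat_lit 2) 
    (nat_lit 0xbeba) i2)))) (g1 u21) (g1 (Nat.succ u21)) List.nil) fun j => (pk61d_v2 (nat_lit 4) 
    (nat_lit 0x83100) j))))))) (nat_lit 0) (nat_lit 5) List.nil) : List St)
    = ?xq9013 → (List St)) ?hq9013; (case hq9013 => (set_option maxRecDepth 1000000 in conv => lhs; reduce)); intro _; exact ?xq9013 : List St)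

/-- steps -/
noncomputable def l12_0 : List St :=
  (by
  refine (?fq9014 : ((pk61l_v2 (fun i1 => (pk61f_v2 (pk61d_v2 (nat_lit 2) 
    (nat_lit 0x384) i1) fun u21 => (pk61f_v2 (pk61d_v2 (nat_lit 1) 
    (nat_lit 0x1b) i1) fun t1_1 => (pk61c_v2 (Nat.div t1_1 (nat_lit 1)) (_root_.Cfsg.Agent.N2.Sp.St.pw (nat_lit 33) (nat_lit 2)) fun _ => (_root_.Cfsg.Agent.N2.Sp.St.fk (pk61d_v2 (nat_lit 6) 
    (nat_lit 0x225df) u21) ((fun g1 : Nat → Nat => pk61l_v2 (fun i2 => (_root_.Prod.mk (pk61d_v2 (nat_lit 47) 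
    (nat_lit 0x92a4688e5000835e7fe5400072577ac8006df9a7b95f80de44122e1a01d1a94a2000033bde3afe5c0670412249100c4ca0d6fd00158bda4a3fa0282cf9bd8300395acc22fe0071c62dcf8600444a4fdb980199963e84b002354f769a2002e43a7c98c005bffeac2dc00d51330dfbc012e506b18c801adb5d0330003c4e321d2a0086e753935400e242210d500265d010ce9001a67c883600008c58e456800eb79dc3a28040965351b601d1a94a2000004c723e9be802b32cf1d820016328573ce003153d33a3c00903eb71ed000ddc39ea47802db48b6e7701d1a94a200000176f146434064b9416f5880028350c5c100d272c01c0632d31fcbd87898795f63896daf3107a4000) i2) (pk61d_v2 (nat_lit 6) 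
    (nat_lit 0x259238607de75c6da6585d65544d24503ce34c24896489f44614496389f5d51e3882) i2))) (g1 u21) (g1 (Nat.succ u21)) List.nil) fun j => (pk61d_v2 (nat_lit 6) 
    (nat_lit 0x2d48a0c0) j)) (nat_lit 0) (pk61d_v2 (nat_lit 31) 
    (nat_lit 0xc49649320a1d3a30290e9fb88671843) u21) ((fun g1 : Nat → Nat => pk61l_v2 (fun i2 => (_root_.Prod.mk (pk61d_v2 (nat_lit 13) 
    (nat_lit 0x1a00f8b6a3452a898c) i2) (pk61d_v2 (nat_lit 3) 
    (nat_lit 0x9b11) i2))) (g1 u21) (g1 (Nat.succ u21)) List.nil) fun j => (pk61d_v2 (nat_lit 3) 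
    (nat_lit 0x6d60) j)) ((fun g1 : Nat → Nat => pk61l_v2 (fun i2 => (_root_.Prod.mk (pk61d_v2 (nat_lit 11) 
    (nat_lit 0x41500d1a72d132088) i2) (_root_.Prod.mk (pk61d_v2 (nat_lit 6) 
    (nat_lit 0x258e054e71c) i2) (pk61d_v2 (nat_lit 2) 
    (nat_lit 0x2faf) i2)))) (g1 u21) (g1 (Nat.succ u21)) List.nil) fun j => (pk61d_v2 (nat_lit 3) 
    (nat_lit 0x7440) j))))))) (nat_lit 0) (nat_lit 5) List.nil) : List St)
    = ?xq9014 → (List St)) ?hq9014; (case hq9014 => (set_option maxRecDepth 1000000 in conv => lhs; reduce)); intro _; exact ?xq9014 : List St)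

/-- steps -/
noncomputable def l13_0 : List St :=
  (by
  refine (?fq9015 : ((pk61l_v2 (fun i1 => (pk61f_v2 (pk61d_v2 (nat_lit 2) 
    (nat_lit 0x384) i1) fun u21 => (pk61f_v2 (pk61d_v2 (nat_lit 1) 
    (nat_lit 0x1b) i1) fun t1_1 => (pk61c_v2 (Nat.div t1_1 (nat_lit 1)) (_root_.Cfsg.Agent.N2.Sp.St.pw (nat_lit 33) (nat_lit 2)) fun _ => (_root_.Cfsg.Agent.N2.Sp.St.fk (pk61d_v2 (nat_lit 6) 
    (nat_lit 0x225df) u21) ((fun g1 : Nat → Nat => pk61l_v2 (fun i2 => (_root_.Prod.mk (pk61d_v2 (nat_lit 47) 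
    (nat_lit 0x92a4688e5000835e7fe5400072577ac8006df9a7b95f80de44122e1a01d1a94a2000033bde3afe5c0670412249100c4ca0d6fd00158bda4a3fa0282cf9bd8300395acc22fe0071c62dcf8600444a4fdb980199963e84b002354f769a2002e43a7c98c005bffeac2dc00d51330dfbc012e506b18c801adb5d0330003c4e321d2a0086e753935400e242210d500265d010ce9001a67c883600008c58e456800eb79dc3a28040965351b601d1a94a2000004c723e9be802b32cf1d820016328573ce003153d33a3c00903eb71ed000ddc39ea47802db48b6e7701d1a94a200000176f146434064b9416f5880028350c5c100d272c01c0632d31fcbd87898795f63896daf3107a4000) i2) (pk61d_v2 (nat_lit 6) 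
    (nat_lit 0x259238607de75c6da6585d65544d24503ce34c24896489f44614496389f5d51e3882) i2))) (g1 u21) (g1 (Nat.succ u21)) List.nil) fun j => (pk61d_v2 (nat_lit 6) 
    (nat_lit 0x2d48a0c0) j)) (nat_lit 0) (pk61d_v2 (nat_lit 31) 
    (nat_lit 0xf5bbdb840ca488bc335247a8a80de53) u21) ((fun g1 : Nat → Nat => pk61l_v2 (fun i2 => (_root_.Prod.mk (pk61d_v2 (nat_lit 13) 
    (nat_lit 0x1a00f8b6a3452a898c) i2) (pk61d_v2 (nat_lit 3) 
    (nat_lit 0x9b11) i2))) (g1 u21) (g1 (Nat.succ u21)) List.nil) fun j => (pk61d_v2 (nat_lit 3) 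
    (nat_lit 0x6d60) j)) ((fun g1 : Nat → Nat => pk61l_v2 (fun i2 => (_root_.Prod.mk (pk61d_v2 (nat_lit 11) 
    (nat_lit 0x41500d1a72d132088) i2) (_root_.Prod.mk (pk61d_v2 (nat_lit 6) 
    (nat_lit 0x258e054e71c) i2) (pk61d_v2 (nat_lit 2) 
    (nat_lit 0x2faf) i2)))) (g1 u21) (g1 (Nat.succ u21)) List.nil) fun j => (pk61d_v2 (nat_lit 3) 
    (nat_lit 0x7440) j))))))) (nat_lit 0) (nat_lit 5) List.nil) : List St)
    = ?xq9015 → (List St)) ?hq9015; (case hq9015 => (set_option maxRecDepth 1000000 in conv => lhs; reduce)); intro _; exact ?xq9015 : List St)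

/-- steps -/
noncomputable def l14_0 : List St :=
  (by
  refine (?fq9016 : ((pk61l_v2 (fun i1 => (pk61f_v2 (pk61d_v2 (nat_lit 2) 
    (nat_lit 0x384) i1) fun u21 => (pk61f_v2 (pk61d_v2 (nat_lit 1) 
    (nat_lit 0x1b) i1) fun t1_1 => (pk61c_v2 (Nat.div t1_1 (nat_lit 1)) (_root_.Cfsg.Agent.N2.Sp.St.pw (nat_lit 33) (nat_lit 2)) fun _ => (_root_.Cfsg.Agent.N2.Sp.St.fk (pk61d_v2 (nat_lit 6) 
    (nat_lit 0x225df) u21) ((fun g1 : Nat → Nat => pk61l_v2 (fun i2 => (_root_.Prod.mk (pk61d_v2 (nat_lit 40) 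
    (nat_lit 0x92a4688e5041af3ff2a01c95deb20dbf34f72bfde44122e1ae8d4a51000cef78ebf97ce08244922c4ca0d6fd0ac5ed251fda0b3e6f60c72b59845fc71c62dcf86222527edcc66658fa12c46a9eed3442e43a7c98c2dfff5616e3544cc37ef25ca0d63191adb5d03301e27190e9521b9d4e4d51c484421aa265d010ce90d33e441b0023163915a4c1614c369159408e74de8d4a510002f6f90b8dd11a5bfe6e8571ea663401ba359ace53ee92a8030e8d4a51000279200a2e359c24c168e0cf284c27002540be400) i2) (pk61d_v2 (nat_lit 6) 
    (nat_lit 0x9648e181f79d71b69961759551349140f38d3092259223051258e25c7142) i2))) (g1 u21) (g1 (Nat.succ u21)) List.nil) fun j => (pk61d_v2 (nat_lit 6) 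
    (nat_lit 0x28347040) j)) (nat_lit 0) (pk61d_v2 (nat_lit 32) 
    (nat_lit 0x9995693601da46e30223c34900000000) u21) ((fun g1 : Nat → Nat => pk61l_v2 (fun i2 => (_root_.Prod.mk (pk61d_v2 (nat_lit 5) 
    (nat_lit 0x834a5) i2) (pk61d_v2 (nat_lit 2) 
    (nat_lit 0x59) i2))) (g1 u21) (g1 (Nat.succ u21)) List.nil) fun j => (pk61d_v2 (nat_lit 3) 
    (nat_lit 0x48d0) j)) ((fun g1 : Nat → Nat => pk61l_v2 (fun i2 => (_root_.Prod.mk (pk61d_v2 (nat_lit 16) 
    (nat_lit 0x1002a000d00d304b401a402c5aefc) i2) (_root_.Prod.mk (pk61d_v2 (nat_lit 6) 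
    (nat_lit 0x96381539c70a) i2) (pk61d_v2 (nat_lit 2) 
    (nat_lit 0xbebe) i2)))) (g1 u21) (g1 (Nat.succ u21)) List.nil) fun j => (pk61d_v2 (nat_lit 4) 
    (nat_lit 0x83200) j))))))) (nat_lit 0) (nat_lit 5) List.nil) : List St)
    = ?xq9016 → (List St)) ?hq9016; (case hq9016 => (set_option maxRecDepth 1000000 in conv => lhs; reduce)); intro _; exact ?xq9016 : List St)

/-- steps -/
noncomputable def l15_0 : List St :=
  (by
  refine (?fq9017 : ((pk61l_v2 (fun i1 => (pk61f_v2 (pk61d_v2 (nat_lit 2) 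
    (nat_lit 0x384) i1) fun u21 => (pk61f_v2 (pk61d_v2 (nat_lit 1) 
    (nat_lit 0x1b) i1) fun t1_1 => (pk61c_v2 (Nat.div t1_1 (nat_lit 1)) (_root_.Cfsg.Agent.N2.Sp.St.pw (nat_lit 33) (nat_lit 2)) fun _ => (_root_.Cfsg.Agent.N2.Sp.St.fk (pk61d_v2 (nat_lit 6) 
    (nat_lit 0x225df) u21) ((fun g1 : Nat → Nat => pk61l_v2 (fun i2 => (_root_.Prod.mk (pk61d_v2 (nat_lit 40) 
    (nat_lit 0x92a4688e5041af3ff2a01c95deb20dbf34f72bfde44122e1ae8d4a51000cef78ebf97ce08244922c4ca0d6fd0ac5ed251fda0b3e6f60c72b59845fc71c62dcf86222527edcc66658fa12c46a9eed3442e43a7c98c2dfff5616e3544cc37ef25ca0d63191adb5d03301e27190e9521b9d4e4d51c484421aa265d010ce90d33e441b0023163915a4c1614c369159408e74de8d4a510002f6f90b8dd11a5bfe6e8571ea663401ba359ace53ee92a8030e8d4a51000279200a2e359c24c168e0cf284c27002540be400) i2) (pk61d_v2 (nat_lit 6) 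
    (nat_lit 0x9648e181f79d71b69961759551349140f38d3092259223051258e25c7142) i2))) (g1 u21) (g1 (Nat.succ u21)) List.nil) fun j => (pk61d_v2 (nat_lit 6) 
    (nat_lit 0x28347040) j)) (nat_lit 0) (pk61d_v2 (nat_lit 32) 
    (nat_lit 0xbffac38c0250d89c02acb41b00000000) u21) ((fun g1 : Nat → Nat => pk61l_v2 (fun i2 => (_root_.Prod.mk (pk61d_v2 (nat_lit 5) 
    (nat_lit 0x834a5) i2) (pk61d_v2 (nat_lit 2) 
    (nat_lit 0x59) i2))) (g1 u21) (g1 (Nat.succ u21)) List.nil) fun j => (pk61d_v2 (nat_lit 3) 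
    (nat_lit 0x48d0) j)) ((fun g1 : Nat → Nat => pk61l_v2 (fun i2 => (_root_.Prod.mk (pk61d_v2 (nat_lit 16) 
    (nat_lit 0x1002a000d00d304b401a402c5aefc) i2) (_root_.Prod.mk (pk61d_v2 (nat_lit 6) 
    (nat_lit 0x96381539c70a) i2) (pk61d_v2 (nat_lit 2) 
    (nat_lit 0xbebe) i2)))) (g1 u21) (g1 (Nat.succ u21)) List.nil) fun j => (pk61d_v2 (nat_lit 4) 
    (nat_lit 0x83200) j))))))) (nat_lit 0) (nat_lit 5) List.nil) : List St)
    = ?xq9017 → (List St)) ?hq9017; (case hq9017 => (set_option maxRecDepth 1000000 in conv => lhs; reduce)); intro _; exact ?xq9017 : List St)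

/-- steps -/
noncomputable def l16_0 : List St :=
  (by
  refine (?fq9018 : ((pk61l_v2 (fun i1 => (pk61f_v2 (pk61d_v2 (nat_lit 2) 
    (nat_lit 0x384) i1) fun u21 => (pk61f_v2 (pk61d_v2 (nat_lit 1) 
    (nat_lit 0x1b) i1) fun t1_1 => (pk61c_v2 (Nat.div t1_1 (nat_lit 1)) (_root_.Cfsg.Agent.N2.Sp.St.pw (nat_lit 33) (nat_lit 2)) fun _ => (_root_.Cfsg.Agent.N2.Sp.St.fk (pk61d_v2 (nat_lit 6) 
    (nat_lit 0x225df) u21) ((fun g1 : Nat → Nat => pk61l_v2 (fun i2 => (_root_.Prod.mk (pk61d_v2 (nat_lit 40) 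
    (nat_lit 0x92a4688e5041af3ff2a01c95deb20dbf34f72bfde44122e1ae8d4a51000cef78ebf97ce08244922c4ca0d6fd0ac5ed251fda0b3e6f60c72b59845fc71c62dcf86222527edcc66658fa12c46a9eed3442e43a7c98c2dfff5616e3544cc37ef25ca0d63191adb5d03301e27190e9521b9d4e4d51c484421aa265d010ce90d33e441b0023163915a4c9bf6093a1320282640e8d4a510003094da763e5d06862fc6039a838b951c1f0043c0103517749949f93d37a4e8d4a51000139a2879ff10351774994d0587aeb802540be400) i2) (pk61d_v2 (nat_lit 6) 
    (nat_lit 0x259238607de75c6da6585d65544d24503ce34c24896488c1029648e25cf1c2) i2))) (g1 u21) (g1 (Nat.succ u21)) List.nil) fun j => (pk61d_v2 (nat_lit 6) 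
    (nat_lit 0x29388040) j)) (nat_lit 0) (pk61d_v2 (nat_lit 32) 
    (nat_lit 0xe127eef902b40e64029cd59100000000) u21) ((fun g1 : Nat → Nat => pk61l_v2 (fun i2 => (_root_.Prod.mk (pk61d_v2 (nat_lit 5) 
    (nat_lit 0x834a5) i2) (pk61d_v2 (nat_lit 2) 
    (nat_lit 0x59) i2))) (g1 u21) (g1 (Nat.succ u21)) List.nil) fun j => (pk61d_v2 (nat_lit 3) 
    (nat_lit 0x48d0) j)) ((fun g1 : Nat → Nat => pk61l_v2 (fun i2 => (_root_.Prod.mk (pk61d_v2 (nat_lit 11) 
    (nat_lit 0x41500d1a72d0c8b18) i2) (_root_.Prod.mk (pk61d_v2 (nat_lit 6) 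
    (nat_lit 0x258e054e71c) i2) (pk61d_v2 (nat_lit 2) 
    (nat_lit 0x2faf) i2)))) (g1 u21) (g1 (Nat.succ u21)) List.nil) fun j => (pk61d_v2 (nat_lit 3) 
    (nat_lit 0x7440) j))))))) (nat_lit 0) (nat_lit 5) List.nil) : List St)
    = ?xq9018 → (List St)) ?hq9018; (case hq9018 => (set_option maxRecDepth 1000000 in conv => lhs; reduce)); intro _; exact ?xq9018 : List St)

/-- steps -/
noncomputable def l17_0 : List St := [
  .fk 23 [(1000000000000, 34)] 0 0 [(3617, 1)] [],
  .pw 33 2,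
  .fk 34 [(1000000000000, 4), (416666666667, 34), (83333333333, 35)] 0 3993814 [(52, 1)] [],
  .fk 27 [(10000000000, 3)] 0 0 [(5, 1), (5, 2)] [],
  .fk 0 [(23202969231, 8), (42537606830, 12), (40642054124, 13), (203743833603, 14), (204284417153, 15),
      (94187907778, 16), (152700811577, 17), (216940156699, 18), (175538711399, 19), (210281150249, 20),
      (238299057372, 21), (301164711829, 22), (203556618521, 23), (461957895328, 24), (558890844246, 25),
      (657477136358, 26), (623677793483, 27), (820720497243, 28), (884869745107, 29), (881465940896, 30),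
      (944193524230, 31), (1000000000000, 32), (864921978115, 33), (11418949911, 36), (4865251945, 37)] 0 4543943144
      [] [(1088, 14, 2), (720, 21, 2), (36, 35, 2), (22, 35, 3), (10, 37, 2)]]

/-- steps -/
noncomputable def l18_0 : List St := [
  .fk 23 [(1000000000000, 34)] 0 0 [(3617, 1)] [],
  .pw 33 2,
  .fk 34 [(1000000000000, 4), (416666666667, 34), (83333333333, 35)] 0 4252614 [(52, 1)] [],
  .fk 27 [(10000000000, 3)] 0 0 [(5, 1), (5, 2)] [],
  .fk 0 [(23202969231, 8), (42537606830, 12), (40642054124, 13), (203743833603, 14), (204284417153, 15),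
      (94187907778, 16), (152700811577, 17), (216940156699, 18), (175538711399, 19), (210281150249, 20),
      (238299057372, 21), (301164711829, 22), (203556618521, 23), (461957895328, 24), (558890844246, 25),
      (657477136358, 26), (623677793483, 27), (820720497243, 28), (884869745107, 29), (881465940896, 30),
      (944193524230, 31), (1000000000000, 32), (864921978115, 33), (11418949911, 36), (4865251945, 37)] 0 4838390643
      [] [(1088, 14, 2), (720, 21, 2), (36, 35, 2), (22, 35, 3), (10, 37, 2)]]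

/-- steps -/
noncomputable def l23_0 : List St := [
  .fk 20 [(1000000000000, 5), (307812500000, 34)] 0 2467377660 [(47, 1)] [(105872, 10, 2)],
  .fk 13 [(56451612903, 1), (1000000000000, 2), (40322580645, 3), (631552419355, 34), (197580645161, 35),
      (109375000000, 37)] 0 7814568543 [(19, 1)] [],
  .fk 24 [(1000000000000, 1), (122691655348, 12), (76624411944, 13), (348559324745, 15), (33045538649, 21),
      (705447389918, 28), (914828684658, 31), (248868023296, 35), (135716486969, 37)] 0 440667698406 [(27, 1), (89,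
      3)] [(1920754, 10, 2)],
  .fk 0 [(3857, 17), (1119, 20), (2556, 21), (2981, 23), (1697, 24), (5139, 25), (6723, 26), (5018, 27), (1610, 28),
      (3678, 29), (5520, 30), (1767, 31), (1767, 32), (8494, 33)] 0 10000 [] []]

/-- steps -/
noncomputable def l24_0 : List St := [
  .fk 13 [(1000000000000, 1), (158088235294, 34), (22058823529, 35)] 0 612908486 [(12, 1)] [],
  .fk 24 [(1000000000000, 1), (410969079823, 12), (146672753722, 15), (144696524188, 21), (317812374261, 28),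
      (99801912780, 31), (481232009657, 35), (375665449256, 37)] 0 189223093415 [(19, 1), (37, 3)] [(1233742, 10, 2)],
  .fk 19 [(1000000000000, 1), (454136807818, 5), (359902280130, 13), (406482084691, 21), (6571661238, 25),
      (487035830619, 26), (790496742671, 35), (595895765472, 36), (874136807818, 37)] 0 248267865900 [(32, 1)]
      [(1628848, 10, 2)],
  .fk 0 [(10, 13), (78, 17), (72, 20), (18, 25), (28, 26), (41, 27), (28, 28), (55, 29), (21, 31), (21, 32), (84,
      33), (6, 34)] 0 100 [] []]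

/-- steps -/
noncomputable def l25_0 : List St := [
  .fk 13 [(1000000000000, 1), (158088235294, 34), (22058823529, 35)] 0 766137661 [(12, 1)] [],
  .fk 24 [(1000000000000, 1), (168565462315, 12), (47268842269, 15), (83713092463, 28), (321005730381, 35),
      (184508547009, 37)] 0 57462817367 [(13, 1), (21, 3)] [(707297, 10, 2)],
  .fk 19 [(1000000000000, 1), (450928518370, 5), (368978915491, 13), (403542654705, 21), (2305582538, 24),
      (483692360437, 26), (790391977601, 35), (601765613394, 36), (872772984401, 37)] 0 308584805488 [(32, 1)]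
      [(1620299, 10, 2)],
  .fk 0 [(787, 13), (6224, 17), (5784, 20), (1454, 25), (2264, 26), (3312, 27), (2264, 28), (4420, 29), (1682, 31),
      (1682, 32), (6744, 33), (472, 34)] 0 10000 [] []]

/-- steps -/
noncomputable def l26_0 : List St := [
  .fk 13 [(1000000000000, 1), (158088235294, 34), (22058823529, 35)] 0 957673681 [(12, 1)] [],
  .fk 24 [(1000000000000, 1), (62713797035, 2), (197263397948, 34), (39623717218, 35), (27366020525, 37)] 0
      3759169493 [(12, 1), (19, 3)] [(43460, 10, 2)],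
  .fk 19 [(1000000000000, 1), (440541086843, 5), (358939324378, 13), (400330148841, 21), (476199355371, 26),
      (771340980920, 35), (593917708795, 36), (853181697814, 37)] 0 378792708357 [(31, 1)] [(1571152, 10, 2)],
  .fk 0 [(62928, 13), (497953, 17), (462727, 20), (116280, 25), (181089, 26), (264994, 27), (181089, 28), (353629,
      29), (134577, 31), (134577, 32), (539506, 33), (37791, 34)] 0 1000000 [] []]

/-- steps -/
noncomputable def l27_0 : List St :=
  (by
  refine (?fq9025 : ((pk61l_v2 (fun i1 => (_root_.Cfsg.Agent.N2.Sp.St.fk (pk61d_v2 (nat_lit 5) 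
    (nat_lit 0x19184f0d) i1) ((fun g1 : Nat → Nat => pk61l_v2 (fun i2 => (_root_.Prod.mk (pk61d_v2 (nat_lit 47) 
    (nat_lit 0x380000000000700000000006000000000006c0000000001780000000000e00000000002e0000000000200000000000180000000001f00c2f4d6cfe00236f688b034000c7371a24804a60a3fa6e005773ffaabe00d35ea78c2c0200dc54d39804a2b1c234c014a19356a00001c9b882298026aa0a0b7700e8d4a510000003a427826203407a672ca4026d86e1117807e18aecb82002b685eea94007fe97f246002706490a2680abc65768f6002673f6178c006fe4d87a8c012262225470012cba4492d01d1a94a200001659ed04a980293a2e1933802ff0ae5273007b9ebe96d800b6b81aa9a8001a269885200e8d4a51000040331ab0a5a39831d3e3f12d79883d200000e8d4a51000) i2) (pk61d_v2 (nat_lit 6) 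
    (nat_lit 0x8e17dd71b6175548a181d6da65444d96285f6d65513859238910659236951418e2041) i2))) (g1 i1) (g1 (Nat.succ i1)) List.nil) fun j => (pk61d_v2 (nat_lit 6) 
    (nat_lit 0xba46902c4040) j)) (nat_lit 0) (pk61d_v2 (nat_lit 40) 
    (nat_lit 0x64e8d4a51000dea6ce49ef038a3de4ae337dc0aa4f1b0f91d03f00026c5867) i1) ((fun g1 : Nat → Nat => pk61l_v2 (fun i2 => (_root_.Prod.mk (pk61d_v2 (nat_lit 11) 
    (nat_lit 0x806806812e7611e6f010) i2) (pk61d_v2 (nat_lit 2) 
    (nat_lit 0x55e5) i2))) (g1 i1) (g1 (Nat.succ i1)) List.nil) fun j => (pk61d_v2 (nat_lit 4) 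
    (nat_lit 0x88765410) j)) ((fun g1 : Nat → Nat => pk61l_v2 (fun i2 => (_root_.Prod.mk (pk61d_v2 (nat_lit 20) 
    (nat_lit 0xc7dae16846013778e90e) i2) (_root_.Prod.mk (pk61d_v2 (nat_lit 4) 
    (nat_lit 0xaaca) i2) (nat_lit 2)))) (g1 i1) (g1 (Nat.succ i1)) List.nil) fun j => (pk61d_v2 (nat_lit 3) 
    (nat_lit 0x923400) j)))) (nat_lit 0) (nat_lit 7) List.nil) : List St)
    = ?xq9025 → (List St)) ?hq9025; (case hq9025 => (set_option maxRecDepth 1000000 in conv => lhs; reduce)); intro _; exact ?xq9025 : List St)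

/-- steps -/
noncomputable def l28_0 : List St :=
  (by
  refine (?fq9026 : ((pk61l_v2 (fun i1 => (_root_.Cfsg.Agent.N2.Sp.St.fk (pk61d_v2 (nat_lit 5) 
    (nat_lit 0x3ad288c278) i1) ((fun g1 : Nat → Nat => pk61l_v2 (fun i2 => (_root_.Prod.mk (pk61d_v2 (nat_lit 46) 
    (nat_lit 0x8c00000000064000000000058000000000240000000000b400000000010000011d8074800005f5e1000000031ab224000010b6fb0000002df705c0000139d8ba000003310e4800001e6788e0000002a0600000000f424000000000ca380000003b38d00000004b350000000383e7000000083210000000326ff41c22747586507089d1d61941c2274758649dd1f7de6dc41c22747586507089d1d61941c2274758654d2d0b4759783844e8eb0c8026880f5585016e083ddd70053796041330144a9f81b6001f35a65cff007cd69973fc03d15d48eb900852f897a80030c955e17d01e9f1c0d5c80414547c9f80317f827caf80af30dfccc20106d272c1b80696ca31c6e004b84f912680186879d8dc0104cfffae7c0909fae15b3000aa7cee5fc005e266cb6c009556073f400e8d4a51000006a4753450c040c4691fbf0066f333e78c00fd93d46b70081616f2d480e8d4a51000000c95df68a80e8d4a51000)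 i2) (pk61d_v2 (nat_lit 6) 
    (nat_lit 0x9625513439628554903439628554903458607dd71b6975238a175c69961446589f6d65513859638819648d53018c1) i2))) (g1 i1) (g1 (Nat.succ i1)) List.nil) fun j => (pk61d_v2 (nat_lit 6) 
    (nat_lit 0xfb8c287d5308080) j)) (nat_lit 0) (pk61d_v2 (nat_lit 47) 
    (nat_lit 0x14000003b4d7de0000000d7a9ed79883d200000e8d4a5100001d1a94a20000002d3fd5958007643d76430000155df363) i1) ((fun g1 : Nat → Nat => pk61l_v2 (fun i2 => (_root_.Prod.mk (pk61d_v2 (nat_lit 10) 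
    (nat_lit 0x247078150080e02c1500c0f) i2) (pk61d_v2 (nat_lit 2) 
    (nat_lit 0x15979) i2))) (g1 i1) (g1 (Nat.succ i1)) List.nil) fun j => (pk61d_v2 (nat_lit 4) 
    (nat_lit 0x9999876430) j)) ((fun g1 : Nat → Nat => pk61l_v2 (fun i2 => (_root_.Prod.mk (pk61d_v2 (nat_lit 20) 
    (nat_lit 0x45a23d405a6601898) i2) (_root_.Prod.mk (nat_lit 10) (nat_lit 2)))) (g1 i1) (g1 (Nat.succ i1)) List.nil) fun j => (pk61d_v2 (nat_lit 3) 
    (nat_lit 0x246db440) j)))) (nat_lit 0) (nat_lit 9) List.nil) : List St)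
    = ?xq9026 → (List St)) ?hq9026; (case hq9026 => (set_option maxRecDepth 1000000 in conv => lhs; reduce)); intro _; exact ?xq9026 : List St)

/-- steps -/
noncomputable def l29_0 : List St := [
  .fk 24 [(1000000000000, 1)] 0 63523825 [(18, 1), (6, 2)] [],
  .fk 19 [(1000000000000, 1), (227939949958, 5), (69245204337, 21), (281661801501, 35), (331192660550, 36),
      (243536280234, 37)] 0 96969251932 [(16, 1)] [(519737, 10, 2)],
  .fk 16 [(1000000000000, 1), (158088235294, 34), (22058823529, 35)] 0 1816034067 [(14, 1), (2, 2)] [],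
  .fk 17 [(1000000000000, 2), (200591715976, 5), (63155818540, 17), (11063856016, 34), (122953648915, 35),
      (234313362919, 37)] 0 54346699977 [(16, 1)] [(646511, 10, 2)],
  .fk 8 [(51731712226976, 17), (13642153143727, 20), (23502169815191, 24), (25033857608086, 25), (15562424765793,
      28), (29176311075320, 29), (21903731425874, 33), (57003306522969, 34), (9491696416208, 35)] 0 100000000000000
      [(3286, 1)] []]

/-- steps -/
noncomputable def l32_0 : List St :=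
  (by
  refine (?fq9028 : ((pk61l_v2 (fun i1 => (_root_.Cfsg.Agent.N2.Sp.St.fk (pk61d_v2 (nat_lit 5) 
    (nat_lit 0x10b64613) i1) ((fun g1 : Nat → Nat => pk61l_v2 (fun i2 => (_root_.Prod.mk (pk61d_v2 (nat_lit 40) 
    (nat_lit 0xe604f0000096a69000000457f00000448d70000034d590000003ed10000019cf49602fe1b7de8d4a51000d7a44d4784177077b44c3e813f361f4b017f0dbf4d818bd27805e0d472d2300d8e8f2614ef96ed6937a2117ad80cc3b4fd6c2441ada9b434c2b3544036fc46b9d35935b544795935b5447934ebcdd790019d5eff4b5233de2c43e8d4a5100017a598c3a02ba7def300886c98b760e8d4a51000e8d4a51000e8d4a51000) i2) (pk61d_v2 (nat_lit 6) 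
    (nat_lit 0x92389f6942648e26144d196275c6d8551962811343963882041) i2))) (g1 i1) (g1 (Nat.succ i1)) List.nil) fun j => (pk61d_v2 (nat_lit 6) 
    (nat_lit 0x89b50c182040) j)) (nat_lit 0) (pk61d_v2 (nat_lit 40) 
    (nat_lit 0xf424099b063cb7ee8d4a51000962edfa7750bed49e0ba00072e137e00072e137e) i1) ((fun g1 : Nat → Nat => pk61l_v2 (fun i2 => (_root_.Prod.mk (pk61d_v2 (nat_lit 6) 
    (nat_lit 0x264d5408510) i2) (pk61d_v2 (nat_lit 2) 
    (nat_lit 0x1565) i2))) (g1 i1) (g1 (Nat.succ i1)) List.nil) fun j => (pk61d_v2 (nat_lit 3) 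
    (nat_lit 0xff58c8) j)) ((fun g1 : Nat → Nat => pk61l_v2 (fun i2 => (_root_.Prod.mk (nat_lit 753593) (_root_.Prod.mk (nat_lit 10) (nat_lit 2)))) (g1 i1) (g1 (Nat.succ i1)) List.nil) fun j => (pk61d_v2 (nat_lit 1) 
    (nat_lit 0xf0) j)))) (nat_lit 0) (nat_lit 7) List.nil) : List St)
    = ?xq9028 → (List St)) ?hq9028; (case hq9028 => (set_option maxRecDepth 1000000 in conv => lhs; reduce)); intro _; exact ?xq9028 : List St)

/-- the certificates -/
noncomputable def L : List (ℕ × ℕ × List St) := [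
  (16525555200, 3, l0_0),
  (13220444159, 4, l1_0),
  (10576355326, 4, l2_0),
  (8461084260, 4, l3_0),
  (6768867407, 4, l4_0),
  (5415093924, 5, l5_0),
  (4332075138, 5, l6_0),
  (3465660109, 5, l7_0),
  (2772528086, 6, l8_0),
  (2218022468, 6, l9_0),
  (1774417973, 7, l10_0),
  (1419534377, 7, l11_0),
  (1135627500, 8, l12_0),
  (908501999, 8, l13_0),
  (726801598, 9, l14_0),
  (581441277, 9, l15_0),
  (495766657, 10, l16_0),
  (396613324, 11, l17_0),
  (372476827, 11, l18_0),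
  (32985795, 12, [.fk 0 [(6631, 2), (23975, 6), (30606, 7), (37237, 8), (63763, 9), (251480, 12), (218323, 13),
      (238217, 14), (218323, 15), (255561, 16), (251480, 17), (321874, 18), (436646, 19), (501429, 20), (520303, 21),
      (759540, 22), (455520, 23), (887576, 24), (887576, 25), (1189556, 26), (1215061, 27), (1451747, 28), (1485414,
      29), (1660379, 30), (1709859, 31), (1670071, 32), (1676702, 33), (8672, 35), (77280, 36), (105846, 37)] 0
      100000 [] []]),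
  (7447745, 25, [.fk 0 [(6031, 9), (1191, 10), (49992, 12), (40359, 13), (75656, 14), (56071, 15), (112327, 17),
      (97350, 18), (64968, 19), (75607, 21), (111136, 22), (80298, 23), (208433, 24), (224145, 25), (257970, 26),
      (320992, 27), (360393, 28), (287482, 29), (362716, 30), (354584, 31), (450792, 32), (400752, 33)] 0 100000 []
      []]),
  (3298603, 41, [.fk 0 [(4603, 12), (3343, 13), (6794, 18), (5608, 19), (6274, 21), (7298, 22), (604, 23), (12474,
      24), (8862, 25), (10229, 26), (18676, 27), (14685, 28), (14041, 29), (16892, 30), (16914, 31), (16914, 32),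
      (14147, 33), (3541, 34), (1296, 37)] 0 10000 [] []]),
  (1157824, 54, [.fk 0 [(21241, 12), (39359, 13), (23324, 17), (52218, 23), (64643, 24), (40695, 25), (15966, 26),
      (82605, 27), (37207, 28), (42135, 29), (93972, 30), (36166, 31), (36166, 32), (68027, 33)] 0 100000 [] []]),
  (932873, 76, l23_0),
  (746297, 82, l24_0),
  (597036, 88, l25_0),
  (477628, 94, l26_0),
  (393556, 102, l27_0),
  (314844, 109, l28_0),
  (251874, 117, l29_0),
  (201498, 126, [.fk 24 [(1000000000000, 1)] 0 79405255 [(18, 1), (6, 2)] [], .fk 19 [(1000000000000, 1),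
      (26350322818, 21), (38984830193, 36), (63644953021, 37)] 0 27427511094 [(10, 1)] [(138711, 10, 2)], .fk 16
      [(1000000000000, 1), (13513513514, 35)] 0 560128958 [(17, 1), (5, 2)] [], .fk 17 [(1000000000000, 2),
      (171189773845, 5), (71976401180, 17), (522382005900, 34), (121116027532, 35), (107976892822, 37)] 0 48077422231
      [(16, 1)] [(86197, 10, 2)]]),
  (166032, 136, [.fk 24 [(1000000000000, 1)] 0 96366965 [(18, 1), (6, 2)] [], .fk 19 [(1000000000000, 1),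
      (27369281046, 35), (51266339869, 37)] 0 14004387531 [(9, 1)] [(200673, 10, 2)], .fk 16 [(1000000000000, 1)] 0
      96366965 [(20, 1), (8, 2)] [], .fk 17 [(1000000000000, 2), (23809523810, 5), (598214285714, 34), (184523809524,
      35), (110119047619, 37)] 0 43365134432 [(16, 1)] []]),
  (132824, 145, l32_0),
  (116610, 156, [.fk 19 [(1000000000000, 1)] 0 137209502 [(16, 1)] [], .fk 16 [(1000000000000, 1)] 0 137209502 [(20,
      1), (8, 2)] [], .fk 17 [(1000000000000, 2), (513513513514, 5)] 0 9812333558 [(44, 1), (32, 2)] [], .fk 12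
      [(1000000000000, 3), (330065726194, 13), (223517152934, 17), (175480923373, 21), (532331075665, 34),
      (356850152292, 37)] 0 424924937434 [(20, 1)] [(320299, 10, 2)], .fk 8 [(169878170814, 17), (6590101454, 21),
      (206306787185, 24), (93542828972, 25), (146446698978, 28), (154710476991, 29), (558014225497, 34),
      (270926393109, 35)] 0 1000000000000 [(27, 1)] []]),
  (93287, 163, [.fk 16 [(1000000000000, 1)] 0 171513716 [(20, 1), (8, 2)] [], .fk 17 [(1000000000000, 2)] 0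
      2401192020 [(65, 1), (48, 2)] [], .fk 12 [(1000000000000, 3), (330065726194, 13), (223517152934, 17),
      (175480923373, 21), (532331075665, 34), (356850152292, 37)] 0 531161865578 [(20, 1)] [(320299, 10, 2)]]),
  (74628, 175, [.fk 16 [(1000000000000, 1)] 0 214396741 [(20, 1), (8, 2)] [], .fk 17 [(10000000000, 2)] 0 0 [(5, 1),
      (5, 2)] [], .fk 12 [(1000000000000, 3), (348249669749, 13), (238903566711, 17), (183124174373, 21),
      (869901750330, 34), (297246532365, 37)] 0 663446042437 [(20, 1)] []]),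
  (70045, 188, [.fk 16 [(10000000000, 1)] 0 0 [(1, 1)] [], .fk 17 [(10000000000, 2)] 0 0 [(5, 1), (5, 2)] [], .fk 12
      [(1000000000000, 3), (20270270270, 35)] 0 5500710933 [(25, 1)] []]),
  (56035, 193, [.fk 12 [(1000000000000, 3)] 0 4283037387 [(30, 1), (6, 2)] []]),
  (49195, 207, [.fk 12 [(1000000000000, 3)] 0 4878544568 [(30, 1), (6, 2)] []]),
  (39355, 217, []),
  (31483, 233, []),
  (25185, 251, []),
  (18362, 271, []),
  (228, 301, []),
  (147, 1298, [.fk 8 [(1000000000000, 1)] 0 108843537415 [(18, 1)] []]),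
  (137, 1504, []),
  (108, 1540, []),
  (85, 1668, []),
  (7, 1808, []),
  (6, 4356, [.fk 5 [] 1000000000000 0 [(12, 1)] []]),
  (4, 4629, []),
  (2, 5488, []),
  (1, 7915, [.fk 6 [] 1000000000000 0 [(2, 1)] [], .fk 4 [] 1000000000000 0 [(2, 1)] [], .fk 2 [] 1000000000000 0
      [(2, 1)] [], .fk 3 [] 1000000000000 0 [(2, 1)] [], .fk 1 [] 1000000000000 0 [(2, 1)] []])]

theorem okz : okZ D = true := by decide +kernel

theorem ok : chk D R nu [] (List.range' 1 (D.n - 1)) O 314843 0 20656944000 L = true :=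
  chk_of (by decide +kernel)

variable {K : Type} [Group K] [Finite K] {T : TD K D} {A : Subgroup K}

theorem res (H : Hy T R nu) (hb : ¬ Good A) (hA : A ≠ ⊤) : Res T A O 314843 :=
  H.res hb (pos_nil A) (sup_all A) Nat.card_pos
    ((H.card_le (md := 23) (by decide +kernel) hA).trans (by decide +kernel)) ok

theorem sup (H : Hy T R nu) (hb : ¬ Good A) (hA : A ≠ ⊤) : Nat.card A ≤ 314843 ∧ Sup T A S :=
  ⟨(res H hb hA).1, (res H hb hA).sup.mono (by decide +kernel)⟩

end Cfsg.Agent.N2.Sp.Co3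
end

-- part: N2/G2/List
section
set_option linter.all false
open scoped Cfsg.Agent.FastGrp

/-!
# N2 (S3519), `G₂(q)` and `³D₄(q)` : the list of the simple groups of small rank (helper87)
-/

set_option autoImplicit false

namespace Cfsg.Agent.N2.G2

open Cfsg Cfsg.Lie

namespace Ls

variable {p : ℕ} {S : Type} [Group S]

theorem l2 {F : Type} [Field F] [Fintype F] (h1 : Odd (Fintype.card F)) (h2 : 5 ≤ Fintype.card F)
    (e : Nonempty (S ≃* PSL 2 F)) : pL2 p S ∨ pL3 p S ∨ pX p S ∨ pFin p S := by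
  by_cases h : p ∣ Fintype.card F ∨ Fintype.card F = 5 ∨ Fintype.card F = 8 ∨ Fintype.card F = 9
  · exact .inl (.inl ⟨F, _, _, h, by omega, e⟩)
  · push Not at h
    obtain ⟨k, hk⟩ := id h1
    exact .inr (.inl ⟨F, _, _, .inl ⟨h1, h.1, by omega, h.2.2.2, e⟩⟩)

theorem l3 {F : Type} [Field F] [Fintype F] (h1 : Odd (Fintype.card F) ∨ p = 2) (e : Nonempty (S ≃* PSL 3 F)) :
    pL2 p S ∨ pL3 p S ∨ pX p S ∨ pFin p S := .inr (.inl ⟨F, _, _, .inr (.inl ⟨h1, e⟩)⟩)

theorem u3 {F : Type} [Field F] [Fintype F] {n : ℕ} (h0 : Fintype.card F = n ^ 2)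
    (h1 : Odd n ∨ (p = 2 ∧ 4 ≤ n) ∨ n = 4 ∨ n = 8) (e : Nonempty (S ≃* PSU 3 F n)) :
    pL2 p S ∨ pL3 p S ∨ pX p S ∨ pFin p S := .inr (.inl ⟨F, _, _, .inr (.inr ⟨n, h0, h1, e⟩)⟩)

theorem x (h : pX p S) : pL2 p S ∨ pL3 p S ∨ pX p S ∨ pFin p S := .inr (.inr (.inl h))

theorem fn (h : pFin p S) : pL2 p S ∨ pL3 p S ∨ pX p S ∨ pFin p S := .inr (.inr (.inr h))

variable [Finite S] [IsSimpleGroup S] (hG : ¬ IsMulCommutative S)
include hG

theorem odd (h3 : PRankLE 2 3 S) : pL2 p S ∨ pL3 p S ∨ pX p S ∨ pFin p S := by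
  by_cases h2 : PRankLE 2 2 S
  · rcases S0482.result hG h2 with ⟨F, _, _, h, h', e⟩ | ⟨F, _, _, h, e⟩ | ⟨F, _, _, q, h, h', e⟩ | ⟨F, _, _, h, e⟩ | h | h
    · exact l2 h h' e
    · exact l3 (.inl h) e
    · exact u3 h (.inl h') e
    · exact u3 (n := 4) h (.inr (.inr (.inl rfl))) e
    · exact fn (.inl h)
    · exact fn (.inr (.inl h))
  · rcases S1730.result hG h3 h2 with ⟨F, _, _, h, e⟩ | ⟨F, _, _, q, h, h', e⟩ | h | ⟨F, _, _, h, e | e | ⟨E, _, _, h', e⟩⟩ |
      h | h | h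
    · exact x (.inl ⟨F, _, _, .inl h, e⟩)
    · exact x (.inr (.inl ⟨F, _, _, q, .inl h, h', e⟩))
    · exact x (.inr (.inr (.inl h)))
    · exact .inl (.inl ⟨F, _, _, .inr (.inr (.inl h)), by omega, e⟩)
    · exact x (.inr (.inr (.inr (.inr (.inl ⟨F, _, _, h, ⟨e.some.trans (sz_four h).some.symm⟩⟩)))))
    · exact u3 (n := 8) h' (.inr (.inr (.inr rfl))) e
    · exact fn (.inr (.inr (.inl h)))
    · exact fn (.inr (.inr (.inr (.inl h))))
    · exact fn (.inr (.inr (.inr (.inr (.inl h)))))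

theorem qt (h : IsOnQTKEList S) : pL2 2 S ∨ pL3 2 S ∨ pX 2 S ∨ pFin 2 S := by
  have x2 : ∀ {P : Prop}, P → 2 = 2 ∧ P := fun h => ⟨rfl, h⟩
  rcases h with (((⟨F, _, _, h, h', e⟩ | ⟨F, _, _, n, h, h', e⟩ | h) | ⟨F, _, _, h, e | ⟨h', e⟩ | ⟨h', e⟩⟩ | h | h |
    ⟨F, _, _, n, h, h', e⟩ | h | h) | h | (h | h | h | h) | (⟨F, _, _, h, e⟩ | ⟨F, _, _, h, e | e | e⟩ | ⟨F, _, _, h, e | e⟩) |
    (h | h | h))
  · refine .inl (.inl ⟨F, _, _, .inl ?_, h', e⟩)
    obtain ⟨n, -, hn⟩ := FiniteField.card F 2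
    exact hn ▸ dvd_pow_self 2 n.ne_zero
  · exact u3 h' (.inr (.inl ⟨rfl, Nat.pow_le_pow_right two_pos h⟩)) e
  · exact x (.inr (.inr (.inr (.inl (x2 h)))))
  · exact l3 (.inr rfl) e
  · exact x (.inr (.inr (.inr (.inr (.inr (x2 (.inl ⟨F, _, _, h, h', e⟩)))))))
  · exact x (.inl ⟨F, _, _, .inr ⟨rfl, h'⟩, e⟩)
  · exact x (.inr (.inr (.inr (.inr (.inr (x2 (.inr (.inl h))))))))
  · exact x (.inr (.inr (.inr (.inr (.inr (x2 (.inr (.inr (.inl h)))))))))
  · exact x (.inr (.inl ⟨F, _, _, _, .inr rfl, h', e⟩))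
  · exact x (.inr (.inr (.inr (.inr (.inr (x2 (.inr (.inr (.inr (.inl h))))))))))
  · exact x (.inr (.inr (.inr (.inr (.inr (x2 (.inr (.inr (.inr (.inr h))))))))))
  · exact fn (.inr (.inr (.inr (.inr (.inr (x2 (.inl h)))))))
  · exact .inl (.inr (.inl h))
  · exact .inl (.inr (.inr h))
  · exact fn (.inr (.inr (.inr (.inr (.inr (x2 (.inr (.inl h))))))))
  · exact fn (.inr (.inr (.inr (.inr (.inr (x2 (.inr (.inr (.inl h)))))))))
  · have h1 := ClassicalGeometry.PSL2Basic.card_PSL2_gcd (F := F)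
    have h2 := H427.Fc.sixty_le ‹_› hG
    rw [Nat.card_congr e.some.toEquiv] at h2
    have h3 : 5 ≤ Fintype.card F := h.1.five_le_of_ne_two_of_ne_three
      (fun k => by rw [k] at h1; norm_num at h1; omega) fun k => by rw [k] at h1; norm_num at h1; omega
    exact l2 (h.1.odd_of_ne_two (by omega)) h3 e
  · exact l3 (.inr rfl) e
  · exact fn (.inr (.inr (.inr (.inr (.inr (x2 (.inr (.inr (.inr (.inl ⟨F, _, _, h, e⟩))))))))))
  · exact x (.inl ⟨F, _, _, .inl (by rw [h]; decide), e⟩)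
  · exact u3 (n := 3) h (.inl (by decide)) e
  · exact fn (.inr (.inr (.inr (.inr (.inr (x2 (.inr (.inr (.inr (.inr (.inl ⟨F, _, _, h, e⟩)))))))))))
  · exact fn (.inr (.inr (.inr (.inr (.inr (x2 (.inr (.inr (.inr (.inr (.inr (.inl h))))))))))))
  · exact fn (.inr (.inr (.inr (.inl h))))
  · exact fn (.inr (.inr (.inr (.inr (.inr (x2 (.inr (.inr (.inr (.inr (.inr (.inr h))))))))))))

theorem two (hC : Cf) (hq : ∀ r : ℕ, r.Prime → r ≠ 2 → PRankLE r 2 S) : pL2 2 S ∨ pL3 2 S ∨ pX 2 S ∨ pFin 2 S := by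
  by_cases hE : IsOfEvenCharacteristic S
  · exact qt hG (QTKE.onList QTKE.rows hG
      (fun r h1 h2 H _ => H583.SecRank.pRankLE_of_injective (hq r h1 h2) H.subtype H.subtype_injective) hE (hC S))
  · rcases StrQ.main (fun _ _ _ _ h1 h2 h3 => S1765.result h1 h2 h3) Omega.Quasithin.rows hG
      (fun _ _ _ _ _ _ _ => hC _) hq hE with h | h | ⟨r, h1, h2, F, _, _, ⟨h3, e⟩ | ⟨h3, e⟩ | ⟨h3, e⟩⟩
    · exact fn (.inl h)
    · exact fn (.inr (.inr (.inl h)))
    · have h4 := h1.odd_of_ne_two (by omega)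
      rcases h3 with h3 | h3
      · exact l2 (h3 ▸ h4) (h3 ▸ h2) e
      · exact l2 (h3 ▸ h4.pow) (h3 ▸ h2.trans (Nat.le_self_pow two_ne_zero r)) e
    · exact l3 (.inr rfl) e
    · exact u3 h3 (.inl (h1.odd_of_ne_two (by omega))) e

end Ls

/-- **[List]** -/
theorem boxList : BoxList := fun hC p S _ _ _ hG _ h2 h => by
  by_cases hp : p = 2
  · subst hp
    exact Ls.two hG hC fun r h1 h3 => h r h1 h3 h3
  · exact Ls.odd hG (h2 hp)

end Cfsg.Agent.N2.G2
end

-- part: N2/Sp2/Chk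
section
prune_inst 0x800000000000000000000000000000000000000000004000000000000010000000004000000000000000000001000000000000000000000000000000000000000000000000000000000000000000000000000000000000000000000000000000
set_option linter.all false
open scoped Cfsg.Agent.FastGrp

-- part: N2/Sp2/Rules
section
/-!
# N2 (S3519), sporadic groups: orders of bad subgroups with elements of prime power order, the rules (helper44)
-/

set_option autoImplicit false
set_option linter.unusedSectionVars false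

namespace Cfsg.Agent.N2.Sp2

open Cfsg Cfsg.Agent.FP3 Cfsg.Agent.TAB.Eng Cfsg.Agent.TAB.Use Cfsg.Agent.SB.SporL Cfsg.Agent.TH.Spor Cfsg.Agent.N2.Sp
open Subgroup

/-- the data of a prime: `p ^ F` is the part of the group order, `n = q m`, `k m` is the number of `p`-elements -/
structure Pd where
  p : ℕ
  F : ℕ
  q : ℕ
  m : ℕ
  k : ℕ

/-- the meaning of the data -/
structure Ok (D : Dat) (n : ℕ) (x : Pd) : Prop where
  hp : x.p.Prime
  hN : ∃ u, D.N = x.p ^ x.F * u ∧ ¬ x.p ∣ u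
  hq : ∃ a ≤ x.F, x.q = x.p ^ a
  hn : n = x.q * x.m
  hm : ¬ x.p ∣ x.m
  hk : x.k < x.q
  hk' : x.q ∣ x.k * x.m + 1

/-- the type `t` may have `k n / q` elements -/
noncomputable def al (D : Dat) (ν : List ℕ) (n q k t : ℕ) : Bool :=
  Nat.blt D.N ((D.N * k / (q * ntd ν 0 t)) ^ 3 * n)

/-- the allowed types of `p`-elements -/
noncomputable def AL (D : Dat) (ν S : List ℕ) (n : ℕ) (x : Pd) : List ℕ :=
  S.filter fun t => D.ord t % x.p == 0 && al D ν n x.q x.k t

/-- the Sylow subgroup is abelian -/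
noncomputable def ab (D : Dat) (ν S : List ℕ) (n : ℕ) (x : Pd) : Bool :=
  x.p ^ 2 % x.q == 0 || (x.p == 2 && (AL D ν S n x).all fun t => D.ord t == 2)

noncomputable def r3 (D : Dat) (ν S : List ℕ) (n : ℕ) (x : Pd) : Bool := (AL D ν S n x).all fun t => D.ord t != x.p

noncomputable def r4 (D : Dat) (ν S : List ℕ) (n : ℕ) (x : Pd) : Bool :=
  (List.range D.n).any fun i => Nat.blt 0 (D.cnt i) && x.p ^ x.F % D.ord i == 0 &&
    D.ord (D.pwf i (x.p ^ x.F / x.q)) != 1 && (AL D ν S n x).all fun t => t != D.pwf i (x.p ^ x.F / x.q)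

def r6 (x : Pd) : Bool := Nat.blt (x.k * x.m + 1) x.q || (x.k * x.m + 1 == x.q && x.q != x.p ^ x.F)

noncomputable def r7 (D : Dat) (ν S : List ℕ) (n : ℕ) (L : List Pd) (x : Pd) : Bool :=
  ab D ν S n x && ((x.q - 1) % x.k != 0 || x.m % ((x.q - 1) / x.k) != 0 ||
    (x.p != 2 && (x.q - 1) / x.k % 2 == 0 && L.any fun y => y.p != 2 && y.p != x.p && (x.q - 1) / x.k % y.p == 0))

def r10 (n : ℕ) (x : Pd) : Bool := n == x.q && x.p != 2

noncomputable def r11 (D : Dat) (ν S : List ℕ) (n : ℕ) (x : Pd) : Bool :=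
  x.k * x.m + 1 == x.q && (ab D ν S n x || (x.p != 2 && n % 2 == 0)) &&
    S.all fun t => D.ord t != x.p || !al D ν n x.q (x.p - 1) t

def r12 (x : Pd) : Bool := x.p == 2 && x.m == 3 && x.q != x.p ^ x.F && Nat.blt 16 x.q

/-- the group is not `p`-local -/
noncomputable def loc (D : Dat) (ν S : List ℕ) (n : ℕ) (L : List Pd) (x : Pd) : Bool :=
  x.q == 1 || ((List.range x.F).all fun j => x.q % x.p ^ (j + 1) != 0 || (x.p ^ (j + 1) - 1) % x.m != 0 ||
    (x.p == 2 && j == 1 && Nat.ble 3 x.F && (List.range D.n).all fun i => D.ord i * 2 != 2 ^ x.F)) ||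
  (L.any fun y => y.p != 2 && y.p != x.p && y.q != 1 && (AL D ν S n y).all fun t => D.ord t != y.q) ||
  (x.p != 2 && n % 2 == 0 && x.k * x.m + 1 != x.q) || (x.p == 2 && n % 3 != 0 && x.q != x.p ^ x.F)

variable {K : Type} [Group K] [Finite K] [IsSimpleGroup K] {D : Dat} {T : TD K D} {R : Rows} {ν S : List ℕ}
  {A : Subgroup K} {Γ : Subgroup (MulAut K)} {x : Pd} {L : List Pd}

/-- the situation -/
structure Cx (T : TD K D) (R : Rows) (ν : List ℕ) (A : Subgroup K) (Γ : Subgroup (MulAut K)) (S : List ℕ) : Prop where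
  hy : _root_.Cfsg.Agent.N2.Sp.Hy T R ν
  unif : Unif T
  hn : ¬ IsMulCommutative K
  out : (Inn K).index ≤ 2
  mi : MI A Γ
  bad : ¬ _root_.Cfsg.Agent.FP3.Good A
  ep : Ep A
  sup : Sup T A S
  pos : ∀ t ∈ S, 0 < ntd ν 0 t

theorem Ok.np (h : Ok D (Nat.card A) x) (hE : Ep A) : np A x.p = x.k * x.m := by
  obtain ⟨a, -, e⟩ := h.hq
  exact hE.np_eq h.hp (e ▸ h.hn) h.hm (e ▸ h.hk) (e ▸ h.hk')

theorem Ok.syl (h : Ok D (Nat.card A) x) [Fact x.p.Prime] (P : Sylow x.p A) : Nat.card P = x.q := by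
  obtain ⟨a, -, e⟩ := h.hq
  exact e ▸ card_syl P (e ▸ h.hn) h.hm

theorem Ok.dvd (h : Ok D (Nat.card A) x) (h1 : x.q ≠ 1) : x.p ∣ Nat.card A := by
  obtain ⟨a, -, e⟩ := h.hq
  rw [h.hn, e]
  exact (dvd_pow_self _ fun h2 => h1 (by rw [e, h2, pow_zero])).mul_right _

theorem Ok.full (h : Ok D (Nat.card A) x) (hm : T.Mass) (h1 : ¬ x.p ∣ A.index) : x.q = x.p ^ x.F := by
  have := Fact.mk h.hp
  obtain ⟨P⟩ : Nonempty (Sylow x.p K) := inferInstance
  obtain ⟨a, -, e⟩ := h.hq
  obtain ⟨u, h2, h3⟩ := h.hN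
  rw [← card_syl P (hm.1.trans h2) h3, e]
  exact (card_syl P (by rw [← A.card_mul_index, h.hn, e, mul_assoc]) fun k => (h.hp.dvd_mul.1 k).elim h.hm h1).symm

theorem num_le_np {p t : ℕ} (h : p ∣ D.ord t) : num T A t ≤ np A p :=
  Nat.card_le_card_of_injective (β := {a : A // p ∣ orderOf a}) (fun s => ⟨s.1, by
    rw [← orderOf_coe, T.ord, s.2]; exact h⟩) fun _ _ e => Subtype.ext (congrArg Subtype.val e :)

theorem Cx.mem (C : Cx T R ν A Γ S) {a : K} (ha : a ∈ A) (h1 : a ≠ 1) : T.ty a ∈ S :=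
  (C.sup a ha).resolve_left fun e => h1 ((C.hy.zero a).1 e)

theorem Cx.al (C : Cx T R ν A Γ S) {a : K} (ha : a ∈ A) (h1 : a ≠ 1) {q m k : ℕ} (hn : Nat.card A = q * m)
    (hk : num T A (T.ty a) ≤ k * m) : al D ν (Nat.card A) q k (T.ty a) = true := by
  rw [Sp2.al, Nat.blt_eq]
  by_contra h
  have h0 : 0 < q * m := hn ▸ Nat.card_pos
  refine C.bad (good_of_le ha ((Nat.le_div_iff_mul_le (Nat.mul_pos (Nat.pos_of_mul_pos_right h0)
    (C.pos _ (C.mem ha h1)))).2 ?_) (C.hy.mass.1.symm ▸ not_lt.1 h :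
      (D.N * k / (q * ntd ν 0 (T.ty a))) ^ 3 * Nat.card A ≤ Nat.card K))
  refine Nat.le_of_mul_le_mul_right ?_ (Nat.pos_of_mul_pos_left h0)
  have h2 := (C.hy.den A a).trans (Nat.mul_le_mul_left _ hk)
  rw [hn] at h2
  calc _ = fx A a * (q * m) * ntd ν 0 (T.ty a) := by ring
    _ ≤ _ := h2
    _ = _ := by ring

theorem ne_one_of {p : ℕ} (hp : p.Prime) {a : K} (h : p ∣ orderOf a) : a ≠ 1 := fun e =>
  hp.one_lt.ne' (Nat.dvd_one.1 (by simpa [e] using h))

theorem Cx.AL (C : Cx T R ν A Γ S) (h : Ok D (Nat.card A) x) {a : K} (ha : a ∈ A) (h1 : x.p ∣ orderOf a) :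
    T.ty a ∈ AL D ν S (Nat.card A) x := by
  have h2 := ne_one_of h.hp h1
  rw [T.ord] at h1
  refine List.mem_filter.2 ⟨C.mem ha h2, ?_⟩
  rw [C.al ha h2 h.hn ((num_le_np h1).trans (h.np C.ep).le), Nat.mod_eq_zero_of_dvd h1]
  rfl

theorem Cx.ab (C : Cx T R ν A Γ S) (h : Ok D (Nat.card A) x) [Fact x.p.Prime] (P : Sylow x.p A)
    (h1 : ab D ν S (Nat.card A) x = true) : IsMulCommutative P := by
  simp only [Sp2.ab, Bool.or_eq_true, Bool.and_eq_true, beq_iff_eq, List.all_eq_true] at h1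
  rcases h1 with h1 | ⟨h1, h2⟩
  · exact ab_of_sq P (h.syl P ▸ Nat.dvd_of_mod_eq_zero h1)
  · refine ab_of_two _ fun a ha => ?_
    by_cases h3 : a = 1
    · rw [h3, mul_one]
    · have h4 := h2 _ (C.AL h a.2 (by rw [orderOf_coe]; exact dvd_ord h.hp P.isPGroup' ha h3))
      rw [← T.ord, orderOf_coe] at h4
      rw [← pow_two, ← h4, pow_orderOf_eq_one]

theorem Cx.r3 (C : Cx T R ν A Γ S) (h : Ok D (Nat.card A) x) (h0 : x.q ≠ 1) : r3 D ν S (Nat.card A) x ≠ true := by
  intro h1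
  have := Fact.mk h.hp
  obtain ⟨a, ha⟩ := exists_prime_orderOf_dvd_card' x.p (h.dvd h0)
  rw [← orderOf_coe] at ha
  have h2 := List.all_eq_true.1 h1 _ (C.AL h a.2 ha.symm.dvd)
  rw [← T.ord, ha] at h2
  simp at h2

theorem Cx.r4 (C : Cx T R ν A Γ S) (h : Ok D (Nat.card A) x) : r4 D ν S (Nat.card A) x ≠ true := by
  intro h1
  have := Fact.mk h.hp
  simp only [Sp2.r4, List.any_eq_true, Bool.and_eq_true, beq_iff_eq, List.all_eq_true, bne_iff_ne, Nat.blt_eq,
    List.mem_range] at h1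
  obtain ⟨i, h2, ⟨⟨h3, h4⟩, h5⟩, h6⟩ := h1
  rw [← C.hy.mass.2 i h2] at h3
  obtain ⟨⟨g, rfl⟩⟩ := (Nat.card_pos_iff.1 h3).1
  obtain ⟨P⟩ : Nonempty (Sylow x.p A) := inferInstance
  obtain ⟨u, h7, h8⟩ := h.hN
  obtain ⟨a, h9, e⟩ := h.hq
  have h10 := Nat.dvd_of_mod_eq_zero h4
  rw [← T.ord] at h10
  obtain ⟨t, ht⟩ := pow_into P (C.hy.mass.1.trans h7) h8 (d := x.p ^ x.F / x.q)
    (by rw [h.syl P]; exact Nat.mul_div_cancel' (e ▸ pow_dvd_pow _ h9)) h10
  rw [← T.pow] at h5 h6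
  rw [← T.ord] at h5
  obtain ⟨j, -, hj⟩ := (Nat.dvd_prime_pow h.hp).1 ((orderOf_pow_dvd (x.p ^ x.F / x.q)).trans h10)
  exact h6 _ (C.AL h ht (by
    rw [ord_conj, hj]
    exact dvd_pow_self _ fun k => h5 (by rw [hj, k, pow_zero]))) (T.conj _ _)

theorem Cx.normal (C : Cx T R ν A Γ S) (h : Ok D (Nat.card A) x) [Fact x.p.Prime] (P : Sylow x.p A)
    (h1 : x.k * x.m + 1 = x.q) : (P : Subgroup A).Normal :=
  normal_of_np P (by rw [h.np C.ep, h1, h.syl P])

theorem Cx.r6 (C : Cx T R ν A Γ S) (h : Ok D (Nat.card A) x) (h0 : x.q ≠ 1) : r6 x ≠ true := by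
  intro h1
  have := Fact.mk h.hp
  obtain ⟨P⟩ : Nonempty (Sylow x.p A) := inferInstance
  simp only [Sp2.r6, Bool.or_eq_true, Bool.and_eq_true, beq_iff_eq, bne_iff_ne, Nat.blt_eq] at h1
  rcases h1 with h1 | ⟨h1, h2⟩
  · have h2 := card_le_np P
    rw [h.np C.ep, h.syl P] at h2
    omega
  · have := C.normal h P h1
    exact h2 (h.full C.hy.mass (not_dvd_of_norm P (norm_of_normal C.mi P (h.dvd h0))))

theorem Ok.ti (h : Ok D (Nat.card A) x) (hE : Ep A) (h0 : x.q ≠ 1) [Fact x.p.Prime] (P : Sylow x.p A)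
    (hP : IsMulCommutative P) : x.k ∣ x.q - 1 ∧ (x.q - 1) / x.k ∣ x.m ∧
      Nat.card (normalizer (P : Set A)) = x.q * ((x.q - 1) / x.k) := by
  have h1 := hE.np_ti P hP
  obtain ⟨e, he⟩ : Nat.card P ∣ Nat.card (normalizer (P : Set A)) := card_dvd_of_le le_normalizer
  have h2 := (normalizer (P : Set A)).card_mul_index
  have h3 : 0 < x.q := h.syl P ▸ Nat.card_pos
  rw [h.syl P] at he h1
  rw [he, h.hn, mul_assoc] at h2
  have h4 := Nat.eq_of_mul_eq_mul_left h3 h2
  rw [h.np hE, ← h4, ← mul_assoc, mul_comm] at h1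
  have h5 := Nat.eq_of_mul_eq_mul_left (Nat.pos_of_ne_zero index_ne_zero_of_finite) h1
  have h6 : 0 < x.k := Nat.pos_of_mul_pos_right (h5 ▸ (by omega : 0 < x.q - 1))
  rw [← h5, Nat.mul_div_cancel_left _ h6]
  exact ⟨dvd_mul_right _ _, Dvd.intro _ h4, he⟩

theorem Cx.r7 (C : Cx T R ν A Γ S) (hL : ∀ y ∈ L, Ok D (Nat.card A) y) (h : Ok D (Nat.card A) x) (h0 : x.q ≠ 1) :
    r7 D ν S (Nat.card A) L x ≠ true := by
  intro h1
  have := Fact.mk h.hp
  obtain ⟨P⟩ : Nonempty (Sylow x.p A) := inferInstance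
  simp only [Sp2.r7, Bool.or_eq_true, Bool.and_eq_true, beq_iff_eq, bne_iff_ne, List.any_eq_true] at h1
  obtain ⟨h2, h3, h4⟩ := h.ti C.ep h0 P (C.ab h P h1.1)
  rcases h1.2 with (h5 | h5) | ⟨⟨h5, h6⟩, y, h7, ⟨h8, h9⟩, h10⟩
  · exact h5 (Nat.mod_eq_zero_of_dvd h2)
  · exact h5 (Nat.mod_eq_zero_of_dvd h3)
  · have : ((P : Subgroup A).subgroupOf (normalizer (P : Set A))).Normal := normal_in_normalizer
    refine ((C.ep.sub (normalizer (P : Set A))).odd_prime (Q := (P : Subgroup A).subgroupOf _)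
      (P.isPGroup'.comap_of_injective _ (subtype_injective _)) (fun e => P.ne_bot_of_dvd_card (h.dvd h0) ?_) h5
      (h4 ▸ (Nat.dvd_of_mod_eq_zero h6).mul_left _) (hL y h7).hp
      (h4 ▸ (Nat.dvd_of_mod_eq_zero h10).mul_left _)).elim h8 h9
    exact (subgroupOf_eq_bot.1 e).eq_bot_of_le le_normalizer

theorem Cx.r10 (C : Cx T R ν A Γ S) (h : Ok D (Nat.card A) x) : r10 (Nat.card A) x ≠ true := by
  intro h1
  have := Fact.mk h.hp
  simp only [Sp2.r10, Bool.and_eq_true, beq_iff_eq, bne_iff_ne] at h1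
  obtain ⟨a, -, e⟩ := h.hq
  exact not_pgroup C.hn C.mi h1.2 (IsPGroup.of_card (h1.1.trans e))

theorem Cx.r11 (C : Cx T R ν A Γ S) (h : Ok D (Nat.card A) x) (h0 : x.q ≠ 1) : r11 D ν S (Nat.card A) x ≠ true := by
  intro h1
  have := Fact.mk h.hp
  obtain ⟨P⟩ : Nonempty (Sylow x.p A) := inferInstance
  simp only [Sp2.r11, Bool.or_eq_true, Bool.and_eq_true, beq_iff_eq, bne_iff_ne, List.all_eq_true,
    Bool.not_eq_true'] at h1
  obtain ⟨⟨h2, h3⟩, h4⟩ := h1
  have := C.normal h P h2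
  have h5 : IsMulCommutative P := h3.elim (C.ab h P) fun h3 => C.ep.ab h3.1 (Nat.dvd_of_mod_eq_zero h3.2) P
  obtain ⟨a, ha⟩ := exists_prime_orderOf_dvd_card' x.p (h.dvd h0)
  have h6 : orderOf (a : K) = x.p := by rw [orderOf_coe, ha]
  have h7 := ne_one_of h.hp h6.symm.dvd
  have h8 := card_fus C.mi P h5 ha (fun b => T.ty b = T.ty a) fun b hb =>
    ⟨by rw [← orderOf_coe, T.ord, hb, ← T.ord, h6], C.unif _ _ (h6 ▸ h.hp) hb.symm⟩
  have h9 : (P : Subgroup A).index = x.m := by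
    have h10 := (P : Subgroup A).card_mul_index
    rw [h.hn, ← h.syl P] at h10
    exact Nat.eq_of_mul_eq_mul_left Nat.card_pos h10
  rcases h4 _ (C.mem a.2 h7) with h10 | h10
  · exact h10 (by rw [← T.ord, h6])
  · rw [C.al a.2 h7 h.hn (h9 ▸ h8)] at h10
    cases h10

theorem Cx.r12 (C : Cx T R ν A Γ S) (h : Ok D (Nat.card A) x) : r12 x ≠ true := by
  intro h1
  simp only [Sp2.r12, Bool.and_eq_true, beq_iff_eq, bne_iff_ne, Nat.blt_eq] at h1
  obtain ⟨⟨⟨h2, h3⟩, h4⟩, h5⟩ := h1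
  obtain ⟨a, -, e⟩ := h.hq
  have h6 := sims_mi C.hn C.out C.mi (a := a) (by rw [h.hn, e, h2, h3])
    (by_contra fun k => h4 (h.full C.hy.mass (h2 ▸ k)))
  rw [e, h2] at h5
  exact absurd (Nat.pow_le_pow_right two_pos h6) (by omega)

theorem Cx.loc (C : Cx T R ν A Γ S) (hL : ∀ y ∈ L, Ok D (Nat.card A) y) (h : Ok D (Nat.card A) x)
    (h0 : pCore x.p A ≠ ⊥) : loc D ν S (Nat.card A) L x ≠ true := by
  intro h1
  have := Fact.mk h.hp
  have := Lib.Cores.pCore_characteristic (G := A) x.p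
  have hQ := Lib.Cores.pCore_isPGroup (G := A) x.p
  obtain ⟨P, hP⟩ := hQ.exists_le_sylow
  obtain ⟨j, hj⟩ := IsPGroup.iff_card.1 hQ
  have h2 : x.p ^ j ∣ x.q := hj ▸ h.syl P ▸ card_dvd_of_le hP
  obtain ⟨j, rfl⟩ := Nat.exists_eq_succ_of_ne_zero fun e : j = 0 => h0 (card_eq_one.1 (by rw [hj, e, pow_zero]))
  have h3 : x.q ≠ 1 := fun e => h.hp.one_lt.ne' (Nat.dvd_one.1 ((dvd_pow_self _ j.succ_ne_zero).trans (e ▸ h2)))
  simp only [Sp2.loc, Bool.or_eq_true, Bool.and_eq_true, beq_iff_eq, bne_iff_ne, List.all_eq_true, List.any_eq_true,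
    List.mem_range, Nat.ble_eq] at h1
  rcases h1 with (((h1 | h1) | ⟨y, h4, ⟨⟨h5, h6⟩, h7⟩, h8⟩) | ⟨⟨h4, h5⟩, h6⟩) | ⟨⟨h4, h5⟩, h6⟩
  · exact h3 h1
  · obtain ⟨a, h4, e⟩ := h.hq
    rcases h1 j (((Nat.pow_dvd_pow_iff_le_right h.hp.one_lt).1 (e ▸ h2)).trans h4) with (h5 | h5) | ⟨⟨⟨h5, h6⟩, h7⟩, h8⟩
    · exact h5 (Nat.mod_eq_zero_of_dvd h2)
    · exact h5 (Nat.mod_eq_zero_of_dvd (hj ▸ C.ep.dvd_loc hQ (h.hn ▸ dvd_mul_left _ _) h.hm))
    · obtain ⟨u, h9, h10⟩ := h.hN
      rw [h5] at h9 h10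
      obtain ⟨g, hg⟩ := four C.mi C.ep (by rw [← h5, hj, h5, h6]; rfl) (C.hy.mass.1.trans h9) h10 h7
      exact h8 _ (T.lt g) (T.ord g ▸ hg)
  · have hy := hL y h4
    have := Fact.mk hy.hp
    obtain ⟨Y⟩ : Nonempty (Sylow y.p A) := inferInstance
    obtain ⟨a, ha⟩ := C.ep.cyc hQ h0 h6 h5 Y
    rw [hy.syl Y, ← orderOf_coe] at ha
    obtain ⟨b, -, e⟩ := hy.hq
    exact h8 _ (C.AL hy a.2 (by
      rw [ha, e]
      exact dvd_pow_self _ fun k => h7 (by rw [e, k, pow_zero]))) (T.ord _ ▸ ha)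
  · have := C.ep.normal hQ h0 h4 (Nat.dvd_of_mod_eq_zero h5) P
    exact h6 (by rw [← h.np C.ep, np_of_normal C.ep P, h.syl P])
  · exact h6 (h.full C.hy.mass (h4 ▸ two_free C.mi C.ep (h4 ▸ h0) (h4 ▸ h.dvd h3)
      fun k => h5 (Nat.mod_eq_zero_of_dvd k)))

end Cfsg.Agent.N2.Sp2
end

-- part: N2/Sp2/Chk
section
/-!
# N2 (S3519), sporadic groups: orders of bad subgroups with elements of prime power order, the check (helper44)
-/

set_option autoImplicit false
set_option linter.unusedSectionVars false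

namespace Cfsg.Agent.N2.Sp2

open Cfsg Cfsg.Agent.FP3 Cfsg.Agent.TAB.Eng Cfsg.Agent.TAB.Use Cfsg.Agent.SB.SporL Cfsg.Agent.TH.Spor Cfsg.Agent.N2.Sp
open Cfsg.Agent.SM.Sp (val cond_ff)
open Cfsg.Agent.OrdDiv (prodl)
open Subgroup

variable {K : Type} [Group K] [Finite K] [IsSimpleGroup K] {D : Dat} {T : TD K D} {R : Rows} {ν S : List ℕ}
  {A : Subgroup K} {Γ : Subgroup (MulAut K)} {x : Pd} {L : List Pd}

/-! ### vectors -/

/-- a vector from a function -/
def vec (n : ℕ) (f : ℕ → ℤ) : List ℤ := (List.range n).map f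

theorem val_vec (f : ℕ → ℤ) : val T A (vec D.n f) = vf T A f :=
  Finset.sum_congr rfl fun t ht => by
    rw [nth_eq, vec, List.getD_eq_getElem?_getD, List.getElem?_map, List.getElem?_range (Finset.mem_range.1 ht)]
    rfl

theorem vf_mul (c : ℤ) (F : ℕ → ℤ) : vf T A (fun t => c * F t) = c * vf T A F := by
  simp only [vf, Finset.mul_sum]
  exact Finset.sum_congr rfl fun t _ => by ring

theorem vf_ind (p : ℕ) (c : ℤ) : vf T A (fun t => cond (D.ord t % p == 0) c 0) = np A p * c := by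
  classical
  have := Fintype.ofFinite A
  have h := sum_num (T := T) A fun t => cond (D.ord t % p == 0) c 0
  simp only [nsmul_eq_mul] at h
  rw [vf, ← h, np, Nat.card_eq_fintype_card, Fintype.card_subtype, Finset.card_filter, Nat.cast_sum, Finset.sum_mul]
  refine Finset.sum_congr rfl fun a _ => ?_
  rw [← T.ord, orderOf_coe]
  by_cases h1 : p ∣ orderOf a
  · simp [h1, Nat.mod_eq_zero_of_dvd h1]
  · rw [if_neg h1, beq_eq_false_iff_ne.2 fun e => h1 (Nat.dvd_of_mod_eq_zero e)]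
    simp

theorem vf_zero (H : _root_.Cfsg.Agent.N2.Sp.Hy T R ν) (c : ℤ) : vf T A (fun t => cond (Nat.beq t 0) c 0) = c := by
  rw [vf_one (Nat.lt_of_le_of_lt (Nat.zero_le _) (T.lt 1)), H.num0, Nat.cast_one, one_mul]

/-- the number of `p`-elements -/
def eqv (D : Dat) (x : Pd) (s : ℤ) : List ℤ :=
  vec D.n fun t => cond (D.ord t % x.p == 0) s 0 + cond (Nat.beq t 0) (-s * (x.k * x.m : ℕ)) 0

/-- the equations -/
def eqs (D : Dat) (L : List Pd) : List (List ℤ) := L.flatMap fun x => [eqv D x 1, eqv D x (-1)]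

/-- `s * num t + c` -/
def brv (D : Dat) (t : ℕ) (s c : ℤ) : List ℤ := vec D.n fun u => cond (Nat.beq u t) s 0 + cond (Nat.beq u 0) c 0

theorem val_brv (H : _root_.Cfsg.Agent.N2.Sp.Hy T R ν) {t : ℕ} (ht : t < D.n) (s c : ℤ) : val T A (brv D t s c) = num T A t * s + c := by
  rw [brv, val_vec, vf_add, vf_one ht, vf_zero H]

theorem Cx.eqs (C : Cx T R ν A Γ S) (hL : ∀ y ∈ L, Ok D (Nat.card A) y) : Pos T A (eqs D L) := by
  intro w hw
  obtain ⟨y, hy, hw⟩ := List.mem_flatMap.1 hw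
  have h : ∀ s, val T A (eqv D y s) = 0 := fun s => by
    rw [eqv, val_vec, vf_add, vf_ind, vf_zero C.hy, (hL y hy).np C.ep]
    ring
  simp only [List.mem_cons, List.not_mem_nil, or_false] at hw
  rcases hw with rfl | rfl <;> exact (h _).ge

theorem pos_cons {W : List (List ℤ)} (h : Pos T A W) {w : List ℤ} (hw : 0 ≤ val T A w) : Pos T A (w :: W) :=
  List.forall_mem_cons.2 ⟨hw, h⟩

/-! ### the multiplicities of the principal character -/

theorem mult_le {χ : K → ℂ} (h : IsIrrCharacter K χ) {B : Subgroup K} (hB : B ≤ A) [Fintype A] [Fintype B] {a b : ℕ}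
    (ha : ∑ s : A, χ s = (Nat.card A * a : ℕ)) (hb : ∑ s : B, χ s = (Nat.card B * b : ℕ)) : a ≤ b := by
  obtain ⟨n, ρ, -, rfl⟩ := h
  have key : ∀ (C : Subgroup K) [Fintype C] {c : ℕ}, ∑ s : C, ρ.character s = (Nat.card C * c : ℕ) →
      c = Module.finrank ℂ (Representation.invariants (ρ.comp C.subtype)) := fun C _ c hc => by
    have h0 : (Nat.card C : ℂ) ≠ 0 := Nat.cast_ne_zero.2 Nat.card_pos.ne'
    have := invertibleOfNonzero h0
    have h2 := Representation.card_inv_mul_sum_char_eq_finrank (ρ.comp C.subtype)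
    rw [inv_mul_eq_iff_eq_mul₀ h0] at h2
    have h3 := hc.symm.trans h2
    rw [Nat.cast_mul] at h3
    exact_mod_cast mul_left_cancel₀ h0 h3
  rw [key A ha, key B hb]
  exact Submodule.finrank_mono fun v hv b => hv ⟨b, hB b.2⟩

theorem val_le (h : Tab T R) (hi : okIdx R = true) {B : Subgroup K} (hB : B ≤ A) (r : ℕ)
    (hr : ∀ p ∈ (ntd R.rel ([], []) r).1, 0 ≤ p.2) :
    Nat.card B * val T A (ntd R.rel ([], []) r).2 ≤ Nat.card A * val T B (ntd R.rel ([], []) r).2 := by
  have := Fintype.ofFinite A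
  have := Fintype.ofFinite B
  obtain ⟨χ, hE, hR⟩ := h
  obtain ⟨a, ha, -⟩ := SM.Sp.exists_mults hE A
  obtain ⟨b, hb, -⟩ := SM.Sp.exists_mults hE B
  obtain ⟨h1, h2⟩ := SM.Sp.val_mult hR hi ha r
  rw [h2, (SM.Sp.val_mult hR hi hb r).2, mul_left_comm]
  refine mul_le_mul_of_nonneg_left (mul_le_mul_of_nonneg_left (List.sum_le_sum fun p hp => ?_) (Int.natCast_nonneg _))
    (Int.natCast_nonneg _)
  exact mul_le_mul_of_nonneg_left (Int.ofNat_le.2 (mult_le (hE.irr _ (h1 p hp)) hB (ha _ (h1 p hp)) (hb _ (h1 p hp))))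
    (hr p hp)

/-- the inequality which comes from the normaliser of an abelian Sylow subgroup -/
noncomputable def mov (D : Dat) (n : ℕ) (x : Pd) (w : List ℤ) (b : ℕ) (M M' : ℤ) : List ℤ :=
  vec D.n fun t => -(b : ℤ) * nth w t + cond (Nat.beq t 0) (n * (nth w 0 + (x.q - 1) * M + (b - x.q) * M')) 0

theorem Cx.mov (C : Cx T R ν A Γ S) (h : Ok D (Nat.card A) x) (h0 : x.q ≠ 1)
    (h1 : Sp2.ab D ν S (Nat.card A) x = true)
    (hi : okIdx R = true) (r : ℕ) (hr : ∀ p ∈ (ntd R.rel ([], []) r).1, 0 ≤ p.2) {M M' : ℤ}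
    (hM : ∀ t ∈ S, x.q * ((x.q - 1) / x.k) % D.ord t = 0 →
      nth (ntd R.rel ([], []) r).2 t ≤ cond (D.ord t % x.p == 0) M M') :
    0 ≤ val T A (Sp2.mov D (Nat.card A) x (ntd R.rel ([], []) r).2 (x.q * ((x.q - 1) / x.k)) M M') := by
  have := Fact.mk h.hp
  obtain ⟨P⟩ : Nonempty (Sylow x.p A) := inferInstance
  obtain ⟨h2, h3, h4⟩ := h.ti C.ep h0 P (C.ab h P h1)
  set B := (normalizer (P : Set A)).map A.subtype
  have hB : B ≤ A := map_subtype_le _
  have h5 : Nat.card B = x.q * ((x.q - 1) / x.k) := (card_map_of_injective A.subtype_injective).trans h4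
  have h6 := val_le C.hy.tab hi hB r hr
  set w := (ntd R.rel ([], []) r).2
  have hE : Ep B := fun a p q hp hq k1 k2 => C.ep ⟨a, hB a.2⟩ p q hp hq (by rwa [← orderOf_coe] at k1 ⊢)
    (by rwa [← orderOf_coe] at k2 ⊢)
  have h7 : 0 < x.q := h.syl P ▸ Nat.card_pos
  have h8 : np B x.p = x.q - 1 := by
    obtain ⟨a, -, e⟩ := h.hq
    rw [hE.np_eq h.hp (h5.trans (congrArg (· * _) e)) (fun k => h.hm (k.trans h3)) (e ▸ h.hk) (by
      rw [Nat.mul_div_cancel' h2, Nat.sub_add_cancel h7, e]), Nat.mul_div_cancel' h2]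
  have h9 : val T B w ≤ vf T B fun t => (cond (D.ord t % x.p == 0) (M - M') 0 + cond (Nat.beq t 0) (nth w 0 - M') 0) + M' := by
    refine Finset.sum_le_sum fun t _ => ?_
    by_cases h10 : num T B t = 0
    · rw [h10, Nat.cast_zero, zero_mul, zero_mul]
    obtain ⟨b, hb, rfl⟩ := num_ne h10
    refine mul_le_mul_of_nonneg_left ?_ (Int.natCast_nonneg _)
    beta_reduce
    by_cases h11 : b = 1
    · rw [← T.ord, (C.hy.zero b).2 h11, h11, orderOf_one, Nat.mod_eq_of_lt h.hp.one_lt]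
      simp
    · have h12 := hM _ (C.mem (hB hb) h11) (by
        rw [← h5, ← T.ord]
        exact Nat.mod_eq_zero_of_dvd (B.orderOf_dvd_natCard hb))
      rw [Bool.eq_false_iff.2 fun e => h11 ((C.hy.zero b).1 (Nat.eq_of_beq_eq_true e))]
      generalize (D.ord (T.ty b) % x.p == 0) = z at h12 ⊢
      cases z <;> simpa only [_root_.cond_false, _root_.add_zero, _root_.zero_add, _root_.ge_iff_le, _root_.cond_true, _root_.sub_add_cancel] using h12
  rw [vf_add, vf_add, vf_ind, vf_zero C.hy, vf_const, h8, h5, Nat.cast_sub h7] at h9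
  rw [Sp2.mov, val_vec, vf_add, vf_mul, vf_zero C.hy]
  rw [h5] at h6
  have h10 := mul_le_mul_of_nonneg_left h9 (Int.natCast_nonneg (Nat.card A))
  have h11 : vf T A (nth w) = val T A w := rfl
  rw [h11]
  push_cast at h6 h10 ⊢
  linarith only [h6, h10]

/-! ### the rules -/

/-- one of the rules applies -/
noncomputable def kill (D : Dat) (ν S : List ℕ) (n : ℕ) (L : List Pd) : Bool :=
  Nat.ble n (L.map fun x => x.k * x.m).sum ||
  (L.any fun x => x.q != 1 && (r6 x || r10 n x || r12 x || r3 D ν S n x || r7 D ν S n L x || r11 D ν S n x || r4 D ν S n x)) ||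
  L.any fun x => L.any fun y => x.q * y.q % n == 0 && loc D ν S n L x && loc D ν S n L y

theorem Cx.kill (C : Cx T R ν A Γ S) (hL : ∀ y ∈ L, Ok D (Nat.card A) y) (hn : (L.map Pd.p).Nodup) :
    kill D ν S (Nat.card A) L ≠ true := by
  intro h
  simp only [Sp2.kill, Bool.or_eq_true, Bool.and_eq_true, List.any_eq_true, beq_iff_eq, bne_iff_ne, Nat.ble_eq] at h
  rcases h with (h | ⟨y, h1, h2, h⟩) | ⟨y, h1, z, h2, ⟨h3, h4⟩, h5⟩
  · have h1 := C.ep.sum_lt _ (fun p hp => by
      obtain ⟨y, hy, rfl⟩ := List.mem_map.1 hp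
      exact (hL y hy).hp) hn
    rw [List.map_map, List.map_congr_left (f := np A ∘ Pd.p) (g := fun x => x.k * x.m) fun y hy => (hL y hy).np C.ep] at h1
    omega
  · have h3 := hL y h1
    rcases h with (((((h | h) | h) | h) | h) | h) | h
    exacts [C.r6 h3 h2 h, C.r10 h3 h, C.r12 h3 h, C.r3 h3 h2 h, C.r7 hL h3 h2 h, C.r11 h3 h2 h, C.r4 h3 h]
  · have := (nontrivial_iff_ne_bot A).2 C.mi.ne_bot
    obtain ⟨a, -, e⟩ := (hL y h1).hq
    obtain ⟨b, -, e'⟩ := (hL z h2).hq
    have h6 := Nat.dvd_of_mod_eq_zero h3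
    rw [e, e'] at h6
    obtain ⟨r, h7, h8, h9⟩ := exists_core (hL y h1).hp (hL z h2).hp h6
    rcases h7.dvd_mul.1 (h8.trans h6) with h10 | h10
    · exact C.loc hL (hL y h1) ((Nat.prime_dvd_prime_iff_eq h7 (hL y h1).hp).1 (h7.dvd_of_dvd_pow h10) ▸ h9) h4
    · exact C.loc hL (hL z h2) ((Nat.prime_dvd_prime_iff_eq h7 (hL z h2).hp).1 (h7.dvd_of_dvd_pow h10) ▸ h9) h5

/-! ### the trees -/

/-- certificates -/
inductive Tr : Type
  | lf (c : List (ℕ × ℕ)) : Tr
  | kl : Tr
  | pw (t k : ℕ) (s : Tr) : Tr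
  | br (t p j : ℕ) (l r : Tr) : Tr
  | mo (p r : ℕ) (M M' : ℤ) (s : Tr) : Tr

/-- branching on the number of the elements of type `t` -/
noncomputable def evB (D : Dat) (ν : List ℕ) (n : ℕ) (L : List Pd) (t p j : ℕ) (il ir : List ℕ → List (List ℤ) → Bool)
    (S : List ℕ) (W : List (List ℤ)) : Bool :=
  L.any fun x => x.p == p && D.ord t % x.p == 0 && Nat.blt t D.n &&
    (frcLZ (brv D t (-1) (j * x.m : ℕ)) fun v => flt (fun u => !Nat.beq u t || al D ν n x.q j t) S fun S' =>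
      il S' (v :: W)) && frcLZ (brv D t 1 (-((j + 1) * x.m : ℕ))) fun v => ir S (v :: W)

/-- the normaliser of an abelian Sylow subgroup -/
noncomputable def evM (D : Dat) (R : Rows) (ν : List ℕ) (n : ℕ) (L : List Pd) (p r : ℕ) (M M' : ℤ)
    (ih : List ℕ → List (List ℤ) → Bool) (S : List ℕ) (W : List (List ℤ)) : Bool :=
  L.any fun x => x.p == p && x.q != 1 && ab D ν S n x && okIdx R &&
    (ntd R.rel ([], []) r).1.all (fun y => decide (0 ≤ y.2)) &&
    S.all (fun t => x.q * ((x.q - 1) / x.k) % D.ord t != 0 ||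
      decide (nth (ntd R.rel ([], []) r).2 t ≤ cond (D.ord t % x.p == 0) M M')) &&
    frcLZ (mov D n x (ntd R.rel ([], []) r).2 (x.q * ((x.q - 1) / x.k)) M M') fun v => ih S (v :: W)

/-- the check of a tree -/
noncomputable def ev (D : Dat) (R : Rows) (ν : List ℕ) (n : ℕ) (L : List Pd) (c : Tr) : List ℕ → List (List ℤ) → Bool :=
  Tr.rec (fun c S W => _root_.Cfsg.Agent.N2.Sp.far D ν W n n 0 S 0 c 0 0 [] []) (fun S _ => kill D ν S n L)
    (fun t k _ ih S W => cond (stp D ν W n n 0 S (.pw t k)) (flt (fun u => !Nat.beq u t) S fun S' => ih S' W) false)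
    (fun t p j _ _ => evB D ν n L t p j) (fun p r M M' _ => evM D R ν n L p r M M') c

theorem Cx.flt (C : Cx T R ν A Γ S) {f : ℕ → Bool} (h : ∀ a ∈ A, a ≠ 1 → f (T.ty a) = true) :
    Cx T R ν A Γ (S.filter f) :=
  { C with
    sup := fun a ha => (eq_or_ne a 1).imp (C.hy.zero a).2 fun e => List.mem_filter.2 ⟨C.mem ha e, h a ha e⟩
    pos := fun t ht => C.pos t (List.mem_filter.1 ht).1 }

theorem Cx.ev (hL : ∀ y ∈ L, Ok D (Nat.card A) y) (hn : (L.map Pd.p).Nodup) (c : Tr) :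
    ∀ {S : List ℕ} {W : List (List ℤ)}, Cx T R ν A Γ S → Pos T A W → ev D R ν (Nat.card A) L c S W ≠ true := by
  induction c with
  | lf c =>
    intro S W C hW h
    refine C.hy.far hW le_rfl le_rfl C.sup (a := 1) (Nat.zero_le _) (c := c) (x := 0) (y := 0) (p := []) (m := []) ?_
    rw [(C.hy.zero 1).2 rfl]
    exact h
  | kl => exact fun C _ h => C.kill hL hn h
  | pw t k s ih =>
    intro S W C hW h
    obtain ⟨h1, h2⟩ := cond_ff (show cond (stp D ν W _ _ 0 S (.pw t k)) (Sp.flt (fun u => !Nat.beq u t) S fun S' =>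
      Sp2.ev D R ν _ L s S' W) false = true from h)
    rw [flt_eq] at h2
    refine ih (C.flt fun a ha _ => ?_) hW h2
    rw [Bool.eq_false_iff.2 fun e : Nat.beq _ t = true =>
      C.hy.stp hW le_rfl le_rfl (fun _ _ => Nat.zero_le _) C.sup h1 ha (Nat.eq_of_beq_eq_true e)]
    rfl
  | br t p j l r il ir =>
    intro S W C hW h
    obtain ⟨y, h1, h2⟩ := List.any_eq_true.1 (show evB D ν _ L t p j (Sp2.ev D R ν _ L l) (Sp2.ev D R ν _ L r) S W = true
      from h)
    simp only [Bool.and_eq_true, beq_iff_eq, Nat.blt_eq, frcLZ_eq, flt_eq] at h2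
    obtain ⟨⟨⟨⟨rfl, h3⟩, h4⟩, h5⟩, h6⟩ := h2
    have hy := hL y h1
    obtain ⟨i, hi⟩ : y.m ∣ num T A t := C.ep.dvd hy.hp (fun s => T.ty s = t) (fun s g hs => (T.conj _ _).trans hs)
      (hy.hn ▸ dvd_mul_left _ _) hy.hm fun s hs => by
        rw [← orderOf_coe, T.ord, hs]
        exact Nat.dvd_of_mod_eq_zero h3
    rcases le_or_gt i j with h7 | h7
    · have h8 : num T A t ≤ j * y.m := by rw [hi, mul_comm]; exact Nat.mul_le_mul_right _ h7
      refine il (C.flt fun a ha e => ?_) (pos_cons hW ?_) h5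
      · by_cases h9 : T.ty a = t
        · rw [← h9, C.al ha e hy.hn (h9 ▸ h8), Bool.or_true]
        · rw [Bool.eq_false_iff.2 fun e => h9 (Nat.eq_of_beq_eq_true e)]
          rfl
      · rw [val_brv C.hy h4]
        omega
    · have h8 : (j + 1) * y.m ≤ num T A t := by rw [hi, mul_comm]; exact Nat.mul_le_mul_left _ h7
      refine ir C (pos_cons hW ?_) h6
      rw [val_brv C.hy h4]
      omega
  | mo p r M M' s ih =>
    intro S W C hW h
    obtain ⟨y, h1, h2⟩ := List.any_eq_true.1 (show evM D R ν _ L p r M M' (Sp2.ev D R ν _ L s) S W = true from h)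
    simp only [Bool.and_eq_true, bne_iff_ne, frcLZ_eq, List.all_eq_true, decide_eq_true_eq, Bool.or_eq_true] at h2
    obtain ⟨⟨⟨⟨⟨⟨-, h3⟩, h4⟩, h5⟩, h6⟩, h7⟩, h8⟩ := h2
    exact ih C (pos_cons hW (C.mov (hL y h1) h3 h4 h5 r h6 fun t ht e => (h7 t ht).resolve_left fun k => k e)) h8

/-! ### the enumeration -/

/-- the data of the primes -/
noncomputable def mkD (n : ℕ) (PL : List (ℕ × ℕ)) : (List Pd → Bool) → Bool :=
  List.rec (fun κ => κ []) (fun y _ ih κ => frc (Nat.gcd n (y.1 ^ y.2)) fun q => frc (n / q) fun m =>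
    frc ((q - (m % q) ^ (q - q / y.1 - 1) % q) % q) fun k =>
      Nat.blt k q && (k * m + 1) % q == 0 && m % y.1 != 0 && ih fun L => κ (⟨y.1, y.2, q, m, k⟩ :: L)) PL

theorem mkD_spec {n : ℕ} (PL : List (ℕ × ℕ)) (hP : ∀ y ∈ PL, y.1.Prime ∧ ∃ u, D.N = y.1 ^ y.2 * u ∧ ¬ y.1 ∣ u) :
    ∀ {κ : List Pd → Bool}, mkD n PL κ = true →
      ∃ L, κ L = true ∧ (∀ x ∈ L, Ok D n x) ∧ L.map (fun x => (x.p, x.F)) = PL := by
  induction PL with
  | nil => exact fun h => ⟨[], h, fun _ h => absurd h List.not_mem_nil, rfl⟩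
  | cons y PL ih =>
    intro κ h
    have h1 : (frc (Nat.gcd n (y.1 ^ y.2)) fun q => frc (n / q) fun m =>
      frc ((q - (m % q) ^ (q - q / y.1 - 1) % q) % q) fun k =>
      Nat.blt k q && (k * m + 1) % q == 0 && m % y.1 != 0 && mkD n PL fun L => κ (⟨y.1, y.2, q, m, k⟩ :: L)) = true := h
    simp only [frc_eq, Bool.and_eq_true, beq_iff_eq, bne_iff_ne, Nat.blt_eq] at h1
    obtain ⟨⟨⟨h2, h3⟩, h4⟩, h5⟩ := h1
    obtain ⟨L, h6, h7, h8⟩ := ih (fun z hz => hP z (List.mem_cons_of_mem _ hz)) h5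
    obtain ⟨h9, h10⟩ := hP y List.mem_cons_self
    exact ⟨_, h6, List.forall_mem_cons.2 ⟨⟨h9, h10, (Nat.dvd_prime_pow h9).1 (Nat.gcd_dvd_right _ _),
      (Nat.mul_div_cancel' (Nat.gcd_dvd_left _ _)).symm, fun k => h4 (Nat.mod_eq_zero_of_dvd k), h2,
      Nat.dvd_of_mod_eq_zero h3⟩, h7⟩, by rw [List.map_cons, h8]⟩

/-- the test for one order -/
noncomputable def leaf (D : Dat) (R : Rows) (ν : List ℕ) (O : Sp.Out) (U : ℕ) (PL : List (ℕ × ℕ)) (RES : List ℕ)
    (CT : List (ℕ × Tr)) (n : ℕ) : Bool :=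
  Nat.blt U n || n == 1 || RES.contains n ||
    frcL ((O.filter fun e => Nat.ble e.2.1 n && Nat.ble n e.2.2).map Prod.fst) fun S =>
      S.all (fun t => PL.any fun y => y.1 ^ y.2 % D.ord t == 0) && mkD n PL fun L => kill D ν S n L ||
        CT.any fun e => e.1 == n && flt (fun t => L.any fun x => D.ord t % x.p == 0 && al D ν n x.q x.k t) S fun S' =>
          Sp.frcW (eqs D L ++ rowsP R) fun W => ev D R ν n L e.2 S' W

/-- **the check**: `PL` lists the primes with their exponents in `D.N`, `RES` the orders which are left -/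
noncomputable def chk (D : Dat) (R : Rows) (ν : List ℕ) (O : Sp.Out) (U : ℕ) (PL : List (ℕ × ℕ)) (RES : List ℕ)
    (CT : List (ℕ × Tr)) : Bool :=
  PL.all (fun y => decide y.1.Prime && D.N % y.1 ^ y.2 == 0 && D.N / y.1 ^ y.2 % y.1 != 0) &&
    decide (PL.map Prod.fst).Nodup && D.N % prodl PL == 0 && Nat.gcd (prodl PL) (D.N / prodl PL) == 1 &&
    O.all (fun e => prodl PL % D.ord e.1 == 0 && Nat.blt 0 (ntd ν 0 e.1)) &&
    frcL ν fun ν' => allA (leaf D R ν' O U PL RES CT) PL 1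

/-- **the end game** -/
theorem main (H : _root_.Cfsg.Agent.N2.Sp.Hy T R ν) (hU : Unif T) (hn : ¬ IsMulCommutative K) (ho : (Inn K).index ≤ 2) (hm : MI A Γ)
    (hb : ¬ _root_.Cfsg.Agent.FP3.Good A) {O : Sp.Out} {U : ℕ} (hr : Res T A O U) {PL : List (ℕ × ℕ)} {RES : List ℕ} {CT : List (ℕ × Tr)}
    (h : chk D R ν O U PL RES CT = true) : Nat.card A ∈ RES := by
  simp only [chk, frcL_eq, Bool.and_eq_true, beq_iff_eq, bne_iff_ne, List.all_eq_true, decide_eq_true_eq,
    Nat.blt_eq] at h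
  obtain ⟨⟨⟨⟨⟨h1, h2⟩, h3⟩, h4⟩, h5⟩, h6⟩ := h
  have h7 : Nat.card A ∣ prodl PL := by
    have h8 := A.card_subgroup_dvd_card
    rw [H.mass.1, ← Nat.mul_div_cancel' (Nat.dvd_of_mod_eq_zero h3)] at h8
    refine Nat.Coprime.dvd_of_dvd_mul_right (Nat.coprime_of_dvd fun p hp k1 k2 => ?_) h8
    have := Fact.mk hp
    obtain ⟨a, ha⟩ := exists_prime_orderOf_dvd_card' p k1
    rw [← orderOf_coe] at ha
    obtain ⟨e, k3, k4, -⟩ := (hr.2 a a.2).resolve_left fun e => ne_one_of hp ha.symm.dvd ((H.zero _).1 e)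
    have k5 := Nat.dvd_of_mod_eq_zero (h5 e k3).1
    rw [← k4, ← T.ord, ha] at k5
    exact hp.one_lt.ne' (Nat.dvd_one.1 (h4 ▸ Nat.dvd_gcd k5 k2))
  have h8 := allA_spec (fun y hy => (h1 y hy).1.1) 1 _ h6 h7
  simp only [one_mul, leaf, frcL_eq, Bool.or_eq_true, Bool.and_eq_true, beq_iff_eq, Nat.blt_eq, List.all_eq_true,
    List.any_eq_true, List.contains_iff_mem] at h8
  rcases h8 with ((h8 | h8) | h8) | ⟨h8, h9⟩
  · exact absurd hr.1 (not_le.2 h8)
  · exact absurd (card_eq_one.1 h8) hm.ne_bot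
  · exact h8
  obtain ⟨L, h10, h11, h12⟩ := mkD_spec (D := D) PL (fun y hy => ⟨(h1 y hy).1.1, _,
    (Nat.mul_div_cancel' (Nat.dvd_of_mod_eq_zero (h1 y hy).1.2)).symm, fun k => (h1 y hy).2 (Nat.mod_eq_zero_of_dvd k)⟩) h9
  set S := (O.filter fun e => Nat.ble e.2.1 (Nat.card A) && Nat.ble (Nat.card A) e.2.2).map Prod.fst
  have hS : Sup T A S := fun a ha => (hr.2 a ha).imp id fun ⟨e, k1, k2, k3, k4⟩ => List.mem_map.2 ⟨e,
    List.mem_filter.2 ⟨k1, by rw [Nat.ble_eq_true_of_le k3, Nat.ble_eq_true_of_le k4]; rfl⟩, k2.symm⟩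
  have h13 : ∀ a ∈ A, a ≠ 1 → ∃ y ∈ L, orderOf a ∣ y.p ^ y.F := fun a ha e => by
    obtain ⟨y, k1, k2⟩ := h8 _ ((hS a ha).resolve_left fun k => e ((H.zero a).1 k))
    rw [← h12] at k1
    obtain ⟨z, k3, rfl⟩ := List.mem_map.1 k1
    exact ⟨z, k3, T.ord a ▸ Nat.dvd_of_mod_eq_zero k2⟩
  have C : Cx T R ν A Γ S := ⟨H, hU, hn, ho, hm, hb, fun a p q hp hq k1 k2 => by
    rw [← orderOf_coe] at k1 k2
    obtain ⟨y, k3, k4⟩ := h13 a a.2 (ne_one_of hp k1)
    rw [(Nat.prime_dvd_prime_iff_eq hp (h11 y k3).hp).1 (hp.dvd_of_dvd_pow (k1.trans k4)),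
      (Nat.prime_dvd_prime_iff_eq hq (h11 y k3).hp).1 (hq.dvd_of_dvd_pow (k2.trans k4))], hS, fun t ht => by
    obtain ⟨e, k1, rfl⟩ := List.mem_map.1 ht
    exact (h5 e (List.mem_filter.1 k1).1).2⟩
  have h14 : (L.map Pd.p).Nodup := by
    rw [← h12, List.map_map] at h2
    exact h2
  simp only [Bool.or_eq_true, Bool.and_eq_true, List.any_eq_true, flt_eq, Sp.frcW_eq] at h10
  rcases h10 with h10 | ⟨e, -, -, h10⟩
  · exact absurd h10 (C.kill h11 h14)
  refine absurd h10 (Cx.ev h11 h14 _ (C.flt fun a ha e => ?_) (H.pos (C.eqs h11)))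
  obtain ⟨y, k1, k2⟩ := h13 a ha e
  obtain ⟨j, -, k3⟩ := (Nat.dvd_prime_pow (h11 y k1).hp).1 k2
  exact List.any_eq_true.2 ⟨y, k1, (List.mem_filter.1 (C.AL (h11 y k1) ha (by
    rw [k3]
    exact dvd_pow_self _ fun k => e (orderOf_eq_one_iff.1 (by rw [k3, k, pow_zero]))))).2⟩

end Cfsg.Agent.N2.Sp2
end

private theorem dce_ff60a2c87913 : _root_.True := by
  try have : _root_.True := by simp only [_root_.Cfsg.Agent.N2.Sp2.r11.eq_1]
  try have : _root_.True := by simp only [_root_.Cfsg.Agent.N2.Sp2.loc.eq_1]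
  try have : _root_.True := by simp only [_root_.Cfsg.Agent.N2.Sp2.al.eq_1]
  try have : _root_.True := by simp only [_root_.Cfsg.Agent.N2.Sp2.vec.eq_1]
  try have : _root_.True := by simp only [_root_.Cfsg.Agent.N2.Sp2.chk.eq_1]
  try have : _root_.True := by simp only [_root_.Cfsg.Agent.N2.Sp2.mov.eq_1]
  try have : _root_.True := by simp only [_root_.Cfsg.Agent.N2.Sp2.r7.eq_1]
  try have : _root_.True := by simp only [_root_.Cfsg.Agent.N2.Sp2.kill.eq_1]
  try have : _root_.True := by simp only [_root_.Cfsg.Agent.N2.Sp2.r6.eq_1]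
  try have : _root_.True := by simp only [_root_.Cfsg.Agent.N2.Sp2.r10.eq_1]
  try have : _root_.True := by simp only [_root_.Cfsg.Agent.N2.Sp2.r12.eq_1]
  try have : _root_.True := by simp only [_root_.Cfsg.Agent.N2.Sp2.ab.eq_1]
  try have : _root_.True := by simp only [_root_.Cfsg.Agent.N2.Sp2.leaf.eq_1]
  try have : _root_.True := by simp only [_root_.Cfsg.Agent.N2.Sp2.eqv.eq_1]
  try have : _root_.True := by simp only [_root_.Cfsg.Agent.N2.Sp2.brv.eq_1]
  try have : _root_.True := by simp only [_root_.Cfsg.Agent.N2.Sp2.r4.eq_1]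
  exact _root_.True.intro
end
end

-- part: N2/Sp3/Epx
section
set_option linter.all false
open scoped Cfsg.Agent.FastGrp

-- part: N2/Sp3/K3
section
/-!
# N2 (S3519), sporadic rows: `{2,3,5}`-groups without normal subgroups of prime power order (helper23)
-/

set_option autoImplicit false
set_option linter.unusedSectionVars false

namespace Cfsg.Agent.N2.Sp3

open Cfsg Cfsg.Agent.FP3 Subgroup Equiv

/-- a `(3,2,5)`-triple -/
def Tri5 {G : Type*} [Group G] (x y : G) : Prop := orderOf x = 3 ∧ orderOf y = 2 ∧ orderOf (x * y) = 5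

theorem Tri5.map {G H : Type*} [Group G] [Group H] {x y : G} (h : Tri5 x y) (f : G →* H) (hf : Function.Injective f) :
    Tri5 (f x) (f y) :=
  ⟨(orderOf_injective f hf x).trans h.1, (orderOf_injective f hf y).trans h.2.1, by
    rw [← map_mul]; exact (orderOf_injective f hf _).trans h.2.2⟩

theorem tri_five : ∃ x y : alternatingGroup (Fin 5), Tri5 x y := by
  have := Fact.mk Nat.prime_three
  have : Fact (Nat.Prime 5) := ⟨by norm_num⟩
  refine ⟨⟨swap (0 : Fin 5) 2 * swap (2 : Fin 5) 4, Perm.mem_alternatingGroup.2 (by decide +kernel)⟩,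
    ⟨swap (0 : Fin 5) 1 * swap (2 : Fin 5) 3, Perm.mem_alternatingGroup.2 (by decide +kernel)⟩, ?_, ?_, ?_⟩ <;>
    exact orderOf_eq_prime (Subtype.ext (by decide +kernel)) fun e => absurd (congrArg Subtype.val e) (by decide +kernel)

theorem tri_six : ∃ x w : alternatingGroup (Fin 6), orderOf w = 4 ∧ Tri5 x (w ^ 2) := by
  have := Fact.mk Nat.prime_three
  have : Fact (Nat.Prime 5) := ⟨by norm_num⟩
  refine ⟨⟨swap (0 : Fin 6) 2 * swap (2 : Fin 6) 4, Perm.mem_alternatingGroup.2 (by decide +kernel)⟩,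
    ⟨swap (0 : Fin 6) 2 * swap (2 : Fin 6) 1 * swap (1 : Fin 6) 3 * swap (4 : Fin 6) 5, Perm.mem_alternatingGroup.2 (by decide +kernel)⟩, ?_, ?_, ?_, ?_⟩
  · exact orderOf_eq_prime_pow (p := 2) (n := 1) (fun e => absurd (congrArg Subtype.val e) (by decide +kernel))
      (Subtype.ext (by decide +kernel))
  all_goals
    exact orderOf_eq_prime (Subtype.ext (by decide +kernel)) fun e => absurd (congrArg Subtype.val e) (by decide +kernel)

variable {G : Type*} [Group G] [Finite G]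

theorem card_five : Nat.card (alternatingGroup (Fin 5)) = 60 := by
  have h := two_mul_nat_card_alternatingGroup (α := Fin 5)
  rw [Nat.card_perm, Nat.card_fin, show Nat.factorial 5 = 120 from rfl] at h
  omega

theorem card_six : Nat.card (alternatingGroup (Fin 6)) = 360 := by
  have h := two_mul_nat_card_alternatingGroup (α := Fin 6)
  rw [Nat.card_perm, Nat.card_fin, show Nat.factorial 6 = 720 from rfl] at h
  omega

theorem Tri5.top [IsSimpleGroup G] (hG : Nat.card G = 60) {x y : G} (h : Tri5 x y) : Subgroup.closure {x, y} = ⊤ := by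
  have hx : x ∈ Subgroup.closure {x, y} := _root_.Subgroup.subset_closure (by simp)
  have hy : y ∈ Subgroup.closure {x, y} := _root_.Subgroup.subset_closure (by simp)
  have h1 := h.1 ▸ orderOf_dvd_natCard _ hx
  have h2 := h.2.1 ▸ orderOf_dvd_natCard _ hy
  have h3 := h.2.2 ▸ orderOf_dvd_natCard _ (mul_mem hx hy)
  have h4 := (Subgroup.closure {x, y} : Subgroup G).card_mul_index
  have h5 : 30 ∣ Nat.card (Subgroup.closure {x, y} : Subgroup G) := by omega
  obtain ⟨k, hk⟩ := h5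
  rw [hG, hk] at h4
  have h6 : (Subgroup.closure {x, y} : Subgroup G).index ∣ 2 := Dvd.intro_left k (by linarith only [h4])
  rcases (Nat.dvd_prime Nat.prime_two).1 h6 with h7 | h7
  · exact index_eq_one.1 h7
  · refine (normal_of_index_eq_two h7).eq_bot_or_eq_top.resolve_left fun e => ?_
    rw [e, card_bot] at h1
    omega

theorem dvd_of_not_solv (h5 : ∀ r : ℕ, r.Prime → r ∣ Nat.card G → r ≤ 5) (h : ¬ Group.IsSolvable G) :
    (Nat.card G).primeFactors = {2, 3, 5} := by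
  refine Finset.eq_of_subset_of_card_le (fun r hr => ?_) (not_lt.1 fun k =>
    h (SolvableStructure.HallConverse.isSolvable_of_no_three_primes (Nat.le_of_lt_succ k)))
  have hp := Nat.prime_of_mem_primeFactors hr
  have h1 := h5 r hp (Nat.dvd_of_mem_primeFactors hr)
  have h2 := hp.two_le
  have h4 : r ≠ 4 := by
    rintro rfl
    norm_num at hp
  simp only [Finset.mem_insert, Finset.mem_singleton]
  omega

theorem exists_ord_of_not_solv (h5 : ∀ r : ℕ, r.Prime → r ∣ Nat.card G → r ≤ 5) {B : Subgroup G}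
    (h : ¬ Group.IsSolvable B) {r : ℕ} (hr : r ∈ ({2, 3, 5} : Finset ℕ)) : ∃ b ∈ B, orderOf b = r := by
  rw [← dvd_of_not_solv (fun r hr k => h5 r hr (k.trans B.card_subgroup_dvd_card)) h] at hr
  have := Fact.mk (Nat.prime_of_mem_primeFactors hr)
  obtain ⟨b, hb⟩ := exists_prime_orderOf_dvd_card' r (Nat.dvd_of_mem_primeFactors hr)
  exact ⟨b, b.2, by rw [orderOf_coe, hb]⟩

theorem rad_of_core (hO : ∀ p : ℕ, p.Prime → pCore p G = ⊥) (M : Subgroup G) (hM : M.Normal) (h : Group.IsSolvable M) :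
    M = ⊥ := by
  by_contra h0
  have := (nontrivial_iff_ne_bot M).2 h0
  obtain ⟨r, hr, h1⟩ := SB.Red.exists_pCore_ne_bot h
  have := Lib.Cores.pCore_characteristic (G := M) r
  have h2 := Lib.Cores.le_pCore (N := (pCore r M).map M.subtype) inferInstance ((Lib.Cores.pCore_isPGroup r).map _)
  rw [hO r hr, le_bot_iff, map_eq_bot_iff_of_injective _ M.subtype_injective] at h2
  exact h1 h2

theorem char_of_simple {S : Subgroup G} [hN : S.Normal] (hS : IsSimpleGroup S) (hC : centralizer (S : Set G) = ⊥) :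
    S.Characteristic := by
  refine characteristic_iff_le_comap.2 fun φ => ?_
  have h1 : (S.comap φ.toMonoidHom).Normal := hN.comap _
  rcases (h1.subgroupOf S).eq_bot_or_eq_top with h | h
  · have h2 : S.comap φ.toMonoidHom ≤ ⊥ := hC ▸ fun x hx => mem_centralizer_iff.2 fun y hy =>
      (commute_of_normal_of_disjoint S _ hN h1 (subgroupOf_eq_bot.1 h).symm y x hy hx).eq
    obtain ⟨⟨s, hs⟩, h3⟩ := exists_ne (1 : S)
    have h4 : φ.symm s = 1 := mem_bot.1 (h2 (show φ (φ.symm s) ∈ S by simpa using hs))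
    exact absurd (Subtype.ext (by simpa only [_root_.OneMemClass.coe_one, _root_.EmbeddingLike.map_eq_one_iff] using h4)) h3
  · exact subgroupOf_eq_top.1 h

theorem card_dvd_aut {S : Subgroup G} [S.Normal] (hC : centralizer (S : Set G) = ⊥) {H : Type*} [Group H] (e : S ≃* H) :
    Nat.card G ∣ Nat.card (MulAut H) := by
  rw [← Nat.card_congr (MulAut.congr e).toEquiv]
  refine card_dvd_of_injective (MulAut.conjNormal (H := S)) ((MonoidHom.ker_eq_bot_iff _).1 (eq_bot_iff.2 fun g hg => ?_))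
  rw [← hC]
  exact mem_centralizer_iff.2 fun s hs => (mul_inv_eq_iff_eq_mul.1
    (congrArg Subtype.val (MulEquiv.congr_fun (MonoidHom.mem_ker.1 hg) ⟨s, hs⟩))).symm

/-- **the non-local `{2,3,5}`-groups without elements of order `10`** -/
theorem k3 [Nontrivial G] (hO : ∀ p : ℕ, p.Prime → pCore p G = ⊥) (h5 : ∀ r : ℕ, r.Prime → r ∣ Nat.card G → r ≤ 5)
    (h10 : ∀ g : G, orderOf g ≠ 10) :
    (Nat.card G ∣ 120 ∧ ∃ S : Subgroup G, S.Characteristic ∧ centralizer (S : Set G) = ⊥ ∧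
      ∃ x y : G, Tri5 x y ∧ Subgroup.closure {x, y} = S) ∨
    (360 ∣ Nat.card G ∧ Nat.card G ∣ 1440 ∧ ∃ x w : G, orderOf w = 4 ∧ Tri5 x (w ^ 2)) ∨ 25920 ∣ Nat.card G := by
  obtain ⟨S, hN, hS, h1, hC⟩ := H366.AlmostSimple.exists_simple_normal (rad_of_core hO) fun A B hA hB h => by
    obtain ⟨a, ha, h2⟩ := exists_ord_of_not_solv h5 hA (r := 2) (by simp)
    obtain ⟨b, hb, h3⟩ := exists_ord_of_not_solv h5 hB (r := 5) (by simp)
    refine h10 (a * b) ?_
    rw [Commute.orderOf_mul_eq_mul_orderOf_of_coprime (h a ha b hb) (by rw [h2, h3]; norm_num), h2, h3]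
  have h2 := dvd_of_not_solv (fun r hr k => h5 r hr (k.trans S.card_subgroup_dvd_card)) h1
  have no : ∀ r n : ℕ, r.Prime → 5 < r → r ∣ n → Nat.card S ≠ n := fun r n hr k1 k2 k3 =>
    absurd (h5 r hr ((k3 ▸ k2).trans S.card_subgroup_dvd_card)) (by omega)
  rcases S3719.result (G := S) (fun h => h1 (IsSimpleGroup.comm_iff_isSolvable.1 h.is_comm.comm)) (by rw [h2]; rfl) with
    ⟨⟨e⟩⟩ | ⟨⟨e⟩⟩ | ⟨F, _, _, hF, ⟨e⟩⟩ | ⟨F, _, _, hF, ⟨e⟩⟩ | ⟨F, _, _, hF, ⟨e⟩⟩ | ⟨F, _, _, hF, ⟨e⟩⟩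
  · have h3 := card_dvd_aut hC e
    rw [← Nat.card_congr (Equiv.ofBijective _ (S2119.result 5 (by omega) (by omega))), Nat.card_perm, Nat.card_fin] at h3
    obtain ⟨x, y, h⟩ := tri_five
    have h4 := h.map e.symm.toMonoidHom e.symm.injective
    refine .inl ⟨h3, S, char_of_simple hS hC, hC, _, _, h4.map S.subtype S.subtype_injective, ?_⟩
    rw [← Set.image_pair, ← MonoidHom.map_closure, h4.top ((Nat.card_congr e.toEquiv).trans card_five),
      ← MonoidHom.range_eq_map, range_subtype]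
  · have h3 := card_dvd_aut hC e
    rw [H824.ProdLem.card_aut_a6] at h3
    obtain ⟨x, w, h4, h⟩ := tri_six
    have hf : Function.Injective (S.subtype.comp e.symm.toMonoidHom) := S.subtype_injective.comp e.symm.injective
    exact .inr (.inl ⟨((Nat.card_congr e.toEquiv).trans card_six) ▸ S.card_subgroup_dvd_card, h3, _, _,
      (orderOf_injective _ hf w).trans h4, map_pow (S.subtype.comp e.symm.toMonoidHom) w 2 ▸ h.map _ hf⟩)
  · exfalso
    have hc := Nat.card_congr e.toEquiv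
    rcases hF with hF | hF | hF <;> have h := S0243.result hF 2 le_rfl <;> rw [← hc] at h <;>
      simp only [Fin.prod_univ_two] at h <;> norm_num only [_root_.Fin.coe_ofNat_eq_mod, _root_.pow_zero, _root_.Nat.add_one_sub_one, _root_.pow_one, _root_.one_mul] at h
    · exact no 7 168 (by norm_num) (by norm_num) (by norm_num) (by omega)
    · exact no 7 504 (by norm_num) (by norm_num) (by norm_num) (by omega)
    · exact no 17 2448 (by norm_num) (by norm_num) (by norm_num) (by omega)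
  · exfalso
    have hc := Nat.card_congr e.toEquiv
    have h := S0243.result hF 3 (by norm_num)
    rw [← hc] at h
    simp only [Fin.prod_univ_three] at h
    norm_num only [_root_.one_mul, _root_.Fin.coe_ofNat_eq_mod, _root_.pow_zero, _root_.Nat.add_one_sub_one, _root_.pow_one] at h
    exact no 13 5616 (by norm_num) (by norm_num) (by norm_num) (by omega)
  · have hc := Nat.card_congr e.toEquiv
    rw [SmallSimple.PSLFacts.card_psu_three_three hF] at hc
    exact absurd hc (no 7 6048 (by norm_num) (by norm_num) (by norm_num))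
  · exact .inr (.inr (((Nat.card_congr e.toEquiv).trans (H93.ThreeNine.card_psu_four_two hF)) ▸
      S.card_subgroup_dvd_card))

/-- a triple which generates a characteristic subgroup with trivial centraliser -/
theorem free_of_mi {T : Type*} [Group T] [Finite T] [IsSimpleGroup T] (hn : ¬ IsMulCommutative T) {A : Subgroup T}
    {Γ : Subgroup (MulAut T)} (h : MI A Γ) {S : Subgroup A} (hS : S.Characteristic) (hC : centralizer (S : Set A) = ⊥)
    {x y : A} (hx : x ≠ 1) (e : Subgroup.closure {x, y} = S) {g : T} (h1 : g * x = x * g) (h2 : g * y = y * g) : g = 1 := by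
  have h3 : g ∈ centralizer (S.map A.subtype : Set T) := by
    rw [← e, MonoidHom.map_closure, Set.image_pair, centralizer_closure]
    rintro _ (rfl | rfl)
    exacts [h1.symm, h2.symm]
  have h4 : centralizer (S.map A.subtype : Set T) ≤ A := mi_le h (mi_char h S).centralizer fun k => by
    have h5 : (x : T) ∈ center T := mem_center_iff.2 fun t =>
      (mem_centralizer_iff.1 (k.ge (mem_top t)) x ⟨x, e ▸ _root_.Subgroup.subset_closure (by simp), rfl⟩).symm
    rcases (inferInstance : (center T).Normal).eq_bot_or_eq_top with h6 | h6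
    · exact hx (Subtype.ext (mem_bot.1 (h6 ▸ h5)))
    · exact hn ⟨⟨fun a b => mem_center_iff.1 (h6.ge (mem_top b)) a⟩⟩
  have h5 : (⟨g, h4 h3⟩ : A) ∈ centralizer (S : Set A) := mem_centralizer_iff.2 fun s hs =>
    Subtype.ext (mem_centralizer_iff.1 h3 s ⟨s, hs, rfl⟩)
  rw [hC, mem_bot] at h5
  exact congrArg Subtype.val h5

end Cfsg.Agent.N2.Sp3
end

-- part: N2/Sp3/Sc
section
/-!
# N2 (S3519), sporadic rows: class multiplication coefficients from the table (helper23)

`sc_free` : two elements with trivial common centraliser need a large coefficient; `sc_zero` : a coefficient which vanishes.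
-/

set_option autoImplicit false

namespace Cfsg.Agent.N2.Sp3

open Cfsg Cfsg.Agent.TAB Cfsg.Agent.TAB.Eng Cfsg.Agent.TAB.Use Cfsg.Agent.TH.Spor Cfsg.Agent.TwoF.SpO Cfsg.Agent.N2.SpK
open Subgroup

variable {G : Type} [Group G] [Finite G] {D : Dat} {T : TD G D} {R : Rows}

theorem le_cn (hm : T.Mass) (x : G) : D.N ≤ D.cnt (T.ty x) * cn x := by
  rw [← hm.1, ← card_class x, ← hm.2 _ (T.lt x)]
  exact Nat.mul_le_mul_right _ (Nat.card_le_card_of_injective (fun g => ⟨g.1, TD.ty_isConj g.2⟩)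
    fun _ _ e => Subtype.ext (congrArg Subtype.val e :))

theorem one_of_inv (hm : T.Mass) (hU : Unif T) {y : G} (hy : orderOf y = 2) : _root_.Cfsg.Agent.TAB.Eng.One T (T.ty y) := by
  refine ⟨y, rfl, le_of_eq ?_⟩
  rw [← card_class y, ← hm.2 _ (T.lt y)]
  refine congrArg (· * _) (Nat.card_congr (Equiv.subtypeEquivRight fun g => ⟨fun hg => ?_, TD.ty_isConj⟩))
  obtain ⟨k, hk⟩ := hU y g (hy ▸ Nat.prime_two) hg.symm
  rw [← pow_mod_orderOf, hy] at hk
  rcases Nat.mod_two_eq_zero_or_one k with e | e <;> rw [e] at hk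
  · rw [pow_zero, isConj_one_right] at hk
    have h1 := T.ord g
    rw [hg, ← T.ord, hy, hk, orderOf_one] at h1
    omega
  · rwa [pow_one] at hk

/-- the coefficients which give the characteristic function of the type `c` -/
noncomputable def scZ (D : Dat) (R : Rows) (c : ℕ) : List ℤ := zz D 2 [(1, c)] (irows R) ++ zz D 1 [(1, c)] (prows R)

/-- the check: `f V(c) (∑ z w(a) w(b))` -/
noncomputable def scB (D : Dat) (R : Rows) (c : ℕ) (P : List (ℕ × ℕ)) (f : ℕ × ℕ → ℤ → ℤ → Bool) : Bool :=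
  okT D R && Glue.frcM (irows R ++ prows R) fun W => frcLZ (scZ D R c) fun z =>
    frcLZ (accP z W (List.replicate D.n 0)) fun V =>
      allL (fun t => decide (0 ≤ nth V t)) (List.range D.n) && allL (fun p => f p (nth V c) (sumP p.1 p.2 z W)) P

theorem sc_spec (hm : T.Mass) (h : Tab T R) {c : ℕ} {P : List (ℕ × ℕ)} {f : ℕ × ℕ → ℤ → ℤ → Bool}
    (hc : scB D R c P f = true) {x y : G} (hy : _root_.Cfsg.Agent.TAB.Eng.One T (T.ty y)) (hP : (T.ty x, T.ty y) ∈ P) :
    ∃ L S : ℤ, f (T.ty x, T.ty y) L S = true ∧ ∀ {ι : Type} (g : ι → G), Function.Injective g →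
      (∀ i, T.ty (g i * x * (g i)⁻¹ * y) = c) → Nat.card ι * L ≤ D.N * S := by
  classical
  have := Fintype.ofFinite G
  rw [scB, Glue.frcM_eq, frcLZ_eq, frcLZ_eq, Bool.and_eq_true, Bool.and_eq_true] at hc
  obtain ⟨h1, h2, h3⟩ := hc
  have H := rw_of hm h h1
  refine ⟨_, _, allL_spec h3 _ hP, fun {ι} g hg hi => ?_⟩
  have h4 := sum_accP' x y (scZ D R c) _ _ (List.forall_mem_append.2 ⟨H.a y, H.b y hy⟩) (List.length_replicate (a := 0))
  have h5 : ∑ a, nth (List.replicate D.n 0) (T.ty (a * x * a⁻¹ * y)) = 0 :=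
    Finset.sum_eq_zero fun a _ => by
      rw [nth_eq, List.getD_eq_getElem _ _ (by rw [List.length_replicate]; exact T.lt _), List.getElem_replicate]
  have := Finite.of_injective g hg
  have := Fintype.ofFinite ι
  rw [h5, zero_add, hm.1] at h4
  rw [← h4, Nat.card_eq_fintype_card, ← Finset.card_univ, ← Finset.card_image_of_injective _ hg, ← nsmul_eq_mul,
    ← Finset.sum_const]
  refine le_trans (le_of_eq (Finset.sum_congr rfl fun a ha => ?_)) (Finset.sum_le_sum_of_subset_of_nonneg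
    (Finset.subset_univ _) fun a _ _ => of_decide_eq_true (allL_spec h2 _ (List.mem_range.2 (T.lt _))))
  obtain ⟨i, -, rfl⟩ := Finset.mem_image.1 ha
  rw [hi]

/-- **the coefficient vanishes** -/
theorem sc_zero (hm : T.Mass) (h : Tab T R) {c : ℕ} {P : List (ℕ × ℕ)}
    (hc : scB D R c P (fun _ L S => decide (D.N * S < L)) = true) {x y : G} (hy : _root_.Cfsg.Agent.TAB.Eng.One T (T.ty y))
    (hP : (T.ty x, T.ty y) ∈ P) : T.ty (x * y) ≠ c := fun e => by
  obtain ⟨L, S, h1, h2⟩ := sc_spec hm h hc hy hP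
  have h3 := h2 (fun _ : Unit => 1) (fun _ _ _ => rfl) fun _ => by simpa using e
  have h4 := of_decide_eq_true h1
  simp only [Nat.card_unique, Nat.cast_one, one_mul] at h3
  omega

omit [Finite G] in
theorem inj_cent {x y : G} (h : ∀ g : G, g * x = x * g → g * y = y * g → g = 1) :
    Function.Injective fun p : centralizer ({y} : Set G) × centralizer ({x} : Set G) => (p.1 : G) * p.2 := by
  rintro ⟨d, e⟩ ⟨d', e'⟩ (k : (d : G) * e = d' * e')
  have h1 : (d'⁻¹ * d : centralizer ({y} : Set G)) = ((e' * e⁻¹ : centralizer ({x} : Set G)) : G) := by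
    rw [coe_mul, coe_mul, coe_inv, coe_inv, inv_mul_eq_iff_eq_mul, ← mul_assoc, ← k, mul_inv_cancel_right]
  have h2 := h _ (h1 ▸ mem_centralizer_singleton_iff.1 (e' * e⁻¹).2) (mem_centralizer_singleton_iff.1 (d'⁻¹ * d).2)
  have h3 : d' = d := inv_mul_eq_one.1 (Subtype.ext h2)
  subst h3
  rw [Subtype.ext (mul_left_cancel k)]

/-- two elements with large centralisers -/
theorem cn_mul_le {x y : G} (h : ∀ g : G, g * x = x * g → g * y = y * g → g = 1) : cn y * cn x ≤ Nat.card G := by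
  rw [cn, cn, ← Nat.card_prod]
  exact Nat.card_le_card_of_injective _ (inj_cent h)

/-- **the coefficient is small** -/
theorem sc_free (hm : T.Mass) (h : Tab T R) {c : ℕ} {P : List (ℕ × ℕ)}
    (hc : scB D R c P (fun p L S => decide (0 ≤ L) && decide ((D.cnt p.1 * D.cnt p.2 : ℕ) * S < D.N * L)) = true)
    {x y : G} (hy : _root_.Cfsg.Agent.TAB.Eng.One T (T.ty y)) (hP : (T.ty x, T.ty y) ∈ P)
    (hf : ∀ g : G, g * x = x * g → g * y = y * g → g = 1) : T.ty (x * y) ≠ c := fun e => by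
  obtain ⟨L, S, h1, h2⟩ := sc_spec hm h hc hy hP
  have h3 := h2 _ (inj_cent hf) fun p => by
    have k1 := mem_centralizer_singleton_iff.1 p.1.2
    have k2 := mem_centralizer_singleton_iff.1 p.2.2
    rw [← e, ← T.conj (x * y) p.1, mul_inv_rev, mul_assoc (p.1 : G) p.2, k2]
    congr 1
    rw [mul_assoc _ _ y, mul_assoc _ _ y, (Commute.inv_left k1).eq]
    group
  rw [Bool.and_eq_true, decide_eq_true_eq, decide_eq_true_eq] at h1
  have h4 : (D.N : ℤ) ≤ D.cnt (T.ty x) * cn x := by exact_mod_cast le_cn hm x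
  have h5 : (D.N : ℤ) ≤ D.cnt (T.ty y) * cn y := by exact_mod_cast le_cn hm y
  have h0 : (0 : ℤ) < D.N := by exact_mod_cast hm.1 ▸ Nat.card_pos
  rw [Nat.card_prod] at h3
  change ((cn y * cn x : ℕ) : ℤ) * L ≤ _ at h3
  have h6 := mul_le_mul_of_nonneg_right (mul_le_mul h4 h5 h0.le (by (clear * -; positivity))) h1.1
  have h7 := mul_le_mul_of_nonneg_left h3 (Int.natCast_nonneg (D.cnt (T.ty x) * D.cnt (T.ty y)))
  have h8 := mul_lt_mul_of_pos_left h1.2 h0
  push_cast at h7 h8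
  linarith only [h6, h7, h8]

end Cfsg.Agent.N2.Sp3
end

-- part: N2/Sp3/Epx
section
/-!
# N2 (S3519), sporadic rows: groups with elements of order at most five, and small tools on types (helper23)
-/

set_option autoImplicit false
set_option linter.unusedSectionVars false

namespace Cfsg.Agent.N2.Sp3

open Cfsg Cfsg.Agent.FP3 Cfsg.Agent.TAB.Eng Cfsg.Agent.TAB.Use Cfsg.Agent.SB.SporL Cfsg.Agent.TH.Spor Cfsg.Agent.N2.Sp
open Cfsg.Agent.N2.Sp1 Cfsg.Agent.N2.Sp2 Subgroup

section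
variable {G : Type*} [Group G] [Finite G]

theorem ep_of (h : ∀ a : G, orderOf a ∣ 4 ∨ orderOf a = 3 ∨ orderOf a = 5) : Ep G := fun a p q hp hq h1 h2 => by
  have key : ∀ r k : ℕ, r.Prime → orderOf a ∣ r ^ k → p = q := fun r k hr e =>
    ((Nat.prime_dvd_prime_iff_eq hp hr).1 (hp.dvd_of_dvd_pow (h1.trans e))).trans
      ((Nat.prime_dvd_prime_iff_eq hq hr).1 (hq.dvd_of_dvd_pow (h2.trans e))).symm
  rcases h a with e | e | e
  exacts [key 2 2 Nat.prime_two e, key 3 1 Nat.prime_three e.dvd, key 5 1 (by norm_num) e.dvd]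

theorem ep_quot (h : Ep G) (N : Subgroup G) [N.Normal] : Ep (G ⧸ N) := fun a p q hp hq h1 h2 => by
  obtain ⟨a, rfl⟩ := QuotientGroup.mk'_surjective N a
  exact h a p q hp hq (h1.trans (orderOf_map_dvd _ a)) (h2.trans (orderOf_map_dvd _ a))

theorem ep_core_odd (h : Ep G) (hn : 30 ∣ Nat.card G) {p : ℕ} (hp : p.Prime) (h2 : p ≠ 2) : pCore p G = ⊥ := by
  by_contra h0
  have := Fact.mk hp
  have h1 := h.odd_prime (Lib.Cores.pCore_isPGroup p) h0 h2 (by omega) Nat.prime_three (by omega)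
  have h3 := h.odd_prime (Lib.Cores.pCore_isPGroup p) h0 h2 (by omega) (q := 5) (by norm_num) (by omega)
  omega

theorem ep_not_sq (h : Ep G) (h0 : pCore 2 G ≠ ⊥) {q : ℕ} (hq : q.Prime) (h2 : q ≠ 2) (ho : ∀ a : G, orderOf a < q ^ 2) :
    ¬ q ^ 2 ∣ Nat.card G := fun k => by
  have := Fact.mk hq
  obtain ⟨P⟩ : Nonempty (Sylow q G) := inferInstance
  obtain ⟨a, ha⟩ := h.cyc (Lib.Cores.pCore_isPGroup 2) h0 h2 h2 P
  exact absurd (Nat.le_of_dvd Nat.card_pos (P.pow_dvd_card_of_pow_dvd_card k)) (not_le.2 (ha ▸ ho a))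

theorem ep_no_ten (h : Ep G) (g : G) : orderOf g ≠ 10 := fun e =>
  absurd (h g 2 5 Nat.prime_two (by norm_num) (by rw [e]; norm_num) (by rw [e]; norm_num)) (by norm_num)

theorem conj_pow {p : ℕ} (hp : p.Prime) (h : ¬ p ^ 2 ∣ Nat.card G) {a b : G} (ha : orderOf a = p) (hb : orderOf b = p) :
    ∃ (g : G) (k : ℕ), b = g * a ^ k * g⁻¹ := by
  have := Fact.mk hp
  have key : ∀ c : G, orderOf c = p → ∃ P : Sylow p G, (P : Subgroup G) = zpowers c := fun c hc => by
    obtain ⟨P, hP⟩ := (IsPGroup.of_card (n := 1) (by rw [Nat.card_zpowers, hc, pow_one]) :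
      IsPGroup p (zpowers c)).exists_le_sylow
    obtain ⟨k, hk⟩ := IsPGroup.iff_card.1 P.isPGroup'
    refine ⟨P, (eq_of_le_of_card_ge hP ?_).symm⟩
    rw [Nat.card_zpowers, hc, hk]
    exact (Nat.pow_le_pow_right hp.pos (not_lt.1 fun e => h ((pow_dvd_pow p e).trans
      (hk ▸ card_subgroup_dvd_card _)))).trans (pow_one p).le
  obtain ⟨P, hP⟩ := key a ha
  obtain ⟨Q, hQ⟩ := key b hb
  obtain ⟨g, hg⟩ := MulAction.exists_smul_eq G P Q
  have h1 : b ∈ ((g • P : Sylow p G) : Subgroup G) := by rw [hg, hQ]; exact mem_zpowers b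
  rw [Sylow.coe_subgroup_smul, mem_pointwise_smul_iff_inv_smul_mem, hP, ← mem_powers_iff_mem_zpowers] at h1
  obtain ⟨k, hk⟩ := h1
  refine ⟨g, k, ?_⟩
  rw [show a ^ k = _ from hk]
  simp only [mul_assoc, _root_.MulAut.smul_def, _root_.MulAut.inv_apply, _root_.MulAut.conj_symm_apply, _root_.mul_inv_cancel_left, _root_.mul_inv_cancel, _root_.mul_one]

theorem primes_le {n m : ℕ} (h : n ∣ 30 ^ m) (r : ℕ) (hr : r.Prime) (k : r ∣ n) : r ≤ 5 := by
  have h1 : r ∣ 2 * 3 * 5 := hr.dvd_of_dvd_pow (k.trans h)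
  rcases hr.dvd_mul.1 h1 with e | e
  · exact (hr.dvd_mul.1 e).elim (fun e => (Nat.le_of_dvd two_pos e).trans (by norm_num))
      fun e => (Nat.le_of_dvd three_pos e).trans (by norm_num)
  · exact Nat.le_of_dvd (by norm_num) e

end

variable {K : Type} [Group K] [Finite K] {D : Dat} {T : TD K D} {R : Rows} {ν : List ℕ} {A : Subgroup K} {O : Sp.Out} {U : ℕ}

theorem res_perm (h : Res T A O U) {O' : Sp.Out} (h' : ∀ e ∈ O, e ∈ O') : Res T A O' U :=
  ⟨h.1, fun a ha => (h.2 a ha).imp id fun ⟨e, k, k'⟩ => ⟨e, h' e k, k'⟩⟩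

/-- the types of the elements of order `k` -/
theorem ty_mem (hz : D.ord 0 = 1) (h : Res T A O U) {n k : ℕ} (hn : Nat.card A ≤ n) {L : List ℕ}
    (hL : ∀ e ∈ O, e.2.1 ≤ n → D.ord e.1 = k → e.1 ∈ L) (hk : k ≠ 1) {a : K} (ha : a ∈ A) (ho : orderOf a = k) :
    T.ty a ∈ L := by
  rw [T.ord] at ho
  obtain ⟨e, h1, h2, h3, -⟩ := (h.2 a ha).resolve_left fun e => hk (by rw [← ho, e, hz])
  exact h2 ▸ hL e h1 (h3.trans hn) (h2 ▸ ho)

theorem vec_ne {v : List ℕ} (h : Vec T A v) {a : K} (ha : a ∈ A) : ntd v 0 (T.ty a) ≠ 0 :=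
  h _ (T.lt a) ▸ (num_pos ha).ne'

theorem vec_ex {v : List ℕ} (h : Vec T A v) {t : ℕ} (ht : t < D.n) (h0 : ntd v 0 t ≠ 0) : ∃ a ∈ A, T.ty a = t :=
  num_ne (h t ht ▸ h0)

theorem num_mono {B : Subgroup K} (h : B ≤ A) (t : ℕ) : num T B t ≤ num T A t :=
  Nat.card_le_card_of_injective (β := {s : A // T.ty s = t}) (fun s => ⟨⟨s.1, h s.1.2⟩, s.2⟩)
    fun _ _ e => Subtype.ext (Subtype.ext (congrArg (fun x => (x.1 : K)) e :))

/-- one type of elements of order `p` -/
theorem ty_pow {p : ℕ} (hp : p.Prime) (h : ¬ p ^ 2 ∣ Nat.card A) {a b : K} (ha : a ∈ A) (hb : b ∈ A) (h1 : orderOf a = p)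
    (h2 : orderOf b = p) : ∃ k < p, T.ty b = D.pwf (T.ty a) k := by
  obtain ⟨g, k, e⟩ := conj_pow hp h (a := ⟨a, ha⟩) (b := ⟨b, hb⟩) (by rw [orderOf_mk, h1]) (by rw [orderOf_mk, h2])
  refine ⟨k % p, Nat.mod_lt _ hp.pos, ?_⟩
  rw [← T.pow, ← h1, pow_mod_orderOf, ← T.conj (a ^ k) g]
  exact congrArg (fun x : A => T.ty x) e

/-- the extension of a normal `p`-subgroup by an element of prime order -/
theorem exists_ext {Q : Subgroup A} [Q.Normal] {q : ℕ} (hq : q.Prime) (h1 : ¬ q ∣ Nat.card Q) (h2 : q ∣ Nat.card A) :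
    ∃ B ≤ A, Nat.card B = Nat.card Q * q := by
  have := Fact.mk hq
  obtain ⟨u, hu⟩ := exists_prime_orderOf_dvd_card' q h2
  refine ⟨(Q ⊔ zpowers u).map A.subtype, map_subtype_le _, ?_⟩
  rw [card_map_of_injective A.subtype_injective, H134.Syl.card_sup_norm
    (fun k _ n hn => Normal.conj_mem inferInstance n hn k) fun x k1 k2 => ?_, Nat.card_zpowers, hu]
  have k3 := orderOf_dvd_natCard _ k2
  rw [Nat.card_zpowers, hu, Nat.dvd_prime hq] at k3
  exact orderOf_eq_one_iff.1 (k3.resolve_right fun e => h1 (e ▸ orderOf_dvd_natCard _ k1))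

end Cfsg.Agent.N2.Sp3
end

private theorem dce_1b9956b53291 : _root_.True := by
  try have : _root_.True := by simp only [_root_.Cfsg.Agent.N2.cn.eq_1]
  try have : _root_.True := by simp only [_root_.Cfsg.Agent.N2.Sp3.scB.eq_1]
  exact _root_.True.intro
end

-- part: N2/Sp3/LyG
section
set_option linter.all false
open scoped Cfsg.Agent.FastGrp

/-!
# N2 (S3519), the row of Ly: the group theory (helper23)
-/

set_option autoImplicit false
set_option maxHeartbeats 400000
set_option linter.unusedSectionVars false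

namespace Cfsg.Agent.N2.Sp3

open Cfsg Cfsg.Agent.FP3 Cfsg.Agent.N2.Sp2 Cfsg.Agent.N2.Sp4T Subgroup Equiv

theorem ct_two {α : Type*} [Fintype α] [DecidableEq α] {σ : Perm α} (h : orderOf σ = 2) :
    ∃ k, σ.cycleType = Multiset.replicate (k + 1) 2 ∧ σ.support.card = (k + 1) * 2 := by
  obtain ⟨k, hk⟩ := Perm.cycleType_prime_order (σ := σ) (h ▸ Nat.prime_two)
  rw [h] at hk
  exact ⟨k, hk, by rw [← Perm.sum_cycleType, hk, Multiset.sum_replicate, smul_eq_mul]⟩

theorem conj_two {α : Type*} [Fintype α] [DecidableEq α] {σ τ : Perm α} (h : orderOf σ = 2) (h' : orderOf τ = 2)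
    (e : σ.support.card = τ.support.card) : IsConj σ τ := by
  obtain ⟨k, h1, h2⟩ := ct_two h
  obtain ⟨l, h3, h4⟩ := ct_two h'
  rw [Perm.isConj_iff_cycleType_eq, h1, h3, show k = l by omega]

/-- the involutions of `A₁₁` are squares -/
theorem sq_eleven {σ : Perm (Fin 11)} (h : orderOf σ = 2) (hs : Perm.sign σ = 1) :
    ∃ ρ : Perm (Fin 11), Perm.sign ρ = 1 ∧ ρ * ρ = σ := by
  have key : ∀ ρ : Perm (Fin 11), Perm.sign ρ = 1 → (ρ * ρ) ^ 2 = 1 → ρ * ρ ≠ 1 → (ρ * ρ).support.card = σ.support.card →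
      ∃ ρ : Perm (Fin 11), Perm.sign ρ = 1 ∧ ρ * ρ = σ := fun ρ h1 h2 h3 h4 => by
    obtain ⟨g, rfl⟩ := isConj_iff.1 (conj_two (orderOf_eq_prime h2 h3) h h4)
    exact ⟨g * ρ * g⁻¹, by rw [Perm.sign_mul, Perm.sign_mul, h1, mul_one, ← Perm.sign_mul, mul_inv_cancel, Perm.sign_one],
      by group⟩
  obtain ⟨k, h1, h2⟩ := ct_two h
  have h3 := σ.support.card_le_univ
  rw [Perm.sign_of_cycleType, h1, Multiset.sum_replicate, Multiset.card_replicate, smul_eq_mul] at hs
  rw [Fintype.card_fin] at h3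
  have h4 : k < 5 := by omega
  interval_cases k
  · exact absurd hs (by decide)
  · exact key (swap (0 : Fin 11) 2 * swap (2 : Fin 11) 1 * swap (1 : Fin 11) 3 * swap (4 : Fin 11) 5) (by decide +kernel) (by decide +kernel) (by decide +kernel)
      (by rw [h2]; decide +kernel)
  · exact absurd hs (by decide)
  · exact key (swap (0 : Fin 11) 2 * swap (2 : Fin 11) 1 * swap (1 : Fin 11) 3 * (swap (4 : Fin 11) 6 * swap (6 : Fin 11) 5 * swap (5 : Fin 11) 7)) (by decide +kernel) (by decide +kernel)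
      (by decide +kernel) (by rw [h2]; decide +kernel)
  · exact absurd hs (by decide)

/-- every four-group is centralised by an element of order four -/
def Root4 (G : Type*) [Group G] : Prop :=
  ∀ z s : G, orderOf z = 2 → orderOf s = 2 → z * s = s * z → s ≠ z → ∃ u, u * z = z * u ∧ u * s = s * u ∧ orderOf u = 4

theorem root4_of {G : Type*} [Group G] (L : TypeM.Two.MT 11 G) : Root4 G := fun z s hz hs hc hne => by
  obtain ⟨h1, h2⟩ := TypeM.Two.MT.sq_of_orderOf hz
  obtain ⟨h3, h4⟩ := TypeM.Two.MT.sq_of_orderOf hs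
  obtain ⟨L, rfl⟩ := L.exists_rebase h1 h2
  let s' : centralizer ({L.t} : Set G) := ⟨s, L.mem_iff.2 hc.symm⟩
  have h5 : L.K.π s' ≠ 1 := fun e => ((L.K.ker s').1 e).elim (fun e => h4 (congrArg Subtype.val e))
    fun e => hne ((congrArg Subtype.val e).trans L.hz)
  have h6 : s' * s' = 1 := Subtype.ext h3
  obtain ⟨ρ, h7, h8⟩ := sq_eleven (σ := L.K.π s') (orderOf_eq_prime (by rw [pow_two, ← map_mul, h6, map_one]) h5)
    (Perm.mem_alternatingGroup.1 (L.K.range_eq ▸ ⟨s', rfl⟩))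
  obtain ⟨u, rfl⟩ : ρ ∈ L.K.π.range := L.K.range_eq.symm ▸ Perm.mem_alternatingGroup.2 h7
  have h9 := L.mem_iff.1 u.2
  have h10 : (u : G) * u = s ∨ (u : G) * u = L.t * s := by
    refine ((L.K.ker (u * u * s'⁻¹)).1 (by rw [map_mul, map_mul, h8, map_inv, mul_inv_cancel])).imp (fun e => ?_) fun e => ?_
    · exact congrArg Subtype.val (mul_inv_eq_one.1 e)
    · exact (congrArg Subtype.val (mul_inv_eq_iff_eq_mul.1 e)).trans (congrArg (· * s) L.hz)
  have h11 : L.t * s * (L.t * s) = 1 := by rw [mul_assoc, ← mul_assoc s, ← hc, mul_assoc, h3, mul_one, h1]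
  refine ⟨u, h9, ?_, orderOf_eq_prime_pow (p := 2) (n := 1) ?_ ?_⟩
  · rcases h10 with e | e
    · rw [← e, mul_assoc]
    · rw [← mul_right_inj L.t, ← mul_assoc, ← h9, mul_assoc, ← mul_assoc L.t s, ← e, mul_assoc]
  · rw [pow_one, pow_two]
    rcases h10 with e | e <;> rw [e]
    · exact h4
    · exact fun k => hne (by rw [← mul_right_inj L.t, k, h1])
  · rw [show 2 ^ (1 + 1) = 2 * 2 from rfl, pow_mul, pow_two, pow_two]
    rcases h10 with e | e <;> rw [e]
    exacts [h3, h11]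

theorem Root4.of_equiv {G H : Type*} [Group G] [Group H] (h : Root4 H) (e : G ≃* H) : Root4 G := fun z s hz hs hc hne => by
  obtain ⟨u, h1, h2, h3⟩ := h (e z) (e s) (by rw [e.orderOf_eq, hz]) (by rw [e.orderOf_eq, hs])
    (by rw [← map_mul, hc, map_mul]) fun k => hne (e.injective k)
  exact ⟨e.symm u, e.injective (by simpa using h1), e.injective (by simpa using h2), by rw [e.symm.orderOf_eq, h3]⟩

section
variable {G : Type*} [Group G] [Finite G]

theorem sq_one (n4 : ∀ a : G, orderOf a ≠ 4) {P : Subgroup G} (hP : IsPGroup 2 P) {x : G} (hx : x ∈ P) : x * x = 1 := by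
  have := Fact.mk Nat.prime_two
  obtain ⟨k, hk⟩ := IsPGroup.iff_orderOf.1 hP ⟨x, hx⟩
  rw [orderOf_mk] at hk
  rw [← pow_two, ← orderOf_dvd_iff_pow_eq_one, hk]
  match k with
  | 0 => exact one_dvd _
  | 1 => exact dvd_rfl
  | k + 2 =>
    obtain ⟨j, hj⟩ := Sp4.exists_four (a := x) (by rw [hk, pow_add]; exact Dvd.intro_left _ rfl)
    exact absurd hj (n4 _)

/-- a normal subgroup of order eight has a central involution -/
theorem central_of_eight (n4 : ∀ a : G, orderOf a ≠ 4) (h23 : ∀ r : ℕ, r.Prime → r ∣ Nat.card G → r = 2 ∨ r = 3)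
    {Q : Subgroup G} [Q.Normal] (hQ : Nat.card Q = 8) : ∃ z ∈ Q, z ≠ 1 ∧ z ∈ center G := by
  have := Fact.mk Nat.prime_two
  have := Fact.mk Nat.prime_three
  have h2 : IsPGroup 2 Q := IsPGroup.of_card (n := 3) hQ
  obtain ⟨P⟩ : Nonempty (Sylow 3 G) := inferInstance
  obtain ⟨S⟩ : Nonempty (Sylow 2 G) := inferInstance
  have hS := ab_of_two (S : Subgroup G) fun x hx => sq_one n4 S.isPGroup' hx
  have h3 : Q ≤ S := h2.le_sylow_of_normal S
  let φ : P →* MulAut Q := (MulAut.conjNormal (H := Q)).comp (P : Subgroup G).subtype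
  let _ : MulAction P Q := MulAction.compHom Q φ
  have h4 := P.isPGroup'.card_modEq_card_fixedPoints Q
  have h5 : 1 < Nat.card (MulAction.fixedPoints P Q) := by
    have : Nonempty (MulAction.fixedPoints P Q) := ⟨⟨1, fun g => map_one (φ g)⟩⟩
    have h5 : 0 < Nat.card (MulAction.fixedPoints P Q) := Nat.card_pos
    rw [hQ, Nat.ModEq] at h4
    omega
  obtain ⟨⟨⟨z, h6⟩, h7⟩, h8⟩ := @exists_ne _ (Finite.one_lt_card_iff_nontrivial.1 h5) ⟨1, fun g => map_one (φ g)⟩
  refine ⟨z, h6, fun e => h8 (Subtype.ext (Subtype.ext e)), ?_⟩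
  have h9 : centralizer ({z} : Set G) = ⊤ := by
    rw [← index_eq_one]
    by_contra h9
    obtain ⟨r, hr, h10⟩ := Nat.exists_prime_and_dvd h9
    rcases h23 r hr (h10.trans (index_dvd_card _)) with rfl | rfl
    · exact S.not_dvd_index (h10.trans (index_dvd_of_le fun x hx => mem_centralizer_singleton_iff.2
        (congrArg Subtype.val (hS.is_comm.comm (⟨x, hx⟩ : (S : Subgroup G)) ⟨z, h3 h6⟩))))
    · exact P.not_dvd_index (h10.trans (index_dvd_of_le fun x hx => mem_centralizer_singleton_iff.2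
        (mul_inv_eq_iff_eq_mul.1 (congrArg Subtype.val (h7 ⟨x, hx⟩)))))
  exact mem_center_iff.2 fun g => mem_centralizer_singleton_iff.1 (h9.ge (mem_top g))

/-- an involution which commutes with no element of order five -/
theorem normal_five (h0 : pCore 5 G ≠ ⊥) (h5 : ∀ r : ℕ, r.Prime → r ∣ Nat.card G → r ≤ 5) (h2 : 2 ∣ Nat.card G)
    (n10 : ∀ a : G, orderOf a ≠ 10) (n15 : ∀ a : G, orderOf a ≠ 15) (P : Sylow 5 G) : (P : Subgroup G).Normal := by
  have h55 : Nat.Prime 5 := by norm_num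
  have := Fact.mk h55
  have := Fact.mk Nat.prime_two
  have hQ := Lib.Cores.pCore_isPGroup (G := G) 5
  have no : ∀ (a : G) (r : ℕ), r = 2 ∨ r = 3 → ¬ r * 5 ∣ orderOf a := fun a r hr k => by
    have h := orderOf_pow_orderOf_div (orderOf_pos a).ne' k
    rcases hr with rfl | rfl
    exacts [n10 _ h, n15 _ h]
  have fpf : ∀ (a : G) (r : ℕ), r = 2 ∨ r = 3 → orderOf a = r → ∀ x ∈ pCore 5 G, Commute a x → x = 1 :=
    fun a r hr ha x hx hc => by_contra fun e => by
      obtain ⟨k, hk⟩ := IsPGroup.iff_orderOf.1 hQ ⟨x, hx⟩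
      rw [orderOf_mk] at hk
      refine no (a * x) r hr ?_
      rw [hc.orderOf_mul_eq_mul_orderOf_of_coprime (by
        rw [ha, hk]; rcases hr with rfl | rfl <;> exact Nat.Coprime.pow_right _ (by norm_num)), ha]
      exact Nat.mul_dvd_mul_left _ (dvd_ord h55 hQ hx e)
  obtain ⟨u, hu⟩ := exists_prime_orderOf_dvd_card' 2 h2
  let φ : G →* MulAut (pCore 5 G) := MulAut.conjNormal
  have h3 : MonoidHom.FixedPointFree (φ u) := fun y hy => Subtype.ext
    (fpf u 2 (.inl rfl) hu y y.2 (mul_inv_eq_iff_eq_mul.1 (congrArg Subtype.val hy :)))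
  have h4 := congrFun (h3.coe_eq_inv_of_involutive fun y => by
    rw [← MulAut.mul_apply, ← map_mul, ← pow_two, ← hu, pow_orderOf_eq_one, map_one, MulAut.one_apply])
  obtain ⟨⟨x, hx⟩, h6⟩ := ne_bot_iff_exists_ne_one.1 h0
  have h7 : orderOf (φ u) = 2 := ((Nat.dvd_prime Nat.prime_two).1 (hu ▸ orderOf_map_dvd φ u)).resolve_left fun e =>
    h6 (h3 _ (MulEquiv.congr_fun (orderOf_eq_one_iff.1 e) _))
  have h8 : IsPGroup 5 (centralizer (pCore 5 G : Set G)) := pgrp_of fun c hc r hr hd => by_contra fun e => by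
    have k1 := orderOf_pow_orderOf_div (orderOf_pos c).ne' hd
    have k2 := h5 r hr (hd.trans (orderOf_dvd_natCard c))
    have k3 := hr.two_le
    have k4 : r ≠ 4 := fun e => by rw [e] at hr; norm_num at hr
    exact h6 (Subtype.ext (fpf _ r (by omega) k1 x hx (mem_centralizer_iff.1 (pow_mem hc _) x hx).symm))
  rw [← P.is_maximal' h8 fun g hg => ?_]
  · infer_instance
  have h9 : φ g = 1 := by_contra fun h9 => by
    obtain ⟨k, hk⟩ := IsPGroup.iff_orderOf.1 P.isPGroup' ⟨g, hg⟩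
    rw [orderOf_mk] at hk
    obtain ⟨j, -, hj⟩ := (Nat.dvd_prime_pow h55).1 (hk ▸ orderOf_map_dvd φ g)
    have k1 : Commute (φ u) (φ g) := MulEquiv.ext fun x => by
      rw [MulAut.mul_apply, MulAut.mul_apply, h4, h4, map_inv]
    have k2 := orderOf_map_dvd φ (u * g)
    rw [map_mul, k1.orderOf_mul_eq_mul_orderOf_of_coprime (by
      rw [h7, hj]; exact Nat.Coprime.pow_right _ (by norm_num)), h7, hj] at k2
    exact no _ 2 (.inl rfl) ((Nat.mul_dvd_mul_left _ (dvd_pow_self 5 fun e => h9 (orderOf_eq_one_iff.1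
      (by rw [hj, e, pow_zero])))).trans k2)
  exact mem_centralizer_iff.2 fun x hx =>
    (mul_inv_eq_iff_eq_mul.1 (congrArg Subtype.val (MulEquiv.congr_fun h9 ⟨x, hx⟩) :)).symm

end

variable {K : Type} [Group K] [Finite K] [IsSimpleGroup K] {A : Subgroup K} {Γ : Subgroup (MulAut K)}

/-- **the `2`-local case** -/
theorem two_local (hn : ¬ IsMulCommutative K) (h4 : Root4 K) (hm : MI A Γ) (hc : IsCoatom A) (h0 : pCore 2 A ≠ ⊥)
    (hi : 2 ∣ A.index) (h32 : ¬ 32 ∣ Nat.card A) (h5 : ∀ r : ℕ, r.Prime → r ∣ Nat.card A → r ≤ 5)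
    (n4 : ∀ a : A, orderOf a ≠ 4) (n10 : ∀ a : A, orderOf a ≠ 10) (hz : ∀ z : K, orderOf z = 2 → Nat.card A < cn z) :
    False := by
  classical
  have := Fact.mk Nat.prime_two
  have hQ := Lib.Cores.pCore_isPGroup (G := A) 2
  have hce : ∀ z ∈ pCore 2 A, z ≠ 1 → z ∉ center A := fun z h1 h2 h3 => by
    have k1 : orderOf (z : K) = 2 := by
      rw [orderOf_coe]
      exact orderOf_eq_prime (by rw [pow_two, sq_one n4 hQ h1]) h2
    have k2 : A ≤ centralizer {(z : K)} := fun a ha =>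
      mem_centralizer_singleton_iff.2 (congrArg Subtype.val (mem_center_iff.1 h3 ⟨a, ha⟩))
    rcases k2.eq_or_lt with e | e
    · exact (hz z k1).ne (congrArg (fun H : Subgroup K => Nat.card H) e)
    · have k3 : (z : K) ∈ center K := mem_center_iff.2 fun g =>
        mem_centralizer_singleton_iff.1 ((hc.2 _ e).ge (mem_top g))
      rcases (inferInstance : (center K).Normal).eq_bot_or_eq_top with k4 | k4
      · exact h2 (Subtype.ext (mem_bot.1 (k4 ▸ k3)))
      · exact hn ⟨⟨fun a b => mem_center_iff.1 (k4.ge (mem_top b)) a⟩⟩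
  obtain ⟨k, hk⟩ := IsPGroup.iff_card.1 hQ
  have h6 := (pCore 2 A).card_subgroup_dvd_card
  have h7 : k < 5 := not_le.1 fun e => h32 ((pow_dvd_pow 2 e).trans (hk ▸ h6))
  have h8 : k ≠ 0 := fun e => h0 (card_eq_one.1 (by rw [hk, e, pow_zero]))
  obtain ⟨⟨z, z1⟩, z2⟩ := ne_bot_iff_exists_ne_one.1 h0
  have z3 : z ≠ 1 := fun e => z2 (Subtype.ext e)
  have ord : ∀ x ∈ pCore 2 A, x ≠ 1 → orderOf x = 2 := fun x hx e =>
    orderOf_eq_prime (by rw [pow_two, sq_one n4 hQ hx]) e
  have hzp : zpowers z ≤ pCore 2 A := zpowers_le.2 z1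
  have mem2 : ∀ x ∈ zpowers z, x = 1 ∨ x = z := fun x hx => by
    rw [mem_zpowers_iff_mem_range_orderOf, ord z z1 z3] at hx
    obtain ⟨i, hi, rfl⟩ := Finset.mem_image.1 hx
    have := Finset.mem_range.1 hi
    interval_cases i <;> simp
  interval_cases k
  · exact h8 rfl
  · refine hce z z1 z3 (mem_center_iff.2 fun g => ?_)
    have k1 : zpowers z = pCore 2 A := eq_of_le_of_card_ge hzp (by rw [hk, Nat.card_zpowers, ord z z1 z3]; rfl)
    exact mul_inv_eq_iff_eq_mul.1 ((mem2 _ (k1 ▸ Normal.conj_mem inferInstance z z1 g)).resolve_left fun e =>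
      z3 (by simpa using e))
  · obtain ⟨s, s1, s2⟩ := SetLike.exists_of_lt (hzp.lt_of_ne fun e => by
      rw [← e, Nat.card_zpowers, ord z z1 z3] at hk; omega)
    have s3 : s ≠ 1 := fun e => s2 (e ▸ one_mem _)
    have s4 : z * s = s * z := congrArg Subtype.val
      ((ab_of_two _ fun x hx => sq_one n4 hQ hx).is_comm.comm (⟨z, z1⟩ : pCore 2 A) ⟨s, s1⟩)
    obtain ⟨u, u1, u2, u3⟩ := h4 z s (by rw [orderOf_coe, ord z z1 z3]) (by rw [orderOf_coe, ord s s1 s3])
      (congrArg Subtype.val s4) fun e => s2 (Subtype.ext e ▸ mem_zpowers z)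
    have k1 : zpowers z ⊔ zpowers s = pCore 2 A := by
      have k1 : zpowers z < zpowers z ⊔ zpowers s := le_sup_left.lt_of_ne fun e => s2 (e ▸ mem_sup_right (mem_zpowers s))
      have k2 : zpowers z ⊔ zpowers s ≤ pCore 2 A := sup_le hzp (zpowers_le.2 s1)
      have k3 := card_dvd_of_le k2
      have k4 : Nat.card (zpowers z) < Nat.card ↥(zpowers z ⊔ zpowers s) :=
        not_le.1 fun e => k1.ne (eq_of_le_of_card_ge k1.le e)
      rw [Nat.card_zpowers, ord z z1 z3] at k4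
      rw [hk] at k3
      refine eq_of_le_of_card_ge k2 ?_
      obtain ⟨j, j1, j2⟩ := (Nat.dvd_prime_pow Nat.prime_two).1 k3
      rw [j2] at k4
      rw [hk, j2]
      interval_cases j <;> simp_all
    have k2 : u ∈ A := Sp4.cent_core_le hm h0 (mem_centralizer_iff.2 (by
      rintro _ ⟨x, hx, rfl⟩
      rw [← k1] at hx
      have k2 : zpowers z ⊔ zpowers s ≤ (centralizer {u}).comap A.subtype := sup_le
        (zpowers_le.2 (mem_centralizer_singleton_iff.2 u1.symm)) (zpowers_le.2 (mem_centralizer_singleton_iff.2 u2.symm))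
      exact mem_centralizer_singleton_iff.1 (k2 hx)))
    exact n4 ⟨u, k2⟩ (by rw [orderOf_mk, u3])
  · obtain ⟨y, y1, y2, y3⟩ := central_of_eight n4 (fun r hr hd => by
      have k2 := h5 r hr hd
      have k3 := hr.two_le
      have k4 : r ≠ 4 := fun e => by rw [e] at hr; norm_num at hr
      have k5 : r ≠ 5 := fun e => by
        subst e
        have := Fact.mk hr
        obtain ⟨u, hu⟩ := exists_prime_orderOf_dvd_card' 5 hd
        let φ : zpowers u →* MulAut (pCore 2 A) := (MulAut.conjNormal (H := pCore 2 A)).comp (zpowers u).subtype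
        let _ : MulAction (zpowers u) (pCore 2 A) := MulAction.compHom _ φ
        have k5 := (IsPGroup.of_card (n := 1) (by rw [Nat.card_zpowers, hu, pow_one]) :
          IsPGroup 5 (zpowers u)).card_modEq_card_fixedPoints (pCore 2 A)
        have k6 : 1 < Nat.card (MulAction.fixedPoints (zpowers u) (pCore 2 A)) := by
          have : Nonempty (MulAction.fixedPoints (zpowers u) (pCore 2 A)) := ⟨⟨1, fun g => map_one (φ g)⟩⟩
          have k6 : 0 < Nat.card (MulAction.fixedPoints (zpowers u) (pCore 2 A)) := Nat.card_pos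
          rw [hk, Nat.ModEq] at k5
          omega
        obtain ⟨⟨⟨x, x1⟩, x2⟩, x3⟩ := @exists_ne _ (Finite.one_lt_card_iff_nontrivial.1 k6) ⟨1, fun g => map_one (φ g)⟩
        have x4 : Commute u x := mul_inv_eq_iff_eq_mul.1 (congrArg Subtype.val (x2 ⟨u, mem_zpowers u⟩))
        have x5 := ord x x1 fun e => x3 (Subtype.ext (Subtype.ext e))
        exact n10 (u * x) (by rw [x4.orderOf_mul_eq_mul_orderOf_of_coprime (by rw [hu, x5]; norm_num), hu, x5])
      omega) hk
    exact hce y y1 y2 y3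
  · obtain ⟨P⟩ : Nonempty (Sylow 2 A) := inferInstance
    obtain ⟨j, hj⟩ := IsPGroup.iff_card.1 P.isPGroup'
    have k1 : pCore 2 A = P := eq_of_le_of_card_ge (hQ.le_sylow_of_normal P) (by
      rw [hk, hj]
      exact Nat.pow_le_pow_right two_pos (not_lt.1 fun e => h32 ((pow_dvd_pow 2 e).trans
        (hj ▸ card_subgroup_dvd_card _))))
    have : (P : Subgroup A).Normal := k1 ▸ inferInstance
    exact not_dvd_of_norm P (norm_of_normal hm P ((dvd_pow_self 2 h8).trans (hk ▸ h6))) hi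

end Cfsg.Agent.N2.Sp3
end

-- part: N2/SpK/RB
section
set_option linter.all false

/-!
# N2 (S3519), the sporadic rows: the types of the Mathieu groups and of `Co3` are rational classes (helper26)
-/

set_option autoImplicit false
set_option maxRecDepth 100000

namespace Cfsg.Agent.N2.SpK

open Cfsg Cfsg.Agent.TAB Cfsg.Agent.TAB.Eng Cfsg.Agent.TAB.Use Cfsg.Agent.TH.Spor Cfsg.Agent.TAB.Sm2

variable {K : Type} [Group K]

theorem inK_of_split {G : Type} [Group G] [Finite G] {D : Dat} {T : TD G D} {R : Rows} (h : Tab T R) (hm : T.Mass)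
    (P : List (ℕ × ℕ × ℕ)) (S : List (ℕ × ℕ × ℕ)) (h1 : okSp D R.n P (cpl D (P.map Prod.fst)) = true)
    (h2 : SB.SporL.covU D (cpl D (P.map Prod.fst)) = true) (h3 : okK D (cpl D (P.map Prod.fst)) S [] [] = true) :
    InK G D R [] := by
  have h4 := one_of_split h hm P h1
  have h5 := unif_of_one hm _ h2 h4
  exact ⟨T, hm, h, h5, kap_of_chk hm h5 h4 S (List.forall_mem_nil _) (List.forall_mem_nil _) h3⟩

theorem inK_m11 (h : Spor.IsoM11 K) : InK K M11.dat (mkRows M11.rA M11.rB) [] := by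
  obtain ⟨e⟩ := h
  obtain ⟨T, h1, h2, -⟩ := M11.tab
  have h4 := one_of_split h2 h1 [(6, 6, 1), (7, 7, 1)] (L := [0, 1, 2, 3, 4, 5]) (by decide +kernel)
  have h5 := unif_of_one h1 _ (by decide +kernel) h4
  refine InK.of_equiv ⟨T, h1, h2, h5, kap_of_chk h1 h5 h4 [] (X := [6]) (List.forall_mem_singleton.2 ?_)
    (List.forall_mem_nil _) (by decide +kernel)⟩ e
  exact KapT.of_norm h1 (f := 4) (Bnd.pow (k := 2) (bnd_of_one h1 (U := 8) (h4 3 (by decide)) (by decide) (by decide))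
    (by decide)) (by decide) (by decide) (by decide)

theorem inK_m12 (h : Spor.IsoM12 K) : InK K M12.dat (mkRows M12.rA M12.rB) [] := by
  obtain ⟨e⟩ := h
  obtain ⟨T, h1, h2, -⟩ := M12.tab
  exact (inK_of_split h2 h1 [(13, 13, 1)] []
    (by decide +kernel) (by decide +kernel) (by decide +kernel)).of_equiv e

theorem inK_m22 (h : Spor.IsoM22 K) : InK K M22.dat (mkRows M22.rA M22.rB) [] := by
  obtain ⟨e⟩ := h
  obtain ⟨T, h1, h2, -⟩ := M22.tab
  exact (inK_of_split h2 h1 [(7, 7, 1), (9, 9, 1)] []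
    (by decide +kernel) (by decide +kernel) (by decide +kernel)).of_equiv e

theorem inK_m23 (h : Spor.IsoM23 K) : InK K M23.dat (mkRows M23.rA M23.rB) [] := by
  obtain ⟨e⟩ := h
  obtain ⟨T, h1, h2, -⟩ := M23.tab
  exact (inK_of_split h2 h1 [(6, 9, 2), (8, 8, 1), (9, 9, 1), (10, 10, 1), (11, 11, 1)] [(9, 7, 1), (10, 5, 1)]
    (by decide +kernel) (by decide +kernel) (by decide +kernel)).of_equiv e

theorem inK_m24 (h : Spor.IsoM24 K) : InK K M24.dat (mkRows M24.rA M24.rB) [] := by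
  obtain ⟨e⟩ := h
  obtain ⟨T, h1, h2, -⟩ := M24.tab
  exact (inK_of_split h2 h1 [(11, 17, 2), (17, 17, 1), (18, 18, 1), (19, 19, 1), (20, 20, 1)] [(17, 7, 1), (18, 5, 1), (19, 7, 1)]
    (by decide +kernel) (by decide +kernel) (by decide +kernel)).of_equiv e

theorem inK_co3 (h : Spor.IsoCo3 K) : InK K Co3.D (mkRows Co3.A Co3.B) [] := by
  obtain ⟨e⟩ := h
  have := Co3.finite
  obtain ⟨T, hm, hs⟩ := Co3.seeded
  exact (inK_of_split (Co.tab_of_virt hm Co3.ok_one
    (Co.virt_of_certs hm.1 Co3.ok_primes hs (allL_spec Co3.ok_certs) Co3.ok_all) Co3.ok_rows).2 hm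
    [(23, 33, 2), (31, 31, 1), (33, 33, 1), (34, 34, 1)] [(31, 5, 1), (33, 11, 1)] (by decide +kernel)
    (by decide +kernel) (by decide +kernel)).of_equiv e

end Cfsg.Agent.N2.SpK
end

-- part: N2/Alt/Defs
section
set_option linter.all false

/-!
# N2 (S3519), alternating groups: the boxes (helper51)

`T = Alt(Ω)`, `|Ω| ≥ 7`, `H ≤ Sym(Ω)`, `A = H ∩ T`.
-/

set_option autoImplicit false

namespace Cfsg.Agent.N2.Alt

open Equiv Equiv.Perm MulAction Subgroup Cfsg.Agent.FP3

section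

variable {Ω : Type} [Fintype Ω] [DecidableEq Ω]

/-- `H ∩ Alt(Ω)` as a subgroup of `Alt(Ω)` -/
abbrev al (H : Subgroup (Perm Ω)) : Subgroup (alternatingGroup Ω) := H.subgroupOf (alternatingGroup Ω)

/-- the number of fixed points -/
noncomputable def nf (x : Perm Ω) : ℕ := Nat.card (fixedBy Ω x)

/-- a primitive group of degree at least 7 which does not contain the alternating group -/
structure Pr (H : Subgroup (Perm Ω)) : Prop where
  card : 7 ≤ Fintype.card Ω
  prim : IsPreprimitive H Ω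
  nle : ¬ alternatingGroup Ω ≤ H

/-- `N` is a transitive subgroup of `H ∩ Alt(Ω)` -/
structure NF (H N : Subgroup (Perm Ω)) : Prop extends Pr H where
  le : N ≤ H
  even : N ≤ alternatingGroup Ω
  tr : IsPretransitive N Ω

end

/-- the bound for the centraliser of a `p`-element with `f` fixed points on `f + p j` points -/
def cb (p f j : ℕ) : ℕ := f.factorial * p ^ j * j.factorial

/-- the stabiliser of a subset -/
def BoxIntr : Prop := ∀ (Ω : Type) [Fintype Ω] [DecidableEq Ω] (O : Finset Ω), 7 ≤ Fintype.card Ω → 1 ≤ O.card →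
  2 * O.card < Fintype.card Ω → Good (al (TH.Alt.SW O))

/-- the stabiliser of a partition into `b` blocks of size `k` -/
def BoxImp : Prop := ∀ (Ω : Type) [Fintype Ω] [DecidableEq Ω] (b k : ℕ) (f : Ω → Fin b), 7 ≤ Fintype.card Ω → 2 ≤ b →
  2 ≤ k → (∀ i, Nat.card {a // f a = i} = k) → Good (al (TH.Alt.Par f))

/-- the affine group -/
def BoxAff : Prop := ∀ (Ω : Type) [Fintype Ω] [DecidableEq Ω] (V : Subgroup (Perm Ω)) (p : ℕ), p.Prime →
  (∀ v ∈ V, v ^ p = 1) → (∀ v ∈ V, ∀ w ∈ V, v * w = w * v) → NF (normalizer (V : Set (Perm Ω))) V →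
  Good (al (normalizer (V : Set (Perm Ω))))

/-- almost simple groups with an alternating socle of degree at least 9 -/
def BoxAS : Prop := ∀ (Ω : Type) [Fintype Ω] [DecidableEq Ω] (H N : Subgroup (Perm Ω)) (m : ℕ), 9 ≤ m → NF H N →
  Nonempty (N ≃* alternatingGroup (Fin m)) → Nat.card H ≤ m.factorial → Good (al H)

/-- a non-abelian minimal normal subgroup -/
def BoxNA : Prop := ∀ (Ω : Type) [Fintype Ω] [DecidableEq Ω] (H : Subgroup (Perm Ω)) (N : Subgroup H) [N.Normal],
  NF H (N.map H.subtype) → (∀ M : Subgroup H, M.Normal → M ≤ N → M = ⊥ ∨ M = N) → (¬ ∀ x ∈ N, ∀ y ∈ N, Commute x y) →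
  Good (al H)

end Cfsg.Agent.N2.Alt
end
end
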